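/-
The tensor power of a Hermitian form, its isometry group, and the splitting off of one factor.
-/
import Cfsg.Agent.Lib.Classical.TensorPowerMax.Pure
import Cfsg.Agent.Lib.Classical.TensorPowerMax.Slice
import Cfsg.Agent.Lib.Classical.TensorPowerMax.Central
import Cfsg.Agent.Lib.Classical.TensorMax.Form.UTools
import Cfsg.Agent.Lib.Classical.FormClassify

set_option autoImplicit false
set_option linter.unusedSectionVars false

namespace Cfsg.Agent.Classical.TensorPowerMax.Unitary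

open Matrix Cfsg.Geo
open Cfsg.Agent.Classical
open Cfsg.Agent.Classical.TensorPowerMax
open Cfsg.Agent.Classical.TensorMax (kr kr_val kr_mul kr_one kr_inv)
open Cfsg.Agent.Classical.TensorMax.Form (UForm tm tf ctr Data Rt kr_tm)
open scoped Kronecker

variable {F : Type*} [Field F] {m t : ℕ}

/-- The tensor power of a form. -/
def tp (σ : F ≃+* F) (f : (Fin m → F) → (Fin m → F) → F) (t : ℕ) :
    ((Fin t → Fin m) → F) → ((Fin t → Fin m) → F) → F :=
  fun x y => formOfGram (σ : F → F) (pureM fun _ => gramMatrix f) x y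

/-- Its isometries of determinant one. -/
def Us (σ : F ≃+* F) (f : (Fin m → F) → (Fin m → F) → F) (t : ℕ) : Subgroup (GL (Fin t → Fin m) F) where
  carrier := {g | (g : Matrix (Fin t → Fin m) (Fin t → Fin m) F).det = 1 ∧ ∀ x y,
    tp σ f t ((g : Matrix (Fin t → Fin m) (Fin t → Fin m) F) *ᵥ x)
      ((g : Matrix (Fin t → Fin m) (Fin t → Fin m) F) *ᵥ y) = tp σ f t x y}
  one_mem' := ⟨by simp, fun x y => by simp⟩
  mul_mem' {g h} hg hh := ⟨by rw [Units.val_mul, Matrix.det_mul, hg.1, hh.1, one_mul],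
    fun x y => by rw [gl_mul_mulVec, gl_mul_mulVec, hg.2, hh.2]⟩
  inv_mem' {g} hg := ⟨by
      have h : ((g : Matrix (Fin t → Fin m) (Fin t → Fin m) F) *
          ((g⁻¹ : GL (Fin t → Fin m) F) : Matrix (Fin t → Fin m) (Fin t → Fin m) F)).det = 1 := by
        rw [Units.mul_inv, Matrix.det_one]
      rwa [Matrix.det_mul, hg.1, one_mul] at h,
    fun x y => by rw [← hg.2, gl_mulVec_inv_cancel, gl_mulVec_inv_cancel]⟩

/-- The stabiliser of the tensor power in it. -/
def Ns (σ : F ≃+* F) (f : (Fin m → F) → (Fin m → F) → F) (t : ℕ) : Subgroup (GL (Fin t → Fin m) F) :=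
  tensorWreathStandard m t F ⊓ Us σ f t

/-- The stabiliser is maximal. -/
def Maximal (σ : F ≃+* F) (f : (Fin m → F) → (Fin m → F) → F) (t : ℕ) : Prop :=
  ∀ X : Subgroup (GL (Fin t → Fin m) F), Ns σ f t ≤ X → X ≤ Us σ f t → X = Ns σ f t ∨ Us σ f t ≤ X

variable [Fintype F] {q : ℕ} {σ : F ≃+* F} {f : (Fin m → F) → (Fin m → F) → F}

/-- An overgroup of the stabiliser without all isometries. -/
structure Over (q : ℕ) (σ : F ≃+* F) (f : (Fin m → F) → (Fin m → F) → F)
    (X : Subgroup (GL (Fin (t + 1) → Fin m) F)) : Prop where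
  uf : UForm q σ f
  hm : 3 ≤ m
  hex : ¬ (q = 2 ∧ m = 3)
  ht : 0 < t
  le : Ns σ f (t + 1) ≤ X
  sl : X ≤ Us σ f (t + 1)
  notall : ¬ Us σ f (t + 1) ≤ X
  ih : Maximal σ f t

theorem tp_uform (U : UForm q σ f) (t : ℕ) : UForm q σ (tp σ f t) := by
  have hu : IsUnit (pureM fun _ : Fin t => gramMatrix f) := by
    obtain ⟨u, hu⟩ := U.refl.gram_isUnit
    exact ⟨TensorPowerMax.pureGL (fun _ => u), by rw [TensorPowerMax.pureGL_val]; simp only [hu]⟩
  have hd := ((Matrix.isUnit_iff_isUnit_det _).1 hu).ne_zero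
  have hsw : ∀ i j, (pureM fun _ : Fin t => gramMatrix f) j i = 1 * σ ((pureM fun _ : Fin t => gramMatrix f) i j) :=
    fun i j => by
      simp only [pureM, Matrix.of_apply, map_prod, one_mul]
      exact Finset.prod_congr rfl fun k _ => by rw [U.refl.gram_swap, one_mul]
  refine ⟨U.sig, ?_⟩
  have h := gramForm_reflex (ι := Fin t → Fin m) U.refl.invol hd hsw
  convert h using 1
  funext x y
  simp only [tp, formOfGram, gramForm, dotProduct, Matrix.mulVec, Function.comp_apply, Finset.mul_sum]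
  exact Finset.sum_congr rfl fun a _ => Finset.sum_congr rfl fun b _ => by ring

theorem data (U : UForm q σ f) (t : ℕ) : Data σ 1 1 (tp σ f t) f := ⟨(tp_uform U t).refl, U.refl⟩

theorem gram_tp (t : ℕ) : gramMatrix (tp σ f t) = pureM fun _ => gramMatrix f := by
  ext a b
  simp only [gramMatrix, tp, formOfGram]
  rw [Finset.sum_eq_single a (fun c _ hc => by simp [Pi.single_eq_of_ne hc]) (by simp),
    Finset.sum_eq_single b (fun c _ hc => by simp [Pi.single_eq_of_ne hc]) (by simp)]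
  simp

/-- The splitting of the form at a factor. -/
theorem tp_spl (i : Fin (t + 1)) (x y : (Fin (t + 1) → Fin m) → F) :
    tp σ f (t + 1) x y = tf σ (tp σ f t) f (x ∘ spl i) (y ∘ spl i) := by
  simp only [tf, gram_tp]
  simp only [tp, formOfGram, Function.comp_apply]
  rw [← (spl i).sum_comp]
  refine Finset.sum_congr rfl fun a _ => ?_
  rw [← (spl i).sum_comp]
  refine Finset.sum_congr rfl fun b _ => ?_
  congr 2
  simp only [pureM, Matrix.of_apply, kroneckerMap_apply]
  rw [Fin.prod_univ_succAbove _ i, mul_comm]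
  simp [spl]

theorem mem_us_iff (i : Fin (t + 1)) {g : GL ((Fin t → Fin m) × Fin m) F} :
    J i g ∈ Us σ f (t + 1) ↔ (g : Matrix ((Fin t → Fin m) × Fin m) ((Fin t → Fin m) × Fin m) F).det = 1 ∧
      ∀ x y, tf σ (tp σ f t) f ((g : Matrix ((Fin t → Fin m) × Fin m) ((Fin t → Fin m) × Fin m) F) *ᵥ x)
        ((g : Matrix ((Fin t → Fin m) × Fin m) ((Fin t → Fin m) × Fin m) F) *ᵥ y) = tf σ (tp σ f t) f x y := by
  refine ⟨fun h => ⟨J_det i g ▸ h.1, fun x y => ?_⟩, fun h => ⟨(J_det i g).symm ▸ h.1, fun x y => ?_⟩⟩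
  · have e := h.2 (x ∘ (spl i).symm) (y ∘ (spl i).symm)
    rw [tp_spl i, tp_spl i, J_mulVec, J_mulVec] at e
    simpa [Function.comp_assoc] using e
  · rw [tp_spl i, tp_spl i, J_mulVec, J_mulVec, h.2]

/-- Kronecker products of isometries are isometries. -/
theorem kr_iso {α β : Type} [Fintype α] [DecidableEq α] [Fintype β] [DecidableEq β] {εA εB : F}
    {fA : (α → F) → (α → F) → F} {fB : (β → F) → (β → F) → F} (D : Data σ εA εB fA fB) {a : GL α F} {b : GL β F}
    {μ ν : F} (ha : ∀ u v, fA ((a : Matrix α α F) *ᵥ u) ((a : Matrix α α F) *ᵥ v) = μ * fA u v)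
    (hb : ∀ u v, fB ((b : Matrix β β F) *ᵥ u) ((b : Matrix β β F) *ᵥ v) = ν * fB u v) (hμν : μ * ν = 1)
    (x y : α × β → F) :
    tf σ fA fB ((kr a b : Matrix (α × β) (α × β) F) *ᵥ x) ((kr a b : Matrix (α × β) (α × β) F) *ᵥ y) =
      tf σ fA fB x y := by
  conv_rhs => rw [TensorMax.Form.sum_rows x, TensorMax.Form.sum_rows y]
  conv_lhs => rw [TensorMax.Form.sum_rows x, TensorMax.Form.sum_rows y]
  have hR : ∀ (v : α × β → F) (s : α → α × β → F), tf σ fA fB v (∑ i, s i) = ∑ i, tf σ fA fB v (s i) := fun v s =>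
    map_sum (AddMonoidHom.mk' (fun w => tf σ fA fB v w) ((TensorMax.Form.tf_semi D).add_right v)) s Finset.univ
  simp only [Matrix.mulVec_sum, (TensorMax.Form.reflex D).sum_left, hR, kr_tm, TensorMax.Form.tf_tm D, ha, hb]
  exact Finset.sum_congr rfl fun i _ => Finset.sum_congr rfl fun j _ => by
    calc μ * fA (Pi.single i 1) (Pi.single j 1) * (ν * fB _ _) = μ * ν * (fA (Pi.single i 1) (Pi.single j 1) * fB _ _) := by
          ring
      _ = _ := by rw [hμν, one_mul]

/-- An element of one factor in the stabiliser. -/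
theorem right_mem_ns (U : UForm q σ f) (i : Fin (t + 1)) {b : GL (Fin m) F} (hb : (b : Matrix (Fin m) (Fin m) F).det = 1)
    (hiso : ∀ u v, f ((b : Matrix (Fin m) (Fin m) F) *ᵥ u) ((b : Matrix (Fin m) (Fin m) F) *ᵥ v) = f u v) :
    J i (kr (1 : GL (Fin t → Fin m) F) b) ∈ Ns σ f (t + 1) :=
  ⟨J_kr_mem i (one_mem _) b, (mem_us_iff i).2 ⟨by
    rw [kr_val, det_kronecker, hb, Units.val_one, Matrix.det_one, one_pow, one_pow, one_mul],
    kr_iso (data U t) (μ := 1) (ν := 1) (fun u v => by simp) (fun u v => by rw [hiso, one_mul]) (one_mul 1)⟩⟩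

/-- An isometry of the other factors in the stabiliser. -/
theorem left_mem_ns (U : UForm q σ f) (i : Fin (t + 1)) {a : GL (Fin t → Fin m) F} (ha : a ∈ Ns σ f t) :
    J i (kr a (1 : GL (Fin m) F)) ∈ Ns σ f (t + 1) :=
  ⟨J_kr_mem i ha.1 1, (mem_us_iff i).2 ⟨by
    rw [kr_val, det_kronecker, ha.2.1, Units.val_one, Matrix.det_one, one_pow, one_pow, one_mul],
    kr_iso (data U t) (μ := 1) (ν := 1) (fun u v => by rw [ha.2.2, one_mul]) (fun u v => by simp) (one_mul 1)⟩⟩

theorem det_perm_pow (hm : 0 < m) (σ' : Equiv.Perm (Fin t)) :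
    (factorPermM m F σ').det ^ m = (factorPermM m F σ').det ^ (m ^ t) := by
  have h2 := det_perm_sq (F := F) (m := m) σ'
  rcases Nat.eq_zero_or_pos t with rfl | ht
  · rw [Subsingleton.elim σ' 1, factorPermM_one, Matrix.det_one, one_pow, one_pow]
  · have hpar : m % 2 = (m ^ t) % 2 := by
      rw [Nat.pow_mod]
      rcases Nat.mod_two_eq_zero_or_one m with h | h <;> rw [h]
      · rw [zero_pow (by omega), Nat.zero_mod]
      · simp
    have hk : ∀ k : ℕ, (factorPermM m F σ').det ^ k = (factorPermM m F σ').det ^ (k % 2) := fun k => by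
      conv_lhs => rw [← Nat.mod_add_div k 2, pow_add, pow_mul, sq, h2, one_pow, mul_one]
    rw [hk m, hk (m ^ t), hpar]

theorem perm_tp (σ' : Equiv.Perm (Fin t)) (x y : (Fin t → Fin m) → F) :
    tp σ f t (factorPermM m F σ' *ᵥ x) (factorPermM m F σ' *ᵥ y) = tp σ f t x y := by
  have hv : ∀ z : (Fin t → Fin m) → F, ∀ a, (factorPermM m F σ' *ᵥ z) a = z (a ∘ σ') := fun z a => by
    simp [Matrix.mulVec, dotProduct, factorPermM]
  let e : (Fin t → Fin m) ≃ (Fin t → Fin m) := Equiv.arrowCongr σ'.symm (Equiv.refl _)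
  have he : ∀ a, e a = a ∘ σ' := fun a => rfl
  simp only [tp, formOfGram, hv]
  refine Fintype.sum_equiv e _ _ fun a => ?_
  refine Fintype.sum_equiv e _ _ fun b => ?_
  simp only [he, pureM, Matrix.of_apply, Function.comp_apply]
  rw [Equiv.prod_comp σ' (fun k => gramMatrix f (a k) (b k))]

/-- A permutation of the other factors, corrected at the split factor, in the stabiliser. -/
theorem perm_mem_ns (U : UForm q σ f) (hm : 2 ≤ m) (i : Fin (t + 1)) (σ' : Equiv.Perm (Fin t)) :
    ∃ b : GL (Fin m) F, J i (kr (factorPermGL m F σ') b) ∈ Ns σ f (t + 1) := by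
  classical
  obtain ⟨δ, hδ⟩ : ∃ δ, δ = (factorPermM m F σ').det := ⟨_, rfl⟩
  have h2 : δ * δ = 1 := hδ ▸ det_perm_sq σ'
  have hσδ : σ δ * δ = 1 := by
    rcases mul_self_eq_one_iff.1 h2 with h | h <;> rw [h] <;> simp
  -- a pseudo-reflection with that determinant
  obtain ⟨w, hw, hww⟩ := U.exists_aniso (W := ⊤) (by
    rw [finrank_top, Module.finrank_fintype_fun_eq_card, Fintype.card_fin]; omega)
  obtain ⟨r, hr⟩ : ∃ r, r = (δ - 1) / f w w := ⟨_, rfl⟩
  let L : (Fin m → F) →ₗ[F] (Fin m → F) :=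
    { toFun := fun v => v + (r * f v w) • w
      map_add' := fun a b => by rw [U.refl.semi.add_left, mul_add, add_smul]; abel
      map_smul' := fun c a => by rw [U.refl.semi.smul_left, RingHom.id_apply, smul_add, smul_smul, mul_left_comm] }
  have hdet : (LinearMap.toMatrix' L).det = δ := by
    have e : LinearMap.toMatrix' L = 1 + Matrix.replicateCol (Fin 1) w *
        Matrix.replicateRow (Fin 1) (fun j => r * f (Pi.single j 1) w) := by
      ext a b
      simp [L, LinearMap.toMatrix'_apply, Matrix.one_apply, Matrix.mul_apply, Pi.single_apply]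
      ring
    rw [e]
    refine (Matrix.det_one_add_replicateCol_mul_replicateRow w (fun j => r * f (Pi.single j 1) w)).trans ?_
    have e2 : (fun j => r * f (Pi.single j 1) w) ⬝ᵥ w = r * f w w := by
      have h := U.refl.sum_left Finset.univ (fun j => w j • (Pi.single j (1 : F) : Fin m → F)) w
      rw [← pi_eq_sum_univ' w] at h
      rw [h, Finset.mul_sum]
      refine Finset.sum_congr rfl fun j _ => ?_
      rw [U.refl.semi.smul_left]
      ring
    rw [e2, hr, div_mul_cancel₀ _ hww, add_sub_cancel]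
  have hδ0 : δ ≠ 0 := left_ne_zero_of_mul_eq_one h2
  let b : GL (Fin m) F := ((Matrix.isUnit_iff_isUnit_det _).2 (isUnit_iff_ne_zero.2 (hdet ▸ hδ0 :
    (LinearMap.toMatrix' L).det ≠ 0))).unit
  have hbv : ∀ v, (b : Matrix (Fin m) (Fin m) F) *ᵥ v = v + (r * f v w) • w := fun v => by
    rw [IsUnit.unit_spec, ← Matrix.toLin'_apply, Matrix.toLin'_toMatrix']; rfl
  refine ⟨b, J_kr_mem i (factorPermGL_mem σ') b, (mem_us_iff i).2 ⟨?_, kr_iso (data U t) (μ := 1) (ν := 1)
    (fun u v => by rw [one_mul]; exact perm_tp σ' u v) (fun u v => ?_) (one_mul 1)⟩⟩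
  · rw [kr_val, det_kronecker, IsUnit.unit_spec, hdet]
    show (factorPermM m F σ').det ^ Fintype.card (Fin m) * δ ^ Fintype.card (Fin t → Fin m) = 1
    rw [Fintype.card_fun, Fintype.card_fin, Fintype.card_fin, det_perm_pow (by omega), ← hδ, ← mul_pow, h2, one_pow]
  · rw [hbv, hbv, one_mul, U.refl.semi.add_left, U.refl.semi.add_right, U.refl.semi.add_right, U.refl.semi.smul_left,
      U.refl.semi.smul_left, U.refl.semi.smul_right, U.refl.semi.smul_right, map_mul, U.herm]
    have hr1 : r + σ r + r * σ r * f w w = 0 := by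
      rw [hr, map_div₀, U.fixed, map_sub, map_one]
      field_simp
      linear_combination hσδ
    linear_combination (f u w * f w v) * hr1

variable {X : Subgroup (GL (Fin (t + 1) → Fin m) F)}

theorem Over.iso (H : Over q σ f X) (i : Fin (t + 1)) {g : GL ((Fin t → Fin m) × Fin m) F} (hg : g ∈ XI X i)
    (x y : (Fin t → Fin m) × Fin m → F) :
    tf σ (tp σ f t) f ((g : Matrix ((Fin t → Fin m) × Fin m) ((Fin t → Fin m) × Fin m) F) *ᵥ x)
      ((g : Matrix ((Fin t → Fin m) × Fin m) ((Fin t → Fin m) × Fin m) F) *ᵥ y) = tf σ (tp σ f t) f x y :=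
  ((mem_us_iff i).1 (H.sl hg)).2 x y

theorem Over.right (H : Over q σ f X) (i : Fin (t + 1)) {b : GL (Fin m) F}
    (hb : (b : Matrix (Fin m) (Fin m) F).det = 1)
    (hiso : ∀ u v, f ((b : Matrix (Fin m) (Fin m) F) *ᵥ u) ((b : Matrix (Fin m) (Fin m) F) *ᵥ v) = f u v) :
    kr (1 : GL (Fin t → Fin m) F) b ∈ XI X i :=
  H.le (right_mem_ns H.uf i hb hiso)

theorem Over.left (H : Over q σ f X) (i : Fin (t + 1)) {a : GL (Fin t → Fin m) F} (ha : a ∈ Ns σ f t) :
    kr a (1 : GL (Fin m) F) ∈ XI X i :=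
  H.le (left_mem_ns H.uf i ha)

end Cfsg.Agent.Classical.TensorPowerMax.Unitary
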