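/-
Unitary root elements of the factors: transvections, their recognition, and Siegel commutators.
-/
import Cfsg.Agent.Lib.Classical.UTPow.Basic
import Cfsg.Agent.Lib.Classical.TensorMax.Form.Elements

set_option autoImplicit false
set_option linter.unusedSectionVars false

namespace Cfsg.Agent.Classical.TensorPowerMax.Unitary

open Matrix Cfsg.Geo
open Cfsg.Agent.Classical
open Cfsg.Agent.Classical.TensorPowerMax
open Cfsg.Agent.Classical.TensorMax (kr kr_val kr_mul kr_one kr_inv)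
open Cfsg.Agent.Classical.TensorMax.Form (UForm tm tf ctr Data Rt row kr_tm)
open scoped Kronecker

variable {F : Type*} [Field F] [Fintype F] {m t q : ℕ} {σ : F ≃+* F} {f : (Fin m → F) → (Fin m → F) → F}

local notation:max g:max " ⬝ₘ " x:max =>
  ((g : GL (Fin m) F) : Matrix (Fin m) (Fin m) F) *ᵥ x

/-- A transvection with singular centre in the factor `j`. -/
def RootU (σ : F ≃+* F) (f : (Fin m → F) → (Fin m → F) → F) (j : Fin (t + 1))
    (g : GL (Fin (t + 1) → Fin m) F) : Prop :=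
  ∃ (o : Fin m → F) (c : F), o ≠ 0 ∧ f o o = 0 ∧ c ≠ 0 ∧ c + σ c = 0 ∧ Rt f o c ((J j).symm g)

/-- A root element of the stabiliser. -/
def URoot (σ : F ≃+* F) (f : (Fin m → F) → (Fin m → F) → F) (g : GL (Fin (t + 1) → Fin m) F) : Prop :=
  ∃ j, RootU σ f j g

/-- The functional of a vector. -/
def fl (f : (Fin m → F) → (Fin m → F) → F) (o : Fin m → F) : Fin m → F := fun k => f (Pi.single k 1) o

theorem fl_dot (U : UForm q σ f) (o v : Fin m → F) : fl f o ⬝ᵥ v = f v o := by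
  conv_rhs => rw [pi_eq_sum_univ' v, U.refl.sum_left]
  refine Finset.sum_congr rfl fun k _ => ?_
  rw [U.refl.semi.smul_left, fl, mul_comm]

theorem fl_ne_zero (U : UForm q σ f) {o : Fin m → F} (ho : o ≠ 0) : fl f o ≠ 0 := fun e => by
  obtain ⟨x, hx⟩ := (U.refl.nondeg o ho).1
  exact hx (by rw [← fl_dot U, e, zero_dotProduct])

theorem kr_right_rt (U : UForm q σ f) {o : Fin m → F} {c : F} {b : GL (Fin m) F}
    (hb : ∀ v, b ⬝ₘ v = v + (c * f v o) • o) : Rt f o c (kr (1 : GL (Fin t → Fin m) F) b) := fun x => by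
  funext p
  have e := congrFun (TensorMax.Form.kr_one_row (α := Fin t → Fin m) b x p.1) p.2
  rw [hb] at e
  simp only [TensorMax.Form.row, Pi.add_apply, Pi.smul_apply, smul_eq_mul] at e
  refine e.trans ?_
  simp only [Pi.add_apply, Pi.smul_apply, smul_eq_mul, TensorMax.Form.tm_apply]
  rfl

theorem exists_tv (U : UForm q σ f) {o : Fin m → F} (hoo : f o o = 0) {c : F} (hc : c + σ c = 0) :
    ∃ b : GL (Fin m) F, (b : Matrix (Fin m) (Fin m) F).det = 1 ∧
      (∀ u v, f (b ⬝ₘ u) (b ⬝ₘ v) = f u v) ∧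
      (b : Matrix (Fin m) (Fin m) F) = 1 + vecMulVec o (c • fl f o) ∧ ∀ v, b ⬝ₘ v = v + (c * f v o) • o := by
  have h0 : (c • fl f o) ⬝ᵥ o = 0 := by rw [smul_dotProduct, fl_dot U, hoo, smul_zero]
  have hv : ∀ v, (tv o (c • fl f o) h0) ⬝ₘ v = v + (c * f v o) • o := fun v => by
    show (1 + vecMulVec o (c • fl f o)) *ᵥ v = _
    rw [Matrix.add_mulVec, Matrix.one_mulVec, Matrix.vecMulVec_mulVec, smul_dotProduct, fl_dot U, op_smul_eq_smul,
      smul_eq_mul]
  refine ⟨_, tv_det _ _ h0, fun u v => ?_, rfl, hv⟩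
  rw [hv, hv, U.refl.semi.add_left, U.refl.semi.add_right, U.refl.semi.add_right, U.refl.semi.smul_left,
    U.refl.semi.smul_left, U.refl.semi.smul_right, U.refl.semi.smul_right, hoo, map_mul, U.herm]
  linear_combination (f u o * f o v) * hc

theorem RootU.eq (U : UForm q σ f) {j : Fin (t + 1)} {g : GL (Fin (t + 1) → Fin m) F} {o : Fin m → F} {c : F}
    {b : GL (Fin m) F} (hg : Rt f o c ((J j).symm g)) (hb : ∀ v, b ⬝ₘ v = v + (c * f v o) • o) :
    g = facGL j b := by
  have h := TensorMax.Form.rt_unique hg (kr_right_rt (t := t) U hb)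
  rw [← J_kr_right, ← h, MulEquiv.apply_symm_apply]

theorem RootU.rootAt (U : UForm q σ f) {j : Fin (t + 1)} {g : GL (Fin (t + 1) → Fin m) F} (h : RootU σ f j g) :
    RootAt j g := by
  obtain ⟨o, c, ho, hoo, hc, hcs, hg⟩ := h
  obtain ⟨b, -, -, hbm, hb⟩ := exists_tv U hoo hcs
  refine ⟨o, c • fl f o, ho, smul_ne_zero hc (fl_ne_zero U ho), by rw [smul_dotProduct, fl_dot U, hoo, smul_zero], ?_⟩
  rw [RootU.eq U hg hb, facGL_val, hbm]

theorem URoot.isRoot (U : UForm q σ f) {g : GL (Fin (t + 1) → Fin m) F} (h : URoot σ f g) : IsRoot g :=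
  h.imp fun _ hj => hj.rootAt U

theorem exists_rootU (U : UForm q σ f) (j : Fin (t + 1)) {o : Fin m → F} (ho : o ≠ 0) (hoo : f o o = 0) {c : F}
    (hc : c ≠ 0) (hcs : c + σ c = 0) :
    ∃ g ∈ Ns σ f (t + 1), Rt f o c ((J j).symm g) ∧ RootU σ f j g := by
  obtain ⟨b, hbd, hbi, -, hb⟩ := exists_tv U hoo hcs
  have hR : Rt f o c ((J j).symm (facGL j b : GL (Fin (t + 1) → Fin m) F)) := by
    rw [← J_kr_right, MulEquiv.symm_apply_apply]
    exact kr_right_rt U hb
  exact ⟨facGL j b, J_kr_right j b ▸ right_mem_ns U j hbd hbi, hR, o, c, ho, hoo, hc, hcs, hR⟩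

theorem RootU.mem_ns (U : UForm q σ f) {j : Fin (t + 1)} {g : GL (Fin (t + 1) → Fin m) F} (h : RootU σ f j g) :
    g ∈ Ns σ f (t + 1) := by
  obtain ⟨o, c, -, hoo, -, hcs, hg⟩ := h
  obtain ⟨b, hbd, hbi, -, hb⟩ := exists_tv U hoo hcs
  rw [RootU.eq U hg hb, ← J_kr_right]
  exact right_mem_ns U j hbd hbi

theorem URoot.mem_ns (U : UForm q σ f) {g : GL (Fin (t + 1) → Fin m) F} (h : URoot σ f g) : g ∈ Ns σ f (t + 1) := by
  obtain ⟨j, hj⟩ := h
  exact hj.mem_ns U

theorem exists_uroot (U : UForm q σ f) (hm : 2 ≤ m) : ∃ g : GL (Fin (t + 1) → Fin m) F, URoot σ f g := by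
  obtain ⟨o, -, ho, hoo⟩ := U.exists_iso (W := ⊤) (by
    rw [finrank_top, Module.finrank_fintype_fun_eq_card, Fintype.card_fin]; exact hm)
  obtain ⟨c, hc, hcs⟩ := U.sig.exists_skew
  obtain ⟨g, -, -, hg⟩ := exists_rootU (t := t) U 0 ho hoo hc hcs
  exact ⟨g, 0, hg⟩

theorem tm_single_apply (a : Fin t → Fin m) (v : Fin m → F) (b : Fin t → Fin m) (k : Fin m) :
    tm (Pi.single a (1 : F)) v (b, k) = if b = a then v k else 0 := by
  rw [TensorMax.Form.tm_apply]
  rcases eq_or_ne b a with h | h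
  · subst h; simp
  · simp [h]

/-- A root element of the linear group that is an isometry is a unitary one. -/
theorem rootU_of_rootAt (U : UForm q σ f) (hm : 2 ≤ m) {j : Fin (t + 1)} {g : GL (Fin (t + 1) → Fin m) F}
    (h : RootAt j g) (hg : g ∈ Us σ f (t + 1)) : RootU σ f j g := by
  obtain ⟨v₀, l, hlf, hf, hl, rfl⟩ := h.eq
  rw [← J_kr_right, mem_us_iff] at hg
  obtain ⟨-, hiso⟩ := hg
  have D := data U t
  obtain ⟨a₀⟩ : Nonempty (Fin t → Fin m) := ⟨fun _ => ⟨0, by omega⟩⟩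
  obtain ⟨a', ha'⟩ := ((tp_uform U t).refl.nondeg (Pi.single a₀ 1) (by simp)).2
  have hv : ∀ v, (tv v₀ l hlf) ⬝ₘ v = v + (l ⬝ᵥ v) • v₀ := fun v => by
    show (1 + vecMulVec v₀ l) *ᵥ v = _
    rw [Matrix.add_mulVec, Matrix.one_mulVec, Matrix.vecMulVec_mulVec, op_smul_eq_smul]
  have hb : ∀ v w, f ((tv v₀ l hlf) ⬝ₘ v) ((tv v₀ l hlf) ⬝ₘ w) = f v w := fun v w => by
    have e := hiso (tm (Pi.single a₀ 1) v) (tm a' w)
    rw [kr_tm, kr_tm, Units.val_one, Matrix.one_mulVec, Matrix.one_mulVec, TensorMax.Form.tf_tm D,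
      TensorMax.Form.tf_tm D] at e
    exact mul_left_cancel₀ ha' e
  obtain ⟨v₁, hv₁⟩ : ∃ v, l ⬝ᵥ v = 1 := by
    obtain ⟨i, hi⟩ := Function.ne_iff.mp hl
    exact ⟨Pi.single i (l i)⁻¹, by rw [dotProduct_single, mul_inv_cancel₀ hi]⟩
  have hs := U.refl.semi
  have hexp : ∀ v w, (l ⬝ᵥ v) * f v₀ w + σ (l ⬝ᵥ w) * f v v₀ + (l ⬝ᵥ v) * σ (l ⬝ᵥ w) * f v₀ v₀ = 0 := fun v w => by
    have := hb v w
    rw [hv, hv, hs.add_left, hs.add_right, hs.add_right, hs.smul_left, hs.smul_left, hs.smul_right, hs.smul_right]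
      at this
    linear_combination this
  have hff : f v₀ v₀ = 0 := by
    have := hexp v₀ v₁
    rw [hlf, hv₁, map_one, zero_mul, zero_mul, zero_mul, zero_add, add_zero, one_mul] at this
    exact this
  obtain ⟨κ, hκ⟩ : ∃ k, k = f v₀ v₁ := ⟨_, rfl⟩
  have hlv : ∀ v, (l ⬝ᵥ v) * κ + f v v₀ = 0 := fun v => by
    have := hexp v v₁
    rw [hv₁, map_one, hff, ← hκ] at this
    linear_combination this
  have hκ0 : κ ≠ 0 := fun e => by
    obtain ⟨x, hx⟩ := (U.refl.nondeg v₀ hf).1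
    exact hx (by have := hlv x; rwa [e, mul_zero, zero_add] at this)
  have hskew : κ + σ κ = 0 := by
    have := hlv v₁
    rw [hv₁, one_mul, ← U.herm v₀ v₁, ← hκ] at this
    exact this
  refine ⟨v₀, -κ⁻¹, hf, hff, neg_ne_zero.mpr (inv_ne_zero hκ0), ?_, ?_⟩
  · rw [map_neg, map_inv₀, show σ κ = -κ by linear_combination hskew, inv_neg, neg_neg, neg_add_cancel]
  · rw [← J_kr_right, MulEquiv.symm_apply_apply]
    refine kr_right_rt U fun v => ?_
    rw [hv]
    congr 2
    field_simp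
    linear_combination hlv v

theorem uroot_of_isRoot (U : UForm q σ f) (hm : 2 ≤ m) {g : GL (Fin (t + 1) → Fin m) F} (h : IsRoot g)
    (hg : g ∈ Us σ f (t + 1)) : URoot σ f g :=
  h.imp fun _ hj => rootU_of_rootAt U hm hj hg

theorem URoot.conj (U : UForm q σ f) (hm : 2 ≤ m) {g h : GL (Fin (t + 1) → Fin m) F} (hg : URoot σ f g)
    (hh : h ∈ Ns σ f (t + 1)) : URoot σ f (h * g * h⁻¹) :=
  uroot_of_isRoot U hm ((hg.isRoot U).conj hh.1) (mul_mem (mul_mem hh.2 (hg.mem_ns U).2) (inv_mem hh.2))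

/-- The centre of a root element is determined up to a scalar. -/
theorem rt_centre (U : UForm q σ f) (hm : 0 < m) {o o' : Fin m → F} {c c' : F} (ho' : o' ≠ 0) (hc : c ≠ 0)
    (hc' : c' ≠ 0) {g : GL ((Fin t → Fin m) × Fin m) F} (hg : Rt f o c g) (hg' : Rt f o' c' g) :
    ∃ l : F, o' = l • o := by
  have D := data U t
  obtain ⟨x, hx⟩ := U.exists_pair_one ho'
  obtain ⟨a₀⟩ : Nonempty (Fin t → Fin m) := ⟨fun _ => ⟨0, hm⟩⟩
  have e := (hg (tm (Pi.single a₀ 1) x)).symm.trans (hg' (tm (Pi.single a₀ 1) x))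
  rw [add_right_inj, TensorMax.Form.ctr_tm D, TensorMax.Form.ctr_tm D, hx, one_smul] at e
  refine ⟨c'⁻¹ * c * f x o, funext fun k => ?_⟩
  have e' := congrFun e (a₀, k)
  simp only [TensorMax.Form.tm_apply, Pi.smul_apply, smul_eq_mul, Pi.single_eq_same, mul_one] at e'
  rw [Pi.smul_apply, smul_eq_mul]
  field_simp
  linear_combination -e'

/-- Two Siegel elements with a transvection as commutator, centralising all transvections with that centre. -/
theorem exists_siegel_pair (U : UForm q σ f) (hm : 3 ≤ m) {o : Fin m → F} (ho : o ≠ 0) (hoo : f o o = 0) {c : F}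
    (hcs : c + σ c = 0) :
    ∃ a b : GL (Fin m) F, ((a : Matrix (Fin m) (Fin m) F).det = 1 ∧ ∀ u v, f (a ⬝ₘ u) (a ⬝ₘ v) = f u v) ∧
      ((b : Matrix (Fin m) (Fin m) F).det = 1 ∧ ∀ u v, f (b ⬝ₘ u) (b ⬝ₘ v) = f u v) ∧
      (∀ v, (a * b * a⁻¹ * b⁻¹) ⬝ₘ v = v + (c * f v o) • o) ∧
      ∀ (z : GL (Fin m) F) (c' : F), (∀ v, z ⬝ₘ v = v + (c' * f v o) • o) → a * z = z * a ∧ b * z = z * b := by
  haveI : Nonempty (Fin m) := ⟨⟨0, by omega⟩⟩
  obtain ⟨W, hW, hWo⟩ := U.exists_perp (k := 1) fun _ => o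
  rw [Fintype.card_fin] at hW
  obtain ⟨y, hy, hyy⟩ := U.exists_aniso (W := W) (by rw [Fintype.card_fin]; omega)
  have hyo : f y o = 0 := hWo y hy 0
  obtain ⟨θ, hθ⟩ := U.exists_trace_one
  obtain ⟨r, hr⟩ : ∃ r, r = σ (θ * c / f y y) := ⟨_, rfl⟩
  have hy'o : f (r • y) o = 0 := by rw [U.refl.semi.smul_left, hyo, mul_zero]
  obtain ⟨X₁, hX₁⟩ := U.exists_trace (U.fixed y)
  obtain ⟨X₂, hX₂⟩ := U.exists_trace (U.fixed (r • y))
  obtain ⟨a, had, hUa, hax⟩ := Radical.exists_UF U.refl hoo hyo (c := -X₁) (by rw [map_neg]; linear_combination -hX₁)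
  obtain ⟨b, hbd, hUb, hbx⟩ := Radical.exists_UF U.refl hoo hy'o (c := -X₂) (by rw [map_neg]; linear_combination -hX₂)
  have hai := Radical.UF_iso U.refl hoo hUa
  have hbi := Radical.UF_iso U.refl hoo hUb
  have hoy : f o y = 0 := U.refl.eq_zero_swap hyo
  obtain ⟨k, -, hkd, hkx⟩ : ∃ k : GL (Fin m) F, True ∧ (k : Matrix (Fin m) (Fin m) F).det = 1 ∧
      ∀ v, k ⬝ₘ v = v + (c * f v o) • o := by
    obtain ⟨k, hkd, -, -, hk⟩ := exists_tv U hoo hcs
    exact ⟨k, trivial, hkd, hk⟩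
  have hsr : σ r = θ * c / f y y := by rw [hr, U.sig.involutive]
  have key : a * b = k * (b * a) := gl_ext_mulVec fun v => by
    simp only [gl_mul_mulVec, hax, hbx, hkx, map_one, U.refl.semi.add_left, U.refl.semi.smul_left,
      U.refl.semi.smul_right, hoo, hyo, hoy, mul_zero, add_zero, mul_one, hsr]
    have hσrr : σ (θ * c / f y y) * f y y = σ θ * σ c := by
      rw [map_div₀, map_mul, U.fixed, div_mul_cancel₀ _ hyy]
    have hr2 : r * f y y = -(σ θ * c) := by rw [hr, hσrr]; linear_combination (σ θ) * hcs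
    have hinv : f y y * (f y y)⁻¹ = 1 := mul_inv_cancel₀ hyy
    match_scalars <;> first
      | linear_combination (-f v o) * hr2 + (f v o * θ * c) * hinv + (f v o * c) * hθ
      | ring
  refine ⟨a, b, ⟨mem_specialLinear_iff.1 had, hai⟩, ⟨mem_specialLinear_iff.1 hbd, hbi⟩, fun v => ?_, fun z c' hz => ?_⟩
  · rw [show a * b * a⁻¹ * b⁻¹ = k by rw [key]; group, hkx]
  · constructor <;> refine gl_ext_mulVec fun v => ?_ <;>
      simp only [gl_mul_mulVec, hax, hbx, hz, map_one, U.refl.semi.add_left, U.refl.semi.smul_left,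
        U.refl.semi.smul_right, hoo, hyo, hoy, mul_zero, add_zero, mul_one, one_mul] <;> module

/-- A root element is a commutator in the centraliser, inside the stabiliser, of its factor subgroup. -/
theorem rootU_commutator (U : UForm q σ f) (hm : 3 ≤ m) {j : Fin (t + 1)} {g : GL (Fin (t + 1) → Fin m) F}
    (h : RootU σ f j g) : ∃ x ∈ Ns σ f (t + 1), ∃ y ∈ Ns σ f (t + 1), g = x * y * x⁻¹ * y⁻¹ := by
  obtain ⟨o, c, ho, hoo, -, hcs, hg⟩ := h
  obtain ⟨a, b, ⟨had, hai⟩, ⟨hbd, hbi⟩, hab, -⟩ := exists_siegel_pair U hm ho hoo hcs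
  refine ⟨facGL j a, J_kr_right j a ▸ right_mem_ns U j had hai, facGL j b, J_kr_right j b ▸ right_mem_ns U j hbd hbi, ?_⟩
  rw [RootU.eq U hg hab, map_mul, map_mul, map_mul, map_inv, map_inv]

/-- An element carrying the root elements into root elements of the linear group is standard. -/
theorem mem_std_of_uroots (U : UForm q σ f) (hm : 3 ≤ m) (p : ℕ) [Fact p.Prime] [CharP F p]
    (g : GL (Fin (t + 1) → Fin m) F)
    (h : ∀ j z, RootU σ f j z → IsRoot (g * z * g⁻¹)) : g ∈ tensorWreathStandard m (t + 1) F := by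
  classical
  have hskew := U.sig.exists_skew
  obtain ⟨s₀, hs₀, hs₀'⟩ := hskew
  have hex : ∀ (j : Fin (t + 1)) (o : Fin m → F), o ≠ 0 → f o o = 0 → ∃ z : GL (Fin (t + 1) → Fin m) F,
      Rt f o s₀ ((J j).symm z) ∧ RootU σ f j z := fun j o ho hoo => by
    obtain ⟨z, -, hR, hz⟩ := exists_rootU U j ho hoo hs₀ hs₀'
    exact ⟨z, hR, hz⟩
  choose z hzR hzU using hex
  choose s hs using fun j o ho hoo => (h j _ (hzU j o ho hoo) : ∃ k, RootAt k _)
  have hadj : ∀ j o ho hoo o' ho' hoo', f o o' ≠ 0 → s j o ho hoo = s j o' ho' hoo' := by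
    intro j o ho hoo o' ho' hoo' hne
    by_contra hne'
    have e := (hs j o ho hoo).commute hne' (hs j o' ho' hoo')
    have e' : z j o ho hoo * z j o' ho' hoo' = z j o' ho' hoo' * z j o ho hoo := by
      simp only [mul_assoc, inv_mul_cancel_left, mul_right_inj] at e
      rwa [← mul_assoc, ← mul_assoc (z j o' ho' hoo'), mul_left_inj] at e
    obtain ⟨b, -, -, -, hb⟩ := exists_tv U hoo hs₀'
    obtain ⟨b', -, -, -, hb'⟩ := exists_tv U hoo' hs₀'
    rw [RootU.eq U (hzR j o ho hoo) hb, RootU.eq U (hzR j o' ho' hoo') hb', ← map_mul, ← map_mul] at e'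
    have e'' := facM_inj (F := F) (by omega) j ((facGL_val j _).symm.trans ((congrArg (fun u : GL (Fin (t + 1) → Fin m) F =>
      (u : Matrix (Fin (t + 1) → Fin m) (Fin (t + 1) → Fin m) F)) e').trans (facGL_val j _)))
    have e3 := congrArg (fun M : Matrix (Fin m) (Fin m) F => M *ᵥ o') e''
    simp only [Units.val_mul, ← Matrix.mulVec_mulVec, hb, hb', U.refl.semi.add_left, U.refl.semi.smul_left, hoo,
      hoo', mul_zero, zero_smul, add_zero] at e3
    have hne2 : f o' o ≠ 0 := fun e0 => hne (U.refl.eq_zero_swap e0)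
    have h1 : (s₀ * (s₀ * f o' o * f o o')) • o' = 0 := by linear_combination (norm := module) -e3
    exact smul_ne_zero (mul_ne_zero hs₀ (mul_ne_zero (mul_ne_zero hs₀ hne2) hne)) ho' h1
  obtain ⟨o₀, -, ho₀, hoo₀⟩ := U.exists_iso (W := ⊤) (by
    rw [finrank_top, Module.finrank_fintype_fun_eq_card, Fintype.card_fin]; omega)
  let π : Fin (t + 1) → Fin (t + 1) := fun j => s j o₀ ho₀ hoo₀
  have hall : ∀ j o ho hoo, s j o ho hoo = π j := by
    intro j o ho hoo
    by_cases hne : f o o₀ = 0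
    · obtain ⟨w, hww, hwo, hwo₀⟩ := U.exists_common ho hoo ho₀ hne
      have hw : w ≠ 0 := fun e => hwo (by rw [e, U.refl.zero_left])
      exact ((hadj j w hw hww o ho hoo hwo).symm).trans (hadj j w hw hww o₀ ho₀ hoo₀ hwo₀)
    · exact hadj j o ho hoo o₀ ho₀ hoo₀ hne
  obtain ⟨G, hG⟩ : ∃ G, G = (g : Matrix (Fin (t + 1) → Fin m) (Fin (t + 1) → Fin m) F) := ⟨_, rfl⟩
  have hmap : ∀ j Y, ∃ Y', G * facM j Y = facM (π j) Y' * G := by
    intro j
    let S : Submodule F (Matrix (Fin m) (Fin m) F) :=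
      { carrier := {Y | ∃ Y', G * facM j Y = facM (π j) Y' * G}
        add_mem' := by
          rintro X Y ⟨X', hX⟩ ⟨Y', hY⟩
          exact ⟨X' + Y', by rw [facM_add, facM_add, mul_add, add_mul, hX, hY]⟩
        zero_mem' := ⟨(0 : F) • 1, by
          rw [show (0 : Matrix (Fin m) (Fin m) F) = (0 : F) • 1 from (zero_smul _ _).symm, facM_smul, facM_smul,
            zero_smul, zero_smul, mul_zero, zero_mul]⟩
        smul_mem' := by
          rintro c X ⟨X', hX⟩
          exact ⟨c • X', by rw [facM_smul, facM_smul, mul_smul_comm, smul_mul_assoc, hX]⟩ }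
    have h1 : (1 : Matrix (Fin m) (Fin m) F) ∈ S := ⟨1, by rw [facM_one, facM_one, mul_one, one_mul]⟩
    have hmul : ∀ X Y, X ∈ S → Y ∈ S → X * Y ∈ S := by
      rintro X Y ⟨X', hX⟩ ⟨Y', hY⟩
      exact ⟨X' * Y', by rw [← facM_mul, ← facM_mul, ← mul_assoc, hX, mul_assoc, hY, mul_assoc]⟩
    have hone : ∀ o, o ≠ 0 → f o o = 0 → vecMulVec o (fl f o) ∈ S := by
      intro o ho hoo
      obtain ⟨v, l, -, -, -, hv⟩ := hs j o ho hoo
      rw [hall j o ho hoo] at hv
      obtain ⟨b, -, -, hbm, hb⟩ := exists_tv U hoo hs₀'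
      have hr : (b : Matrix (Fin m) (Fin m) F) ∈ S := ⟨1 + vecMulVec v l, by
        rw [← hv, Units.val_mul, Units.val_mul, ← hG, Matrix.mul_assoc, hG, Units.inv_mul, Matrix.mul_one,
          RootU.eq U (hzR j o ho hoo) hb, facGL_val]⟩
      have := S.smul_mem s₀⁻¹ (S.sub_mem hr h1)
      rwa [hbm, add_sub_cancel_left, Matrix.vecMulVec_smul, smul_smul, inv_mul_cancel₀ hs₀, one_smul] at this
    have htwo : ∀ o o', f o o = 0 → f o' o' = 0 → vecMulVec o (fl f o') ∈ S := by
      intro o o' hoo hoo'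
      rcases eq_or_ne o 0 with rfl | ho
      · rw [Matrix.zero_vecMulVec]; exact S.zero_mem
      rcases eq_or_ne o' 0 with rfl | ho'
      · rw [show fl f (0 : Fin m → F) = 0 from funext fun k => U.refl.zero_right _, Matrix.vecMulVec_zero]
        exact S.zero_mem
      have hne : ∀ x y, f x x = 0 → f y y = 0 → x ≠ 0 → y ≠ 0 → f y x ≠ 0 → vecMulVec x (fl f y) ∈ S := by
        intro x y hxx hyy hx hy hne
        have := S.smul_mem (f y x)⁻¹ (hmul _ _ (hone x hx hxx) (hone y hy hyy))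
        rwa [Matrix.vecMulVec_mul_vecMulVec, fl_dot U, Matrix.vecMulVec_smul, smul_smul, inv_mul_cancel₀ hne,
          one_smul] at this
      by_cases hz : f o' o = 0
      · obtain ⟨w, hww, hwo', hwo⟩ := U.exists_common ho' hoo' ho hz
        have hw : w ≠ 0 := fun e => hwo (by rw [e, U.refl.zero_left])
        have := S.smul_mem (f w o)⁻¹ (hmul _ _ (hone o ho hoo)
          (hne w o' hww hoo' hw ho' fun e => hwo' (U.refl.eq_zero_swap e)))
        rwa [Matrix.vecMulVec_mul_vecMulVec, fl_dot U, Matrix.vecMulVec_smul, smul_smul, inv_mul_cancel₀ hwo,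
          one_smul] at this
      · exact hne o o' hoo hoo' ho ho' hz
    have hfun : ∀ x y, vecMulVec x (fl f y) ∈ S := by
      have hspan := U.spanned (by rw [Fintype.card_fin]; omega)
      intro x y
      have hx : x ∈ Submodule.span F {v : Fin m → F | f v v = 0} := by rw [hspan]; trivial
      induction hx using Submodule.span_induction with
      | mem v hv =>
        have hy : y ∈ Submodule.span F {v : Fin m → F | f v v = 0} := by rw [hspan]; trivial
        induction hy using Submodule.span_induction with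
        | mem w hw => exact htwo v w hv hw
        | zero => rw [show fl f (0 : Fin m → F) = 0 from funext fun k => U.refl.zero_right _,
            Matrix.vecMulVec_zero]; exact S.zero_mem
        | add a b _ _ ha hb =>
          rw [show fl f (a + b) = fl f a + fl f b from funext fun k => U.refl.semi.add_right _ _ _,
            Matrix.vecMulVec_add]
          exact S.add_mem ha hb
        | smul r a _ ha =>
          rw [show fl f (r • a) = σ r • fl f a from funext fun k => U.refl.semi.smul_right _ _ _,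
            Matrix.vecMulVec_smul]
          exact S.smul_mem _ ha
      | zero => rw [Matrix.zero_vecMulVec]; exact S.zero_mem
      | add a b _ _ ha hb => rw [Matrix.add_vecMulVec]; exact S.add_mem ha hb
      | smul r a _ ha => rw [Matrix.smul_vecMulVec]; exact S.smul_mem _ ha
    intro Y
    suffices hY : Y ∈ S from hY
    induction Y using Matrix.induction_on' with
    | h_zero => exact S.zero_mem
    | h_add X Y hX hY => exact S.add_mem hX hY
    | h_std_basis a b c =>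
      obtain ⟨u, hu⟩ := U.refl.gram_isUnit
      have e : fl f ((σ : F → F) ∘ (((u⁻¹ : (Matrix (Fin m) (Fin m) F)ˣ) : Matrix (Fin m) (Fin m) F) *ᵥ Pi.single b 1)) =
          Pi.single b 1 := by
        funext k
        rw [fl, U.refl.apply_eq, ← Function.comp_assoc, show (σ : F → F) ∘ (σ : F → F) = id from funext U.refl.invol,
          Function.id_comp, ← hu, Matrix.mulVec_mulVec, Units.mul_inv, Matrix.one_mulVec, single_dotProduct, one_mul]
      have h' := S.smul_mem c (hfun (Pi.single a 1)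
        ((σ : F → F) ∘ (((u⁻¹ : (Matrix (Fin m) (Fin m) F)ˣ) : Matrix (Fin m) (Fin m) F) *ᵥ Pi.single b 1)))
      rwa [e, ← Matrix.single_eq_single_vecMulVec_single, Matrix.smul_single, smul_eq_mul, mul_one] at h'
  -- standard root elements go to root elements
  refine mem_std_of_roots (by omega) (Nat.succ_pos t) g fun i a b hab => ?_
  obtain ⟨Y, hY⟩ := hmap i (1 + Matrix.single a b 1)
  obtain ⟨w, hw⟩ : ∃ w, w = g * stdRoot (F := F) i hab * g⁻¹ := ⟨_, rfl⟩
  have hwv : (w : Matrix (Fin (t + 1) → Fin m) (Fin (t + 1) → Fin m) F) = facM (π i) Y := by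
    rw [hw, Units.val_mul, Units.val_mul, stdRoot_val, ← hG, hY, Matrix.mul_assoc, hG, Units.mul_inv, Matrix.mul_one]
  have hm0 : 0 < m := by omega
  haveI : Nonempty (Fin m) := ⟨⟨0, hm0⟩⟩
  have hYu : IsUnit Y := by
    refine (Matrix.isUnit_iff_isUnit_det _).2 ?_
    have hd : IsUnit (facM (π i) Y).det := (Matrix.isUnit_iff_isUnit_det _).1 (hwv ▸ w.isUnit)
    rw [det_facM, isUnit_pow_iff (pow_ne_zero _ (by omega))] at hd
    exact hd
  have hwf : w = facGL (π i) hYu.unit := Units.ext (by rw [facGL_val, IsUnit.unit_spec, hwv])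
  have hsq : ((w : Matrix (Fin (t + 1) → Fin m) (Fin (t + 1) → Fin m) F) - 1) *
      ((w : Matrix (Fin (t + 1) → Fin m) (Fin (t + 1) → Fin m) F) - 1) = 0 := hw ▸ conj_sq g _ (rootAt_std i hab).sq
  have hrank : ((w : Matrix (Fin (t + 1) → Fin m) (Fin (t + 1) → Fin m) F) - 1).rank = m ^ t := by
    rw [hw, rank_conj, (rootAt_std i hab).rank hm0]
  have hne : w ≠ 1 := fun e => by
    rw [e, Units.val_one, sub_self, Matrix.rank_zero] at hrank
    exact absurd hrank.symm (pow_ne_zero _ (by omega))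
  rw [← hw]
  rcases classify p hm (hwf ▸ facGL_mem _ _) hsq hne hrank.le with h' | ⟨-, A, τ, hτ, he⟩
  · exact h'
  · exfalso
    have : τ = 1 := perm_unique (by omega) (A := A) (B := Pi.mulSingle (π i) hYu.unit) (τ := 1) (by
      rw [← he, hwf, perm_one, mul_one]; rfl)
    obtain ⟨x, y, hxy, hxy'⟩ := hτ
    rw [this] at hxy'
    have := congrArg (fun e : Equiv.Perm (Fin (t + 1)) => e x) hxy'
    simp only [Equiv.Perm.one_apply, Equiv.swap_apply_left] at this
    exact hxy this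

end Cfsg.Agent.Classical.TensorPowerMax.Unitary
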