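/-
Skew operators on a tensor power: descent to products of singular rank one operators of the factors.
-/
import Cfsg.Agent.Lib.Classical.UTPow.Roots
import Cfsg.Agent.Lib.Classical.TensorPowerMax.Algebra

set_option autoImplicit false
set_option linter.unusedSectionVars false

namespace Cfsg.Agent.Classical.TensorPowerMax.Unitary

open Matrix Cfsg.Geo
open Cfsg.Agent.Classical
open Cfsg.Agent.Classical.TensorPowerMax
open Cfsg.Agent.Classical.TensorMax (kr kr_val kr_mul kr_one kr_inv)
open Cfsg.Agent.Classical.TensorMax.Form (UForm tm tf ctr Data Uel exists_uel uel_fix uel_mid kr_tm ctr_tm ctr_add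
  ctr_eq tf_tm tf_tm_left tf_tm_right tf_semi eq_tm_of_ctr tm_add_left tm_add_right tm_sub_left tm_smul_left
  tm_smul_right)
open scoped Kronecker

variable {F : Type*} [Field F] [Fintype F] {m t q : ℕ} {σ : F ≃+* F} {f : (Fin m → F) → (Fin m → F) → F}

/-- The rank one operator of a vector. -/
def nm (f : (Fin m → F) → (Fin m → F) → F) (u : Fin m → F) : Matrix (Fin m) (Fin m) F := vecMulVec u (fl f u)

theorem nm_mulVec (U : UForm q σ f) (u v : Fin m → F) : nm f u *ᵥ v = f v u • u := by
  rw [nm, Matrix.vecMulVec_mulVec, fl_dot U, op_smul_eq_smul]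

theorem nm_sq (U : UForm q σ f) {u : Fin m → F} (huu : f u u = 0) : nm f u * nm f u = 0 :=
  vecMulVec_sq (by rw [fl_dot U, huu])

theorem nm_adj (U : UForm q σ f) (u : Fin m → F) : formAdj σ f (nm f u) = nm f u :=
  U.refl.adj_unique fun v w => by
    rw [nm_mulVec U, nm_mulVec U, U.refl.semi.smul_left, U.refl.semi.smul_right, U.herm, mul_comm]

theorem nm_ne_zero (U : UForm q σ f) {u : Fin m → F} (hu : u ≠ 0) : nm f u ≠ 0 :=
  vecMulVec_ne_zero hu (fl_ne_zero U hu)

/-- The singular rank one operators generate all matrices. -/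
theorem mem_of_nm (U : UForm q σ f) (hm : 2 ≤ m) (S : Submodule F (Matrix (Fin m) (Fin m) F))
    (hmul : ∀ X Y, X ∈ S → Y ∈ S → X * Y ∈ S)
    (hone : ∀ o, o ≠ 0 → f o o = 0 → nm f o ∈ S) (Y : Matrix (Fin m) (Fin m) F) : Y ∈ S := by
  classical
  have hne : ∀ x y, f x x = 0 → f y y = 0 → x ≠ 0 → y ≠ 0 → f y x ≠ 0 → vecMulVec x (fl f y) ∈ S := by
    intro x y hxx hyy hx hy hne
    have := S.smul_mem (f y x)⁻¹ (hmul _ _ (hone x hx hxx) (hone y hy hyy))
    rwa [nm, nm, Matrix.vecMulVec_mul_vecMulVec, fl_dot U, Matrix.vecMulVec_smul, smul_smul, inv_mul_cancel₀ hne,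
      one_smul] at this
  have htwo : ∀ o o', f o o = 0 → f o' o' = 0 → vecMulVec o (fl f o') ∈ S := by
    intro o o' hoo hoo'
    rcases eq_or_ne o 0 with rfl | ho
    · rw [Matrix.zero_vecMulVec]; exact S.zero_mem
    rcases eq_or_ne o' 0 with rfl | ho'
    · rw [show fl f (0 : Fin m → F) = 0 from funext fun k => U.refl.zero_right _, Matrix.vecMulVec_zero]
      exact S.zero_mem
    by_cases hz : f o' o = 0
    · obtain ⟨w, hww, hwo', hwo⟩ := U.exists_common ho' hoo' ho hz
      have hw : w ≠ 0 := fun e => hwo (by rw [e, U.refl.zero_left])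
      have := S.smul_mem (f w o)⁻¹ (hmul _ _ (hone o ho hoo)
        (hne w o' hww hoo' hw ho' fun e => hwo' (U.refl.eq_zero_swap e)))
      rwa [nm, Matrix.vecMulVec_mul_vecMulVec, fl_dot U, Matrix.vecMulVec_smul, smul_smul, inv_mul_cancel₀ hwo,
        one_smul] at this
    · exact hne o o' hoo hoo' ho ho' hz
  have hspan := U.spanned (by rw [Fintype.card_fin]; exact hm)
  have hfun : ∀ x y, vecMulVec x (fl f y) ∈ S := by
    intro x y
    have hx : x ∈ Submodule.span F {v : Fin m → F | f v v = 0} := by rw [hspan]; trivial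
    induction hx using Submodule.span_induction with
    | mem v hv =>
      have hy : y ∈ Submodule.span F {v : Fin m → F | f v v = 0} := by rw [hspan]; trivial
      induction hy using Submodule.span_induction with
      | mem w hw => exact htwo v w hv hw
      | zero => rw [show fl f (0 : Fin m → F) = 0 from funext fun k => U.refl.zero_right _,
          Matrix.vecMulVec_zero]; exact S.zero_mem
      | add a b _ _ ha hb =>
        rw [show fl f (a + b) = fl f a + fl f b from funext fun k => U.refl.semi.add_right _ _ _,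
          Matrix.vecMulVec_add]
        exact S.add_mem ha hb
      | smul r a _ ha =>
        rw [show fl f (r • a) = σ r • fl f a from funext fun k => U.refl.semi.smul_right _ _ _,
          Matrix.vecMulVec_smul]
        exact S.smul_mem _ ha
    | zero => rw [Matrix.zero_vecMulVec]; exact S.zero_mem
    | add a b _ _ ha hb => rw [Matrix.add_vecMulVec]; exact S.add_mem ha hb
    | smul r a _ ha => rw [Matrix.smul_vecMulVec]; exact S.smul_mem _ ha
  induction Y using Matrix.induction_on' with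
  | h_zero => exact S.zero_mem
  | h_add X Y hX hY => exact S.add_mem hX hY
  | h_std_basis a b c =>
    obtain ⟨u, hu⟩ := U.refl.gram_isUnit
    have e : fl f ((σ : F → F) ∘ (((u⁻¹ : (Matrix (Fin m) (Fin m) F)ˣ) : Matrix (Fin m) (Fin m) F) *ᵥ Pi.single b 1)) =
        Pi.single b 1 := by
      funext k
      rw [fl, U.refl.apply_eq, ← Function.comp_assoc, show (σ : F → F) ∘ (σ : F → F) = id from funext U.refl.invol,
        Function.id_comp, ← hu, Matrix.mulVec_mulVec, Units.mul_inv, Matrix.one_mulVec, single_dotProduct, one_mul]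
    have h' := S.smul_mem c (hfun (Pi.single a 1)
      ((σ : F → F) ∘ (((u⁻¹ : (Matrix (Fin m) (Fin m) F)ˣ) : Matrix (Fin m) (Fin m) F) *ᵥ Pi.single b 1)))
    rwa [e, ← Matrix.single_eq_single_vecMulVec_single, Matrix.smul_single, smul_eq_mul, mul_one] at h'

theorem pureM_adj (U : UForm q σ f) (A : Fin t → Matrix (Fin m) (Fin m) F) :
    formAdj σ (tp σ f t) (pureM A) = pureM fun l => formAdj σ f (A l) := by
  have T := tp_uform U t
  refine T.refl.adj_unique fun v w => ?_
  have hG : ∀ l, (A l)ᵀ * gramMatrix f = gramMatrix f * (formAdj σ f (A l)).map σ := fun l => by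
    rw [show (formAdj σ f (A l)).map σ = (gramMatrix f)⁻¹ * (A l)ᵀ * gramMatrix f from U.refl.map_map _,
      ← Matrix.mul_assoc, ← Matrix.mul_assoc,
      Matrix.mul_nonsing_inv _ ((Matrix.isUnit_iff_isUnit_det _).mp U.refl.gram_isUnit), Matrix.one_mul]
  have hmap : (σ : F → F) ∘ (pureM (fun l => formAdj σ f (A l)) *ᵥ w) =
      pureM (fun l => (formAdj σ f (A l)).map σ) *ᵥ ((σ : F → F) ∘ w) := by
    funext i
    simp [Matrix.mulVec, dotProduct, pureM, map_prod]
  rw [T.refl.apply_eq, T.refl.apply_eq, gram_tp, hmap, Matrix.mulVec_mulVec, pureM_mul,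
    ← Matrix.vecMul_transpose, ← Matrix.dotProduct_mulVec, Matrix.mulVec_mulVec]
  congr 2
  have hT : (pureM A)ᵀ = pureM fun l => (A l)ᵀ := by ext x y; simp [pureM]
  rw [hT, pureM_mul]
  exact congrArg _ (funext hG)

section Step

variable {α : Type} [Fintype α] [DecidableEq α] {fA : (α → F) → (α → F) → F}

theorem kron_nm_mulVec (U : UForm q σ f) (P : Matrix α α F) (u : Fin m → F) (x : α × Fin m → F) :
    (P ⊗ₖ nm f u) *ᵥ x = tm (P *ᵥ ctr f u x) u := by
  have hrow : ∀ (i : α) (l : Fin m), ∑ k, nm f u l k * x (i, k) = ctr f u x i * u l := fun i l =>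
    congrFun (nm_mulVec U u (TensorMax.Form.row x i)) l
  funext p
  rw [Matrix.mulVec, dotProduct, Fintype.sum_prod_type, TensorMax.Form.tm_apply, Matrix.mulVec, dotProduct,
    Finset.sum_mul]
  refine Finset.sum_congr rfl fun b _ => ?_
  simp only [kroneckerMap_apply, mul_assoc, ← Finset.mul_sum, hrow]

/-- The matrix of a contracted fibre image. -/
theorem exists_opMat (D : Data σ 1 1 fA f) (M : Matrix (α × Fin m) (α × Fin m) F) (w u : Fin m → F) :
    ∃ R : Matrix α α F, ∀ a, R *ᵥ a = ctr f w (M *ᵥ tm a u) := by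
  let L : (α → F) →ₗ[F] (α → F) :=
    { toFun := fun a => ctr f w (M *ᵥ tm a u)
      map_add' := fun a b => by rw [tm_add_left, Matrix.mulVec_add, ctr_add D]
      map_smul' := fun r a => by rw [tm_smul_left, Matrix.mulVec_smul, TensorMax.Form.ctr_smul D]; rfl }
  exact ⟨LinearMap.toMatrix' L, fun a => by rw [← Matrix.toLin'_apply, Matrix.toLin'_toMatrix']; rfl⟩

/-- One descent step at a factor. -/
theorem slot_step (UA : UForm q σ fA) (U : UForm q σ f) (hm : 3 ≤ m)
    {S : Set (Matrix (α × Fin m) (α × Fin m) F)} (hsub : ∀ A ∈ S, ∀ B ∈ S, A - B ∈ S)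
    (hconj : ∀ s : GL (Fin m) F, (s : Matrix (Fin m) (Fin m) F).det = 1 →
      (∀ v w, f ((s : Matrix (Fin m) (Fin m) F) *ᵥ v) ((s : Matrix (Fin m) (Fin m) F) *ᵥ w) = f v w) →
      ∀ A ∈ S, (kr (1 : GL α F) s : Matrix (α × Fin m) (α × Fin m) F) * A *
        (((kr (1 : GL α F) s)⁻¹ : GL (α × Fin m) F) : Matrix (α × Fin m) (α × Fin m) F) ∈ S)
    {M : Matrix (α × Fin m) (α × Fin m) F} (hM : M ∈ S)
    (hskew : ∀ x y, tf σ fA f (M *ᵥ x) y + tf σ fA f x (M *ᵥ y) = 0)
    {u : Fin m → F} (hu : u ≠ 0) (huu : f u u = 0)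
    (hne : ((1 : Matrix α α F) ⊗ₖ nm f u) * M ≠ M * ((1 : Matrix α α F) ⊗ₖ nm f u)) :
    ∃ P : Matrix α α F, P ≠ 0 ∧ P ⊗ₖ nm f u ∈ S := by
  classical
  haveI : Nonempty (Fin m) := ⟨⟨0, by omega⟩⟩
  have D : Data σ 1 1 fA f := ⟨UA.refl, U.refl⟩
  obtain ⟨d, hd0, hd⟩ := U.sig.exists_skew
  obtain ⟨a, had, hai, ham, hav⟩ := exists_tv U huu hd
  obtain ⟨R, hR⟩ : ∃ R : GL (α × Fin m) F, R = kr (1 : GL α F) a := ⟨_, rfl⟩
  have hRv : ∀ x, (R : Matrix (α × Fin m) (α × Fin m) F) *ᵥ x = x + tm (d • ctr f u x) u := fun x => by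
    rw [hR, kr_val, Units.val_one, ham, Matrix.vecMulVec_smul, Matrix.kronecker_add, Matrix.one_kronecker_one,
      Matrix.kronecker_smul, Matrix.add_mulVec, Matrix.one_mulVec, Matrix.smul_mulVec,
      show vecMulVec u (fl f u) = nm f u from rfl, kron_nm_mulVec U, Matrix.one_mulVec, tm_smul_left]
  have hRi : ∀ x, ((R⁻¹ : GL (α × Fin m) F) : Matrix (α × Fin m) (α × Fin m) F) *ᵥ x = x - tm (d • ctr f u x) u := by
    intro x
    refine gl_mulVec_injective R ?_
    change (R : Matrix (α × Fin m) (α × Fin m) F) *ᵥ _ = (R : Matrix (α × Fin m) (α × Fin m) F) *ᵥ _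
    rw [gl_mulVec_inv_cancel, hRv, TensorMax.Form.ctr_sub D, ctr_tm D, huu, zero_smul, sub_zero, sub_add_cancel]
  obtain ⟨K, hK⟩ := exists_opMat D M u u
  obtain ⟨ψ, hψ⟩ : ∃ ψ : (α → F) → (α × Fin m → F), ∀ b, ψ b = M *ᵥ tm b u := ⟨_, fun _ => rfl⟩
  have hcu : ∀ x b, fA (ctr f u (M *ᵥ x)) b = -tf σ fA f x (ψ b) := fun x b => by
    rw [← tf_tm_right D, hψ]
    linear_combination hskew x (tm b u)
  have hKs : formAdj σ fA K = -K := UA.refl.adj_unique fun v w => by
    have h1 : fA (K *ᵥ v) w = tf σ fA f (M *ᵥ tm v u) (tm w u) := by rw [hK, tf_tm_right D]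
    have h2 : fA v (K *ᵥ w) = tf σ fA f (tm v u) (M *ᵥ tm w u) := by
      rw [hK, ← UA.herm (ctr f u (M *ᵥ tm w u)) v, tf_tm_left D, one_mul, one_mul]
    rw [Matrix.neg_mulVec, h1, ← neg_one_smul F, UA.refl.semi.smul_right, map_neg, map_one, h2]
    linear_combination hskew (tm v u) (tm w u)
  -- the commutator with the transvection
  obtain ⟨Δ, hΔdef⟩ : ∃ Δ, Δ = (R : Matrix (α × Fin m) (α × Fin m) F) * M *
      ((R⁻¹ : GL (α × Fin m) F) : Matrix (α × Fin m) (α × Fin m) F) - M := ⟨_, rfl⟩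
  have hΔS : Δ ∈ S := hΔdef ▸ hsub _ (hR ▸ hconj a had hai M hM) _ hM
  have hΔ : ∀ x, Δ *ᵥ x = tm (d • ctr f u (M *ᵥ x)) u - d • ψ (ctr f u x) -
      tm ((d * d) • (K *ᵥ ctr f u x)) u := fun x => by
    rw [hΔdef, Matrix.sub_mulVec, ← Matrix.mulVec_mulVec, ← Matrix.mulVec_mulVec, hRi, Matrix.mulVec_sub, tm_smul_left,
      Matrix.mulVec_smul, ← hψ, hRv, TensorMax.Form.ctr_sub D, TensorMax.Form.ctr_smul D, hK, hψ]
    simp only [smul_sub, tm_sub_left, tm_smul_left, smul_smul]
    abel
  -- conjugation by a Siegel element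
  have hsieg : ∀ y, f y u = 0 → ∀ c, (1 : F) * c + σ c + f y y = 0 → ∀ (E : Matrix α α F),
      (∀ b, E *ᵥ b = c • (K *ᵥ b) - ctr f y (ψ b)) → ∃ D₁ ∈ S, ∀ x, D₁ *ᵥ x =
        tm (d • (K *ᵥ ctr f y x)) u - tm (d • ((formAdj σ fA E + E) *ᵥ ctr f u x)) u -
          tm (d • (K *ᵥ ctr f u x)) y := by
    intro y hyu c hc E hE
    obtain ⟨s, hsd, hsi, hU⟩ := exists_uel (α := α) D huu hyu hc
    obtain ⟨G, hG⟩ : ∃ G : GL (α × Fin m) F, G = kr (1 : GL α F) s := ⟨_, rfl⟩
    rw [← hG] at hU
    have hGi : ∀ x z, tf σ fA f ((G : Matrix (α × Fin m) (α × Fin m) F) *ᵥ x)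
        ((G : Matrix (α × Fin m) (α × Fin m) F) *ᵥ z) = tf σ fA f x z := fun x z => by
      rw [hG]
      exact kr_iso D (μ := 1) (ν := 1) (fun v w => by simp) (fun v w => by rw [hsi, one_mul]) (one_mul 1) x z
    have hfix : ∀ b, (G : Matrix (α × Fin m) (α × Fin m) F) *ᵥ tm b u = tm b u := uel_fix D huu hyu hU
    have hψG : ∀ b, (G : Matrix (α × Fin m) (α × Fin m) F) *ᵥ ψ b = ψ b + tm (K *ᵥ b) y + tm (E *ᵥ b) u :=
      fun b => by
      rw [hU, hE, hK, ← hψ]
      simp
    have hc1 : ∀ x, ctr f u (((G⁻¹ : GL (α × Fin m) F) : Matrix (α × Fin m) (α × Fin m) F) *ᵥ x) = ctr f u x :=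
      fun x => ctr_eq D fun b => by
        rw [← hGi, gl_mulVec_inv_cancel, hfix, tf_tm_right D]
    have hc2 : ∀ x, ctr f u (M *ᵥ (((G⁻¹ : GL (α × Fin m) F) : Matrix (α × Fin m) (α × Fin m) F) *ᵥ x)) =
        ctr f u (M *ᵥ x) + K *ᵥ ctr f y x - formAdj σ fA E *ᵥ ctr f u x := fun x => ctr_eq D fun b => by
      rw [tf_tm_right D, hcu, ← hGi, gl_mulVec_inv_cancel, hψG, (tf_semi D).add_right, (tf_semi D).add_right,
        tf_tm_right D, tf_tm_right D, sub_eq_add_neg, UA.refl.semi.add_left, UA.refl.semi.add_left, UA.refl.neg_left,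
        hcu, ← UA.refl.adj_spec', UA.refl.adj_spec K, hKs, Matrix.neg_mulVec, ← neg_one_smul F (K *ᵥ b),
        UA.refl.semi.smul_right, map_neg, map_one]
      ring
    refine ⟨_, hsub _ (hconj s hsd hsi Δ hΔS) _ hΔS, fun x => ?_⟩
    rw [← hG, Matrix.sub_mulVec, ← Matrix.mulVec_mulVec, ← Matrix.mulVec_mulVec, hΔ, hΔ, hc1, hc2,
      Matrix.mulVec_sub, Matrix.mulVec_sub, Matrix.mulVec_smul, hψG, hfix, hfix]
    simp only [smul_add, smul_sub, tm_add_left, tm_sub_left, tm_smul_left, Matrix.add_mulVec]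
    abel
  obtain ⟨W, hW, hWu⟩ := U.exists_perp (k := 1) fun _ => u
  rw [Fintype.card_fin] at hW
  by_cases hK0 : K = 0
  · -- all middle blocks vanish
    by_cases hL : ∀ y, f y u = 0 → ∀ b, ctr f y (ψ b) = 0
    · obtain ⟨u', -, hu'u, huu'⟩ := U.exists_partner hu huu
      obtain ⟨N, hN⟩ := exists_opMat D M u' u
      have hψN : ∀ b, ψ b = tm (N *ᵥ b) u := fun b => by
        obtain ⟨z, hz⟩ := eq_tm_of_ctr D (x := ψ b) fun v' hv' => hL v' hv' b
        rw [hN, ← hψ, hz, ctr_tm D, huu', one_smul]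
      have hcu' : ∀ x, ctr f u (M *ᵥ x) = -(formAdj σ fA N *ᵥ ctr f u x) := fun x => ctr_eq D fun b => by
        rw [tf_tm_right D, hcu, hψN, tf_tm_right D, UA.refl.neg_left, UA.refl.adj_spec']
      refine ⟨(-d) • (formAdj σ fA N + N), fun hP => hne ?_, ?_⟩
      · -- then the transvection commutes with the operator
        have hz : Δ = 0 := Matrix.toLin'.injective (LinearMap.ext fun x => by
          have h0 : (formAdj σ fA N + N) *ᵥ ctr f u x = 0 := by
            rw [(smul_eq_zero.mp hP).resolve_left (neg_ne_zero.mpr hd0), Matrix.zero_mulVec]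
          rw [Matrix.toLin'_apply, hΔ, hcu', hψN, hK0, map_zero, LinearMap.zero_apply, Matrix.zero_mulVec, smul_zero,
            TensorMax.Form.tm_zero_left, sub_zero]
          rw [Matrix.add_mulVec] at h0
          rw [show formAdj σ fA N *ᵥ ctr f u x = -(N *ᵥ ctr f u x) from eq_neg_of_add_eq_zero_left h0, neg_neg,
            tm_smul_left, sub_self])
        rw [hΔdef, sub_eq_zero] at hz
        have hz' : (R : Matrix (α × Fin m) (α × Fin m) F) * M = M * (R : Matrix (α × Fin m) (α × Fin m) F) := by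
          conv_rhs => rw [← hz]
          rw [Matrix.mul_assoc, Units.inv_mul, Matrix.mul_one]
        have hRm : (R : Matrix (α × Fin m) (α × Fin m) F) = 1 + d • ((1 : Matrix α α F) ⊗ₖ nm f u) := by
          rw [hR, kr_val, Units.val_one, ham, Matrix.vecMulVec_smul, Matrix.kronecker_add, Matrix.one_kronecker_one,
            Matrix.kronecker_smul]
          rfl
        rw [hRm, Matrix.add_mul, Matrix.mul_add, Matrix.one_mul, Matrix.mul_one, Matrix.smul_mul, Matrix.mul_smul,
          add_right_inj] at hz'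
        exact smul_right_injective _ hd0 hz'
      · convert hΔS using 1
        refine Matrix.toLin'.injective (LinearMap.ext fun x => ?_)
        rw [Matrix.toLin'_apply, Matrix.toLin'_apply, hΔ, kron_nm_mulVec U, hcu', hψN, hK0, Matrix.zero_mulVec,
          smul_zero, TensorMax.Form.tm_zero_left, sub_zero]
        rw [← neg_one_smul F (formAdj σ fA N *ᵥ ctr f u x)]
        simp only [Matrix.smul_mulVec, Matrix.add_mulVec, smul_add, tm_add_left, tm_smul_left, smul_smul]
        module
    · push Not at hL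
      obtain ⟨y, hyu, b, hb⟩ := hL
      obtain ⟨L, hLm⟩ := exists_opMat D M y u
      obtain ⟨z, hz⟩ : ∃ z : F, σ z ≠ z := by
        by_contra hcon
        push Not at hcon
        exact U.sig.ne_refl (RingEquiv.ext hcon)
      have hstep : ∀ r : F, ∃ D₁ ∈ S, D₁ = (d • (r • formAdj σ fA L + σ r • L)) ⊗ₖ nm f u := by
        intro r
        obtain ⟨c₀, hc₀⟩ := U.exists_trace (U.fixed (r • y))
        obtain ⟨D₁, hD₁, hD₁x⟩ := hsieg (r • y) (by rw [U.refl.semi.smul_left, hyu, mul_zero]) (-c₀)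
          (by rw [map_neg]; linear_combination -hc₀) (-(σ r • L)) fun b => by
            rw [hK0, Matrix.zero_mulVec, smul_zero, zero_sub, Matrix.neg_mulVec, Matrix.smul_mulVec, hLm, ← hψ,
              TensorMax.Form.ctr_smul_vec D]
        refine ⟨D₁, hD₁, Matrix.toLin'.injective (LinearMap.ext fun x => ?_)⟩
        rw [Matrix.toLin'_apply, Matrix.toLin'_apply, hD₁x, kron_nm_mulVec U, hK0, ← neg_one_smul F (σ r • L),
          UA.refl.adj_smul, UA.refl.adj_smul, map_neg, map_one, U.refl.invol]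
        simp only [Matrix.zero_mulVec, smul_zero, TensorMax.Form.tm_zero_left, sub_zero, zero_sub,
          Matrix.smul_mulVec, Matrix.add_mulVec, smul_add, tm_add_left, tm_smul_left, smul_smul]
        module
      by_cases h1 : d • ((1 : F) • formAdj σ fA L + σ 1 • L) = 0
      · refine ⟨d • (z • formAdj σ fA L + σ z • L), fun h2 => hb ?_, ?_⟩
        · rw [map_one, one_smul, one_smul] at h1
          have e1 := (smul_eq_zero.mp h1).resolve_left hd0
          have e2 := (smul_eq_zero.mp h2).resolve_left hd0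
          rw [eq_neg_of_add_eq_zero_left e1, smul_neg, neg_add_eq_sub, ← sub_smul, smul_eq_zero] at e2
          rw [hψ, ← hLm, e2.resolve_left (sub_ne_zero.mpr hz), Matrix.zero_mulVec]
        · obtain ⟨D₁, hD₁, rfl⟩ := hstep z
          exact hD₁
      · obtain ⟨D₁, hD₁, rfl⟩ := hstep 1
        exact ⟨_, h1, hD₁⟩
  · -- an anisotropic parameter, twice
    obtain ⟨y, hy, hyy⟩ := U.exists_aniso (W := W) (by rw [Fintype.card_fin]; omega)
    have hyu : f y u = 0 := hWu y hy 0
    have huy : f u y = 0 := U.refl.eq_zero_swap hyu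
    obtain ⟨c₀, hc₀⟩ := U.exists_trace (U.fixed y)
    obtain ⟨L, hLm⟩ := exists_opMat D M y u
    obtain ⟨D₁, hD₁, hD₁x⟩ := hsieg y hyu (-c₀) (by rw [map_neg]; linear_combination -hc₀) ((-c₀) • K - L)
      fun b => by rw [Matrix.sub_mulVec, Matrix.smul_mulVec, hLm, hψ]
    obtain ⟨θ, hθ⟩ : ∃ θ : F, σ θ ≠ θ := by
      by_contra hcon
      push Not at hcon
      exact U.sig.ne_refl (RingEquiv.ext hcon)
    have hy'u : f (θ • y) u = 0 := by rw [U.refl.semi.smul_left, hyu, mul_zero]
    obtain ⟨c₁, hc₁⟩ := U.exists_trace (U.fixed (θ • y))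
    obtain ⟨s, hsd, hsi, hU⟩ := exists_uel (α := α) D huu hy'u (c := -c₁) (by rw [map_neg]; linear_combination -hc₁)
    obtain ⟨G, hG⟩ : ∃ G : GL (α × Fin m) F, G = kr (1 : GL α F) s := ⟨_, rfl⟩
    rw [← hG] at hU
    have hfix : ∀ b, (G : Matrix (α × Fin m) (α × Fin m) F) *ᵥ tm b u = tm b u := uel_fix D huu hy'u hU
    have hmid : ∀ b, (G : Matrix (α × Fin m) (α × Fin m) F) *ᵥ tm b y = tm b y + tm (-(σ θ * f y y) • b) u :=
      fun b => by
      rw [uel_mid D hU hyu b, map_one, one_mul, U.refl.semi.smul_right]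
    have hGi : ∀ x z, tf σ fA f ((G : Matrix (α × Fin m) (α × Fin m) F) *ᵥ x)
        ((G : Matrix (α × Fin m) (α × Fin m) F) *ᵥ z) = tf σ fA f x z := fun x z => by
      rw [hG]
      exact kr_iso D (μ := 1) (ν := 1) (fun v w => by simp) (fun v w => by rw [hsi, one_mul]) (one_mul 1) x z
    have hc1 : ∀ x, ctr f u (((G⁻¹ : GL (α × Fin m) F) : Matrix (α × Fin m) (α × Fin m) F) *ᵥ x) = ctr f u x :=
      fun x => ctr_eq D fun b => by rw [← hGi, gl_mulVec_inv_cancel, hfix, tf_tm_right D]
    have hc2 : ∀ x, ctr f y (((G⁻¹ : GL (α × Fin m) F) : Matrix (α × Fin m) (α × Fin m) F) *ᵥ x) =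
        ctr f y x + (-(θ * f y y)) • ctr f u x := fun x => ctr_eq D fun b => by
      rw [← hGi, gl_mulVec_inv_cancel, hmid, (tf_semi D).add_right, tf_tm_right D, tf_tm_right D,
        UA.refl.semi.add_left, UA.refl.semi.smul_left, UA.refl.semi.smul_right, map_neg, map_mul, U.refl.invol, U.fixed]
    refine ⟨(d * (σ θ * f y y - θ * f y y)) • K, smul_ne_zero (mul_ne_zero hd0 ?_) hK0, ?_⟩
    · rw [← sub_mul]
      exact mul_ne_zero (sub_ne_zero.mpr hθ) hyy
    · convert hsub _ (hconj s hsd hsi D₁ hD₁) _ hD₁ using 1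
      refine Matrix.toLin'.injective (LinearMap.ext fun x => ?_)
      rw [Matrix.toLin'_apply, Matrix.toLin'_apply, kron_nm_mulVec U, ← hG, Matrix.sub_mulVec,
        ← Matrix.mulVec_mulVec, ← Matrix.mulVec_mulVec, hD₁x, hD₁x, hc1, hc2, Matrix.mulVec_sub, Matrix.mulVec_sub,
        hfix, hfix, hmid]
      simp only [Matrix.mulVec_add, Matrix.mulVec_smul, Matrix.smul_mulVec, smul_add, tm_add_left, tm_smul_left,
        smul_smul]
      module

end Step

theorem emb_sub (k : Fin (t + 1)) (Y : Matrix (Fin m) (Fin m) F) (N N' : Matrix (Fin t → Fin m) (Fin t → Fin m) F) :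
    Emb k Y (N - N') = Emb k Y N - Emb k Y N' := by
  ext x y; simp [Emb, sub_mul]

theorem emb_pureM (k : Fin (t + 1)) (Y : Matrix (Fin m) (Fin m) F) (A : Fin t → Matrix (Fin m) (Fin m) F) :
    Emb k Y (pureM A) = pureM (k.insertNth Y A) := by
  ext x y
  rw [Emb, Matrix.reindex_apply, Matrix.submatrix_apply, kroneckerMap_apply, spl_symm_apply, spl_symm_apply]
  simp only [pureM, Matrix.of_apply]
  rw [Fin.prod_univ_succAbove _ k]
  simp [mul_comm]

theorem J_conj (k : Fin (t + 1)) (g : GL ((Fin t → Fin m) × Fin m) F)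
    (M : Matrix ((Fin t → Fin m) × Fin m) ((Fin t → Fin m) × Fin m) F) :
    (J k g : Matrix (Fin (t + 1) → Fin m) (Fin (t + 1) → Fin m) F) * Matrix.reindex (spl k) (spl k) M *
      (((J k g)⁻¹ : GL (Fin (t + 1) → Fin m) F) : Matrix (Fin (t + 1) → Fin m) (Fin (t + 1) → Fin m) F) =
      Matrix.reindex (spl k) (spl k) ((g : Matrix ((Fin t → Fin m) × Fin m) ((Fin t → Fin m) × Fin m) F) * M *
        ((g⁻¹ : GL ((Fin t → Fin m) × Fin m) F) : Matrix ((Fin t → Fin m) × Fin m) ((Fin t → Fin m) × Fin m) F)) := by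
  rw [← map_inv, J_val, J_val]
  simp only [Matrix.reindex_apply, Matrix.submatrix_mul_equiv]

/-- A non-scalar member of a set of skew operators closed under differences and conjugation leads to a product of
singular rank one operators. -/
theorem descend (U : UForm q σ f) (hm : 3 ≤ m) : ∀ (t : ℕ) (S : Set (Matrix (Fin t → Fin m) (Fin t → Fin m) F)),
    (∀ A ∈ S, ∀ B ∈ S, A - B ∈ S) →
    (∀ a ∈ Ns σ f t, ∀ A ∈ S, (a : Matrix (Fin t → Fin m) (Fin t → Fin m) F) * A *
      ((a⁻¹ : GL (Fin t → Fin m) F) : Matrix (Fin t → Fin m) (Fin t → Fin m) F) ∈ S) →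
    (∀ A ∈ S, formAdj σ (tp σ f t) A = -A) → ∀ M ∈ S, (∀ l : F, M ≠ l • 1) →
    ∃ (c : F) (A : Fin t → Matrix (Fin m) (Fin m) F), c ≠ 0 ∧ c + σ c = 0 ∧ c • pureM A ∈ S ∧
      (∀ l, A l = 1 ∨ ∃ u, u ≠ 0 ∧ f u u = 0 ∧ A l = nm f u) ∧ ∃ l, A l ≠ 1 := by
  intro t
  induction t with
  | zero =>
    intro S _ _ _ M _ hne
    exact absurd (Matrix.ext fun x y => by
      rw [Subsingleton.elim x default, Subsingleton.elim y default, Matrix.smul_apply, Matrix.one_apply_eq,
        smul_eq_mul, mul_one]) (hne (M default default))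
  | succ t ih =>
    intro S hsub hconj hskew M hMS hne
    classical
    have T := tp_uform U (t + 1)
    -- some factor does not commute
    obtain ⟨k, u, hu, huu, hk⟩ : ∃ (k : Fin (t + 1)) (u : Fin m → F), u ≠ 0 ∧ f u u = 0 ∧
        facM k (nm f u) * M ≠ M * facM k (nm f u) := by
      by_contra hcon
      push Not at hcon
      have hfac : ∀ k Y, facM k Y * M = M * facM k Y := by
        intro k Y
        let C : Submodule F (Matrix (Fin m) (Fin m) F) :=
          { carrier := {Y | facM k Y * M = M * facM k Y}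
            add_mem' := fun {a b} ha hb => by
              simp only [Set.mem_setOf_eq] at *
              rw [facM_add, add_mul, mul_add, ha, hb]
            zero_mem' := by
              simp only [Set.mem_setOf_eq]
              rw [show (0 : Matrix (Fin m) (Fin m) F) = (0 : F) • 1 from (zero_smul _ _).symm, facM_smul, zero_smul,
                zero_mul, mul_zero]
            smul_mem' := fun r a ha => by
              simp only [Set.mem_setOf_eq] at *
              rw [facM_smul, smul_mul_assoc, mul_smul_comm, ha] }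
        exact mem_of_nm U (by omega) C (fun a b ha hb => by
          show facM k (a * b) * M = M * facM k (a * b)
          rw [← facM_mul, mul_assoc, show facM k b * M = M * facM k b from hb, ← mul_assoc,
            show facM k a * M = M * facM k a from ha, mul_assoc]) (fun o ho hoo => hcon k o ho hoo) Y
      have hall : ∀ N, N * M = M * N := mem_of_facs {N | N * M = M * N} (by simp)
        (fun a b ha hb => by simp only [Set.mem_setOf_eq] at *; rw [add_mul, mul_add, ha, hb])
        (fun r a ha => by simp only [Set.mem_setOf_eq] at *; rw [smul_mul_assoc, mul_smul_comm, ha])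
        (fun a b ha hb => by
          simp only [Set.mem_setOf_eq] at *
          rw [mul_assoc, hb, ← mul_assoc, ha, mul_assoc]) hfac
      obtain ⟨r, hr⟩ := Matrix.mem_range_scalar_of_commute_single (M := M) fun i j _ => hall _
      exact hne r (by rw [← hr, Matrix.scalar_apply, ← Matrix.smul_one_eq_diagonal])
    obtain ⟨M', rfl⟩ := (Matrix.reindex (α := F) (spl k) (spl k)).surjective M
    obtain ⟨P, hP0, hP⟩ := slot_step (tp_uform U t) U hm
      (S := {A | Matrix.reindex (spl k) (spl k) A ∈ S}) (fun A hA B hB => by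
        show Matrix.reindex (spl k) (spl k) (A - B) ∈ S
        exact hsub _ hA _ hB)
      (fun s hsd hsi A hA => by
        have := hconj _ (right_mem_ns U k hsd hsi) _ hA
        rwa [J_conj] at this)
      hMS (fun x y => by
        obtain ⟨x, rfl⟩ : ∃ z, x = z ∘ spl k := ⟨x ∘ (spl k).symm, by simp [Function.comp_assoc]⟩
        obtain ⟨y, rfl⟩ : ∃ z, y = z ∘ spl k := ⟨y ∘ (spl k).symm, by simp [Function.comp_assoc]⟩
        have e : ∀ z : (Fin (t + 1) → Fin m) → F, M' *ᵥ (z ∘ spl k) =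
            (Matrix.reindex (spl k) (spl k) M' *ᵥ z) ∘ spl k := fun z => by
          rw [Matrix.reindex_apply, Matrix.submatrix_mulVec_equiv, Equiv.symm_symm, Function.comp_assoc,
            Equiv.symm_comp_self, Function.comp_id]
        rw [e, e, ← tp_spl, ← tp_spl, T.refl.adj_spec, hskew _ hMS, Matrix.neg_mulVec, ← neg_one_smul F,
          T.refl.semi.smul_right, map_neg, map_one]
        ring) hu huu (fun e => hk (by
          rw [← emb_one, Emb]
          simp only [Matrix.reindex_apply, Matrix.submatrix_mul_equiv, e]))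
    obtain ⟨u', -, hu'u, huu'⟩ := U.exists_partner hu huu
    have hskew' : ∀ A, Emb k (nm f u) A ∈ S → formAdj σ (tp σ f t) A = -A := fun A hA => by
      refine (tp_uform U t).refl.adj_unique fun v w => ?_
      obtain ⟨x, hx⟩ : ∃ x, x = fun z : (Fin t → Fin m) → F => tm z u' ∘ (spl k).symm := ⟨_, rfl⟩
      have e : ∀ z, (Emb k (nm f u) A *ᵥ x z) ∘ spl k = tm (A *ᵥ z) u := fun z => by
        rw [hx, Emb, Matrix.reindex_apply, Matrix.submatrix_mulVec_equiv, Equiv.symm_symm, Function.comp_assoc,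
          Equiv.symm_comp_self, Function.comp_id, Function.comp_assoc, Equiv.symm_comp_self, Function.comp_id,
          kron_nm_mulVec U, ctr_tm (data U t), hu'u, one_smul]
      have h := T.refl.adj_spec (Emb k (nm f u) A) (x v) (x w)
      rw [hskew _ hA, Matrix.neg_mulVec, ← neg_one_smul F, T.refl.semi.smul_right, map_neg, map_one, tp_spl k,
        tp_spl k, e, e, hx] at h
      simp only [Function.comp_assoc, Equiv.symm_comp_self, Function.comp_id] at h
      rw [tf_tm (data U t), tf_tm (data U t), hu'u, huu', mul_one, mul_one] at h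
      rw [Matrix.neg_mulVec, ← neg_one_smul F, (tp_uform U t).refl.semi.smul_right, map_neg, map_one]
      exact h
    by_cases hsc : ∃ l : F, P = l • 1
    · obtain ⟨l, rfl⟩ := hsc
      have hl0 : l ≠ 0 := fun e => hP0 (by rw [e, zero_smul])
      have hmem : l • Emb k (nm f u) 1 ∈ S := emb_smul k (nm f u) l 1 ▸ (hP : Emb k (nm f u) (l • 1) ∈ S)
      have hl : l + σ l = 0 := by
        have h := hskew' (l • 1) hP
        rw [(tp_uform U t).refl.adj_scalar, ← neg_smul] at h
        haveI : Nonempty (Fin m) := ⟨⟨0, by omega⟩⟩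
        have h' := congrFun (congrFun h (fun _ => Classical.arbitrary _)) (fun _ => Classical.arbitrary _)
        rw [Matrix.smul_apply, Matrix.smul_apply, Matrix.one_apply_eq, smul_eq_mul, smul_eq_mul, mul_one, mul_one] at h'
        rw [h']; ring
      rw [emb_one] at hmem
      refine ⟨l, Function.update (fun _ => 1) k (nm f u), hl0, hl, hmem, fun j => ?_, k, ?_⟩
      · rcases eq_or_ne j k with rfl | hj
        · exact Or.inr ⟨u, hu, huu, Function.update_self ..⟩
        · exact Or.inl (Function.update_of_ne hj ..)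
      · rw [Function.update_self]
        intro e
        have h2 := nm_sq U huu
        rw [e, mul_one] at h2
        haveI : Nonempty (Fin m) := ⟨⟨0, by omega⟩⟩
        exact one_ne_zero h2
    · push Not at hsc
      obtain ⟨c, A, hc, hcs, hA, hA1, j, hj⟩ := ih {A | Emb k (nm f u) A ∈ S}
        (fun A hA B hB => by
          show Emb k (nm f u) (A - B) ∈ S
          rw [emb_sub]
          exact hsub _ hA _ hB)
        (fun a ha A hA => by
          have := hconj _ (left_mem_ns U k ha) _ hA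
          rw [Emb, J_conj, kr_inv, kr_val, kr_val, ← Matrix.mul_kronecker_mul, ← Matrix.mul_kronecker_mul, inv_one,
            Units.val_one, Matrix.one_mul, Matrix.mul_one] at this
          exact this)
        hskew' P hP hsc
      refine ⟨c, k.insertNth (nm f u) A, hc, hcs, ?_, fun l => ?_, k.succAbove j, by
        rwa [Fin.insertNth_apply_succAbove]⟩
      · rw [← emb_pureM, ← emb_smul]
        exact hA
      · rcases Fin.eq_self_or_eq_succAbove k l with rfl | ⟨l, rfl⟩
        · exact Or.inr ⟨u, hu, huu, Fin.insertNth_apply_same ..⟩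
        · rw [Fin.insertNth_apply_succAbove]
          exact hA1 l

end Cfsg.Agent.Classical.TensorPowerMax.Unitary
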