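/-
Transvection centres in a tensor product of Hermitian spaces: pure centres with one singular side give all.
-/
import Cfsg.Agent.Lib.Classical.TensorMax.Form.UGen
import Cfsg.Agent.Lib.Classical.UnitaryOvergroup
import Cfsg.Agent.Lib.Classical.UnitaryPlanes
import Cfsg.Agent.Lib.Classical.UTPow.Basic

set_option autoImplicit false
set_option linter.unusedSectionVars false

namespace Cfsg.Agent.Classical.TensorPowerMax.Unitary

open Matrix Module Cfsg.Geo
open Cfsg.Agent.Classical
open Cfsg.Agent.Classical.TensorMax.Form (UForm tm tf ctr Data HasT tf_semi tf_tm tf_tm_right ctr_tm tm_add_left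
  tm_add_right tm_sub_left tm_sub_right tm_smul_left tm_smul_right tm_zero_left tm_zero_right reflex row sum_rows)

variable {α β : Type} [Fintype α] [DecidableEq α] [Fintype β] [DecidableEq β] {F : Type*} [Field F] [Fintype F]
variable {q : ℕ} {σ : F ≃+* F} {fA : (α → F) → (α → F) → F} {fB : (β → F) → (β → F) → F}
variable {X : Subgroup (GL (α × β) F)}

/-- The group preserves the product form. -/
structure Pres (σ : F ≃+* F) (fA : (α → F) → (α → F) → F) (fB : (β → F) → (β → F) → F)
    (X : Subgroup (GL (α × β) F)) : Prop where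
  iso : ∀ g ∈ X, ∀ x y, tf σ fA fB ((g : Matrix (α × β) (α × β) F) *ᵥ x) ((g : Matrix (α × β) (α × β) F) *ᵥ y) =
    tf σ fA fB x y

local notation:max g:max " ⬝ₘ " x:max => ((g : GL (α × β) F) : Matrix (α × β) (α × β) F) *ᵥ x
local notation "Φ" => tf σ fA fB

variable (UA : UForm q σ fA) (UB : UForm q σ fB) (H : Pres σ fA fB X)

include UA UB H

theorem data₂ : Data σ 1 1 fA fB := ⟨UA.refl, UB.refl⟩

theorem uform_tf : UForm q σ (tf σ fA fB) :=
  ⟨UA.sig, by simpa using reflex (data₂ UA UB H)⟩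

theorem exists_trans {p : α × β → F} (hp : Φ p p = 0) {c : F} (hc : c + σ c = 0) :
    ∃ g : GL (α × β) F, ∀ x, g ⬝ₘ x = x + (c * Φ x p) • p := by
  have UV := uform_tf UA UB H
  by_cases hne : Nonempty (α × β)
  swap
  · exact ⟨1, fun x => funext fun i => absurd ⟨i⟩ hne⟩
  obtain ⟨g, -, -, hgx⟩ := Radical.exists_UF UV.refl hp (UV.refl.zero_left p) (c := c)
    (by rw [UV.refl.zero_left, one_mul, hc, add_zero])
  exact ⟨g, fun x => by rw [hgx, smul_zero, add_zero, UV.refl.zero_right, mul_zero, sub_zero]⟩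

theorem hasT_zero : HasT σ fA fB X 0 := fun _ g _ hg => by
  rw [show g = 1 from gl_ext_mulVec fun x => by simp [hg]]
  exact one_mem X

theorem hasT_map {g : GL (α × β) F} (hg : g ∈ X) {p : α × β → F} (hp : HasT σ fA fB X p) :
    HasT σ fA fB X (g ⬝ₘ p) := fun c T hc hT => by
  have h := hp c (g⁻¹ * T * g) hc fun x => by
    rw [gl_mul_mulVec, gl_mul_mulVec, hT, H.iso g hg, Matrix.mulVec_add, Matrix.mulVec_smul, gl_inv_mulVec_cancel,
      gl_inv_mulVec_cancel]
  have := mul_mem (mul_mem hg h) (inv_mem hg)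
  rwa [show g * (g⁻¹ * T * g) * g⁻¹ = T by group] at this

theorem hasT_smul {p : α × β → F} (hp : HasT σ fA fB X p) (r : F) : HasT σ fA fB X (r • p) := fun c T hc hT => by
  refine hp (c * (σ r * r)) T ?_ fun x => ?_
  · rw [map_mul, map_mul, UA.sig.involutive]
    linear_combination (σ r * r) * hc
  · rw [hT, (tf_semi (data₂ UA UB H)).smul_right, smul_smul]
    congr 2
    ring

theorem hasT_join {p r : α × β → F} (hp : HasT σ fA fB X p) (hr : HasT σ fA fB X r) (hpp : Φ p p = 0)
    (hrr : Φ r r = 0) (hne : Φ p r ≠ 0) {s : F} (hs : Φ (p + s • r) (p + s • r) = 0) :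
    HasT σ fA fB X (p + s • r) := by
  have UV := uform_tf UA UB H
  rw [UV.expand, hpp, hrr, ← UV.herm p r] at hs
  have hne' : σ (Φ p r) ≠ 0 := (map_ne_zero σ).mpr hne
  have hc : s / Φ p r + σ (s / Φ p r) = 0 := by
    rw [map_div₀]
    field_simp
    rw [map_mul, UA.sig.involutive] at hs
    linear_combination hs
  obtain ⟨g, hg⟩ := exists_trans UA UB H hrr hc
  have e : g ⬝ₘ p = p + s • r := by rw [hg, div_mul_cancel₀ _ hne]
  exact e ▸ hasT_map UA UB H (hr _ g hc hg) hp

section Step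

variable (hS : ∀ {u : α → F}, fA u u = 0 → ∀ b : β → F, HasT σ fA fB X (tm u b)) (h5 : 3 ≤ Fintype.card β)

include hS h5

/-- Singular vectors in a hyperbolic plane tensored with the second factor. -/
theorem hasT_plane {u v : α → F} (huu : fA u u = 0) (hvv : fA v v = 0) (huv : fA u v = 1) {p r : β → F}
    (hd : Φ (tm u p + tm v r) (tm u p + tm v r) = 0) : HasT σ fA fB X (tm u p + tm v r) := by
  have D := data₂ UA UB H
  have UV := uform_tf UA UB H
  have hvu : fA v u = 1 := by rw [← UA.herm, huv, map_one]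
  rcases eq_or_ne r 0 with hr | hr
  · rw [hr, tm_zero_right, add_zero]; exact hS huu p
  have hexp : ∀ p', Φ (tm u p' + tm v r) (tm u p' + tm v r) = fB p' r + fB r p' := fun p' => by
    rw [(tf_semi D).add_left, (tf_semi D).add_right, (tf_semi D).add_right, tf_tm D, tf_tm D, tf_tm D, tf_tm D, huu,
      hvv, huv, hvu]
    ring
  have hdirect : ∀ p', Φ (tm u p' + tm v r) (tm u p' + tm v r) = 0 → fB p' r ≠ 0 →
      HasT σ fA fB X (tm u p' + tm v r) := fun p' h hne => by
    have h' := h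
    rw [show tm u p' + tm v r = tm u p' + (1 : F) • tm v r by rw [one_smul]] at h' ⊢
    exact hasT_join UA UB H (hS huu p') (hS hvv r)
      (by rw [tf_tm D, huu, zero_mul]) (by rw [tf_tm D, hvv, zero_mul]) (by rwa [tf_tm D, huv, one_mul]) h'
  by_cases hpr : fB p r = 0
  swap
  · exact hdirect p hd hpr
  obtain ⟨p', hp'⟩ := (UB.refl.nondeg r hr).2
  obtain ⟨c, hc0, hc⟩ := UA.sig.exists_skew
  obtain ⟨g, hg⟩ := exists_trans UA UB H (p := tm u p') (by rw [tf_tm D, huu, zero_mul]) hc
  have hgX : g ∈ X := hS huu p' c g hc hg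
  obtain ⟨p₁, hp₁⟩ : ∃ p₁, p₁ = p + (c * fB r p') • p' := ⟨_, rfl⟩
  have e : g ⬝ₘ (tm u p + tm v r) = tm u p₁ + tm v r := by
    rw [hg, (tf_semi D).add_left, tf_tm D, tf_tm D, huu, hvu, zero_mul, zero_add, one_mul, hp₁, tm_add_right,
      tm_smul_right]
    abel
  have h1 : Φ (tm u p₁ + tm v r) (tm u p₁ + tm v r) = 0 := by rw [← e, H.iso g hgX, hd]
  have h2 := hdirect p₁ h1 (by
    rw [hp₁, UB.refl.semi.add_left, UB.refl.semi.smul_left, hpr, zero_add, ← UB.herm r p']
    exact mul_ne_zero (mul_ne_zero hc0 hp') ((map_ne_zero σ).mpr hp'))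
  have := hasT_map UA UB H (inv_mem hgX) h2
  rwa [← e, gl_inv_mulVec_cancel] at this

theorem hasT_two {a a' : α → F} (haa : fA a a = 1) (ha' : fA a' a' = 1) (h0 : fA a a' = 0) {p r : β → F}
    (hd : Φ (tm a p + tm a' r) (tm a p + tm a' r) = 0) : HasT σ fA fB X (tm a p + tm a' r) := by
  have h0' : fA a' a = 0 := UA.refl.eq_zero_swap h0
  obtain ⟨s, hs0, hs⟩ := UA.sig.norm_surjective (t := (-1 : F)) (neg_ne_zero.mpr one_ne_zero) (by rw [map_neg, map_one])
  obtain ⟨μ, hμ, hμ1, -, -⟩ := UA.sig.exists_norm_one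
  have hiso : ∀ m : F, m * σ m = 1 → fA (a + (m * s) • a') (a + (m * s) • a') = 0 := fun m hm => by
    rw [UA.expand, haa, ha', h0']
    simp only [mul_zero, map_zero, add_zero, mul_one, map_mul]
    linear_combination (s * σ s) * hm + hs
  obtain ⟨u, hu⟩ : ∃ u, u = a + s • a' := ⟨_, rfl⟩
  have huu : fA u u = 0 := by
    have := hiso 1 (by rw [one_mul, map_one])
    rwa [one_mul, ← hu] at this
  have hμ1' : 1 - μ ≠ 0 := sub_ne_zero.mpr (Ne.symm hμ1)
  have hvu : fA (a + (μ * s) • a') u = 1 - μ := by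
    rw [hu, UA.refl.semi.add_left, UA.refl.semi.add_right, UA.refl.semi.add_right, UA.refl.semi.smul_left,
      UA.refl.semi.smul_left, UA.refl.semi.smul_right, UA.refl.semi.smul_right, haa, ha', h0, h0']
    linear_combination μ * hs
  obtain ⟨k, hk⟩ : ∃ k, k = (1 - μ)⁻¹ := ⟨_, rfl⟩
  have hk0 : k ≠ 0 := hk ▸ inv_ne_zero hμ1'
  obtain ⟨v, hv⟩ : ∃ v, v = k • (a + (μ * s) • a') := ⟨_, rfl⟩
  have hvv : fA v v = 0 := by rw [hv, UA.refl.semi.smul_left, UA.refl.semi.smul_right, hiso μ hμ, mul_zero, mul_zero]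
  have huv : fA u v = 1 := by
    rw [← UA.herm, hv, UA.refl.semi.smul_left, hvu, hk, inv_mul_cancel₀ hμ1', map_one]
  have ha2 : a' = s⁻¹ • (k • u - v) := by
    rw [hu, hv, show k • (a + s • a') - k • (a + (μ * s) • a') = (k * (1 - μ) * s) • a' by module, smul_smul, hk,
      inv_mul_cancel₀ hμ1', one_mul, inv_mul_cancel₀ hs0, one_smul]
  have ha1 : a = (1 - k) • u + v := by
    have : a = u - s • a' := by rw [hu, add_sub_cancel_right]
    rw [this, ha2, smul_smul, mul_inv_cancel₀ hs0]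
    module
  have e : tm a p + tm a' r = tm u ((1 - k) • p + (s⁻¹ * k) • r) + tm v (p - s⁻¹ • r) := by
    rw [ha1, ha2]
    simp only [tm_add_left, tm_sub_left, tm_smul_left, tm_add_right, tm_sub_right, tm_smul_right, smul_sub, smul_smul]
    module
  rw [e] at hd ⊢
  exact hasT_plane UA UB H hS h5 huu hvv huv hd

/-- All singular vectors are centres. -/
theorem hasT_all {k : ℕ} (hk : 2 ≤ k) (e : Fin k → (α → F)) (he : ∀ i j, fA (e i) (e j) = if i = j then 1 else 0)
    (hspan : ∀ x : α × β → F, ∃ b : Fin k → (β → F), x = ∑ i, tm (e i) (b i)) {x : α × β → F} (hx : Φ x x = 0) :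
    HasT σ fA fB X x := by
  classical
  have D := data₂ UA UB H
  have UV := uform_tf UA UB H
  have hne : ∀ {i j}, i ≠ j → fA (e i) (e j) = 0 := fun h => by rw [he, if_neg h]
  suffices key : ∀ (n : ℕ) (S : Finset (Fin k)) (b : Fin k → β → F), S.card ≤ n →
      Φ (∑ i ∈ S, tm (e i) (b i)) (∑ i ∈ S, tm (e i) (b i)) = 0 → HasT σ fA fB X (∑ i ∈ S, tm (e i) (b i)) by
    obtain ⟨b, rfl⟩ := hspan x
    exact key _ Finset.univ b le_rfl hx
  intro n
  induction n with
  | zero =>
    intro S b hS' _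
    rw [Finset.card_eq_zero.mp (Nat.le_zero.mp hS'), Finset.sum_empty]
    exact hasT_zero UA UB H
  | succ n ih =>
    intro S b hS' hiso
    by_cases hn : S.card ≤ n
    · exact ih S b hn hiso
    have hpos : 0 < S.card := by omega
    obtain ⟨i, hi⟩ := Finset.card_pos.mp hpos
    have hone : ∀ (a : Fin k) (p : β → F), Φ (tm (e a) p) (tm (e a) p) = 0 → HasT σ fA fB X (tm (e a) p) := by
      intro a p hp
      obtain ⟨j, hj⟩ : ∃ j, j ≠ a := by
        haveI : Nontrivial (Fin k) := Fin.nontrivial_iff_two_le.mpr hk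
        exact exists_ne a
      have := hasT_two UA UB H hS h5 (p := p) (r := 0) ((he a a).trans (if_pos rfl)) ((he j j).trans (if_pos rfl))
        (hne (Ne.symm hj)) (by rwa [tm_zero_right, add_zero])
      rwa [tm_zero_right, add_zero] at this
    by_cases hsingle : S = {i}
    · subst hsingle
      rw [Finset.sum_singleton] at hiso ⊢
      exact hone i _ hiso
    obtain ⟨j, hj, hji⟩ : ∃ j ∈ S, j ≠ i := by
      by_contra hcon
      push Not at hcon
      exact hsingle (Finset.eq_singleton_iff_unique_mem.mpr ⟨hi, hcon⟩)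
    -- the part outside the two indices
    obtain ⟨rest, hrest⟩ : ∃ rest, rest = ∑ a ∈ (S.erase i).erase j, tm (e a) (b a) := ⟨_, rfl⟩
    have hsplit : ∑ a ∈ S, tm (e a) (b a) = tm (e i) (b i) + tm (e j) (b j) + rest := by
      rw [← Finset.add_sum_erase _ _ hi, ← Finset.add_sum_erase _ _ (Finset.mem_erase.mpr ⟨hji, hj⟩), hrest, add_assoc]
    have horth : ∀ a, a = i ∨ a = j → ∀ w : β → F, Φ rest (tm (e a) w) = 0 := fun a ha w => by
      rw [hrest, UV.refl.sum_left]
      refine Finset.sum_eq_zero fun l hl => ?_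
      simp only [Finset.mem_erase] at hl
      rw [tf_tm D, hne (by rintro rfl; rcases ha with rfl | rfl; exact hl.2.1 rfl; exact hl.1 rfl), zero_mul]
    by_cases hbi : b i = 0
    · have e0 : ∑ a ∈ S, tm (e a) (b a) = ∑ a ∈ S.erase i, tm (e a) (b a) := by
        rw [← Finset.add_sum_erase _ _ hi, hbi, tm_zero_right, zero_add]
      rw [e0] at hiso ⊢
      exact ih _ b (by rw [Finset.card_erase_of_mem hi]; omega) hiso
    -- merge the two components
    obtain ⟨m, hm⟩ : ∃ m, m = fB (b i) (b i) + fB (b j) (b j) := ⟨_, rfl⟩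
    have hmσ : σ m = m := by rw [hm, map_add, UB.fixed, UB.fixed]
    obtain ⟨δ, hδ0, hδ⟩ := UB.sig.exists_skew
    obtain ⟨z, hz⟩ : ∃ z, fB (b i) z = m + δ := by
      obtain ⟨w, hw⟩ := (UB.refl.nondeg _ hbi).2
      exact ⟨σ ((m + δ) / fB (b i) w) • w, by rw [UB.refl.semi.smul_right, UB.sig.involutive, div_mul_cancel₀ _ hw]⟩
    obtain ⟨W, hW, hWs⟩ := UB.exists_perp (k := 1) fun _ => b i
    obtain ⟨y, hy, hyy⟩ := UB.exists_aniso (W := W) (by omega)
    obtain ⟨s, hs⟩ := UB.fix_norm hyy z hmσ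
    obtain ⟨b', hb'⟩ : ∃ b', b' = z + s • y := ⟨_, rfl⟩
    rw [← hb'] at hs
    have hbb' : fB (b i) b' = m + δ := by
      rw [hb', UB.refl.semi.add_right, UB.refl.semi.smul_right, UB.refl.eq_zero_swap (hWs y hy 0), mul_zero, add_zero, hz]
    obtain ⟨d, hd⟩ : ∃ d, d = tm (e i) (b' - b i) + tm (e j) (-b j) := ⟨_, rfl⟩
    have hfi : ∀ p r, Φ (tm (e i) p + tm (e j) r) d = fB p b' - fB p (b i) - fB r (b j) := fun p r => by
      rw [hd, (tf_semi D).add_left, (tf_semi D).add_right, (tf_semi D).add_right, tf_tm D, tf_tm D, tf_tm D, tf_tm D,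
        he, he, he, he, if_pos rfl, if_pos rfl, if_neg (Ne.symm hji), if_neg hji, sub_eq_add_neg b',
        UB.refl.semi.add_right, ← neg_one_smul F (b i), ← neg_one_smul F (b j), UB.refl.semi.smul_right,
        UB.refl.semi.smul_right, map_neg, map_one]
      simp only [UB.refl.semi.smul_right, map_neg, map_one]
      ring
    have hdd : Φ d d = 0 := by
      have := hfi (b' - b i) (-b j)
      rw [← hd] at this
      rw [this, sub_eq_add_neg b', UB.refl.semi.add_left, UB.refl.semi.add_left, UB.refl.neg_left, UB.refl.neg_left,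
        UB.refl.neg_left, hs, hbb', ← UB.herm (b i) b', hbb', map_add, hmσ]
      linear_combination -hδ - hm
    have hxd : Φ (tm (e i) (b i) + tm (e j) (b j) + rest) d = δ := by
      rw [(tf_semi D).add_left, hfi, hd, (tf_semi D).add_right, horth i (Or.inl rfl), horth j (Or.inr rfl), hbb']
      linear_combination hm
    have hc : δ⁻¹ + σ δ⁻¹ = 0 := by rw [map_inv₀, show σ δ = -δ by linear_combination hδ, inv_neg, add_neg_cancel]
    obtain ⟨g, hg⟩ := exists_trans UA UB H hdd hc
    have hdT : HasT σ fA fB X d := by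
      rw [hd] at hdd ⊢
      exact hasT_two UA UB H hS h5 ((he i i).trans (if_pos rfl)) ((he j j).trans (if_pos rfl)) (hne (Ne.symm hji)) hdd
    have hgX : g ∈ X := hdT δ⁻¹ g hc hg
    have e1 : g ⬝ₘ (∑ a ∈ S, tm (e a) (b a)) = ∑ a ∈ S.erase j, tm (e a) (Function.update b i b' a) := by
      rw [hg, hsplit, hxd, inv_mul_cancel₀ hδ0, one_smul,
        ← Finset.add_sum_erase _ _ (Finset.mem_erase.mpr ⟨Ne.symm hji, hi⟩), Function.update_self, Finset.erase_right_comm,
        Finset.sum_congr rfl fun a ha => show tm (e a) (Function.update b i b' a) = tm (e a) (b a) by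
          rw [Function.update_of_ne (Finset.mem_erase.mp (Finset.mem_erase.mp ha).2).1],
        ← hrest, hd, tm_sub_right, show (-b j) = (-1 : F) • b j by rw [neg_one_smul], tm_smul_right, neg_one_smul]
      abel
    have := hasT_map UA UB H (inv_mem hgX) (ih (S.erase j) (Function.update b i b')
      (by rw [Finset.card_erase_of_mem hj]; omega) (by rw [← e1, H.iso g hgX, hiso]))
    rwa [← e1, gl_inv_mulVec_cancel] at this

end Step

omit UA UB H in
theorem exists_on (U : UForm q σ fA) : ∃ e : Fin (Fintype.card α) → (α → F),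
    (∀ i j, fA (e i) (e j) = if i = j then 1 else 0) ∧
      ∀ x : α × β → F, ∃ b : Fin (Fintype.card α) → (β → F), x = ∑ i, tm (e i) (b i) := by
  classical
  obtain ⟨e₀, he₀⟩ := UPlanes.exists_std U.sig (h := fA)
    ⟨U.refl.semi.add_left, U.refl.semi.smul_left, U.herm, fun v hv => by
      by_contra hne
      obtain ⟨w, hw⟩ := (U.refl.nondeg v hne).2
      exact hw (hv w)⟩
    (k := Fintype.card α) (finrank_fintype_fun_eq_card F)
  refine ⟨fun i => e₀.symm (Pi.single i 1), fun i j => ?_, fun y => ?_⟩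
  · rw [← he₀, e₀.apply_symm_apply, e₀.apply_symm_apply, U.sig.hermForm_single, one_mul]
    rcases eq_or_ne i j with h | h
    · subst h; simp
    · simp [h]
  · refine ⟨fun j => ∑ i, e₀ (Pi.single i 1) j • row y i, ?_⟩
    conv_lhs => rw [sum_rows y]
    funext p
    have hp : ∀ i, (Pi.single i 1 : α → F) p.1 =
        ∑ j, e₀ (Pi.single i 1) j * e₀.symm (Pi.single j 1) p.1 := fun i => by
      conv_lhs => rw [← e₀.symm_apply_apply (Pi.single i 1), pi_eq_sum_univ' (e₀ (Pi.single i 1))]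
      simp [map_sum, Finset.sum_apply]
    simp only [Finset.sum_apply, TensorMax.Form.tm_apply, hp, Pi.smul_apply, smul_eq_mul, Finset.mul_sum, Finset.sum_mul]
    rw [Finset.sum_comm]
    exact Finset.sum_congr rfl fun j _ => Finset.sum_congr rfl fun i _ => by ring

theorem hasT_every (hS : ∀ {u : α → F}, fA u u = 0 → ∀ b : β → F, HasT σ fA fB X (tm u b))
    (h2 : 2 ≤ Fintype.card α) (h5 : 3 ≤ Fintype.card β) {x : α × β → F} (hx : Φ x x = 0) :
    HasT σ fA fB X x := by
  obtain ⟨e, he, hspan⟩ := exists_on (β := β) UA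
  exact hasT_all UA UB H hS h5 h2 e he hspan hx

/-- The transvection centres when the pure tensors with singular second component are centres. -/
theorem hasT_of_right (hS : ∀ (v : α → F) (o : β → F), fB o o = 0 → HasT σ fA fB X (tm v o))
    (h2 : 2 ≤ Fintype.card β) (h5 : 3 ≤ Fintype.card α) {x : α × β → F} (hx : Φ x x = 0) :
    HasT σ fA fB X x := by
  classical
  obtain ⟨w, hw⟩ : ∃ w, w = Equiv.prodComm β α := ⟨_, rfl⟩
  have htf : ∀ x y : α × β → F, tf σ fB fA (x ∘ w) (y ∘ w) = tf σ fA fB x y := fun x y => by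
    simp only [tf, formOfGram, Function.comp_apply]
    rw [← w.sum_comp]
    refine Finset.sum_congr rfl fun a _ => ?_
    rw [← w.sum_comp]
    refine Finset.sum_congr rfl fun b _ => ?_
    simp [hw, kroneckerMap_apply, mul_comm (gramMatrix fA _ _)]
  have hv : ∀ (g : GL (β × α) F) (x : α × β → F), (glReindex (F := F) w g) ⬝ₘ x =
      ((g : Matrix (β × α) (β × α) F) *ᵥ (x ∘ w)) ∘ w.symm := fun g x => by
    rw [show ((glReindex (F := F) w g : GL (α × β) F) : Matrix (α × β) (α × β) F) =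
      (g : Matrix (β × α) (β × α) F).submatrix w.symm w.symm from rfl, Matrix.submatrix_mulVec_equiv, Equiv.symm_symm]
  obtain ⟨X', hX'⟩ : ∃ X', X' = X.comap (glReindex (F := F) w).toMonoidHom := ⟨_, rfl⟩
  have hmem : ∀ g, g ∈ X' ↔ glReindex (F := F) w g ∈ X := fun g => by rw [hX']; rfl
  have hback : ∀ x : α × β → F, (x ∘ w) ∘ w.symm = x := fun x => by
    rw [Function.comp_assoc, Equiv.self_comp_symm, Function.comp_id]
  have hfwd : ∀ x : β × α → F, (x ∘ w.symm) ∘ w = x := fun x => by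
    rw [Function.comp_assoc, Equiv.symm_comp_self, Function.comp_id]
  have H' : Pres σ fB fA X' := ⟨fun g hg x y => by
    have e := H.iso _ ((hmem g).1 hg) (x ∘ w.symm) (y ∘ w.symm)
    rwa [hv, hv, ← htf, ← htf, hfwd, hfwd, hfwd, hfwd] at e⟩
  have hS' : ∀ {u : β → F}, fB u u = 0 → ∀ b : α → F, HasT σ fB fA X' (tm u b) := fun {u} hu b c g hc hg => by
    refine (hmem g).2 (hS b u hu c _ hc fun x => ?_)
    have e : tm u b = tm b u ∘ w := funext fun p => by simp [hw, TensorMax.Form.tm_apply, mul_comm]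
    rw [hv, hg, e, htf]
    funext p
    simp [Function.comp_apply]
  intro c g hc hg
  obtain ⟨g', rfl⟩ := (glReindex (F := F) w).surjective g
  refine (hmem g').1 (hasT_every UB UA H' hS' h2 h5 (x := x ∘ w) (by rw [htf]; exact hx) c g' hc fun y => ?_)
  have e := hg (y ∘ w.symm)
  rw [hv, hfwd, ← htf, hfwd] at e
  have e' := congrArg (fun z : α × β → F => z ∘ w) e
  simp only [hfwd] at e'
  rw [e']
  funext p
  simp [Function.comp_apply]

omit UA UB H in
/-- A group with all transvections of a Hermitian space contains its special unitary group. -/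
theorem su_of_trans {ι : Type} [Fintype ι] [DecidableEq ι] {h : (ι → F) → (ι → F) → F} (V : UForm q σ h)
    (h4 : 4 ≤ Fintype.card ι) {K : Subgroup (GL ι F)}
    (hK : ∀ (v : ι → F) (c : F) (g : GL ι F), h v v = 0 → c + σ c = 0 →
      (∀ x, (g : Matrix ι ι F) *ᵥ x = x + (c * h x v) • v) → g ∈ K)
    {g : GL ι F} (hd : (g : Matrix ι ι F).det = 1)
    (hg : ∀ x y, h ((g : Matrix ι ι F) *ᵥ x) ((g : Matrix ι ι F) *ᵥ y) = h x y) : g ∈ K := by
  classical
  obtain ⟨e, he⟩ := UPlanes.exists_std V.sig (h := h)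
    ⟨V.refl.semi.add_left, V.refl.semi.smul_left, V.herm, fun v hv => by
      by_contra hne
      obtain ⟨w, hw⟩ := (V.refl.nondeg v hne).2
      exact hw (hv w)⟩
    (k := Fintype.card ι) (finrank_fintype_fun_eq_card F)
  let φ : GL ι F ≃* GL (Fin (Fintype.card ι)) F :=
    Matrix.GeneralLinearGroup.toLin.trans
      ((LinearMap.GeneralLinearGroup.congrLinearEquiv e).trans Matrix.GeneralLinearGroup.toLin.symm)
  have hφ : ∀ (k : GL ι F) x, ((φ k : GL (Fin (Fintype.card ι)) F) :
      Matrix (Fin (Fintype.card ι)) (Fin (Fintype.card ι)) F) *ᵥ e x = e ((k : Matrix ι ι F) *ᵥ x) := fun k x => by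
    have e2 : ∀ (G : LinearMap.GeneralLinearGroup F (Fin (Fintype.card ι) → F)) z,
        ((Matrix.GeneralLinearGroup.toLin.symm G : GL (Fin (Fintype.card ι)) F) :
          Matrix (Fin (Fintype.card ι)) (Fin (Fintype.card ι)) F) *ᵥ z =
          (G : (Fin (Fintype.card ι) → F) →ₗ[F] (Fin (Fintype.card ι) → F)) z := fun G z => by
      conv_rhs => rw [← MulEquiv.apply_symm_apply Matrix.GeneralLinearGroup.toLin G]
      rfl
    show ((Matrix.GeneralLinearGroup.toLin.symm _ : GL (Fin (Fintype.card ι)) F) :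
      Matrix (Fin (Fintype.card ι)) (Fin (Fintype.card ι)) F) *ᵥ e x = _
    rw [e2]
    show e ((k : Matrix ι ι F) *ᵥ (e.symm (e x))) = _
    rw [e.symm_apply_apply]
  have hφd : ∀ k : GL ι F, ((φ k : GL (Fin (Fintype.card ι)) F) :
      Matrix (Fin (Fintype.card ι)) (Fin (Fintype.card ι)) F).det = (k : Matrix ι ι F).det := fun k => by
    have e1 : Matrix.toLin' ((φ k : GL (Fin (Fintype.card ι)) F) :
        Matrix (Fin (Fintype.card ι)) (Fin (Fintype.card ι)) F) =
        (e : (ι → F) →ₗ[F] _) ∘ₗ Matrix.toLin' (k : Matrix ι ι F) ∘ₗ (e.symm : _ →ₗ[F] (ι → F)) := by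
      refine LinearMap.ext fun z => ?_
      obtain ⟨x, rfl⟩ := e.surjective z
      rw [Matrix.toLin'_apply, hφ]
      simp
    rw [← LinearMap.det_toLin', e1, LinearMap.det_conj, LinearMap.det_toLin']
  have key : Cfsg.GU (Fintype.card ι) F q ⊓ specialLinear (Fin (Fintype.card ι)) F ≤ K.map φ.toMonoidHom := by
    refine Cfsg.Agent.Classical.UOver.suGL_le V.sig h4 fun v c hv hc g' hg' => ?_
    obtain ⟨k, rfl⟩ := φ.surjective g'
    obtain ⟨u, rfl⟩ := e.surjective v
    refine ⟨k, hK u c k (by rwa [← he]) hc fun x => e.injective ?_, rfl⟩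
    rw [← hφ, hg', he, map_add, map_smul]
  have h1 : φ g ∈ K.map φ.toMonoidHom := key ⟨mem_GU_iff.2 fun u v => by
      obtain ⟨x, rfl⟩ := e.surjective u
      obtain ⟨y, rfl⟩ := e.surjective v
      rw [hφ, hφ, he, he, hg], mem_specialLinear_iff.2 ((hφd g).trans hd)⟩
  obtain ⟨k, hk, hke⟩ := h1
  exact φ.injective hke ▸ hk

end Cfsg.Agent.Classical.TensorPowerMax.Unitary
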