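/-
Central radical elements of an overgroup are scalar.
-/
import Cfsg.Agent.Lib.Classical.UTPow.Ops
import Cfsg.Agent.Lib.Classical.UTPow.Gen

set_option autoImplicit false
set_option linter.unusedSectionVars false

namespace Cfsg.Agent.Classical.TensorPowerMax.Unitary

open Matrix Cfsg.Geo
open Cfsg.Agent.Classical
open Cfsg.Agent.Classical.TensorPowerMax
open Cfsg.Agent.Classical.TensorMax (kr kr_val kr_mul kr_one kr_inv)
open Cfsg.Agent.Classical.TensorMax.Form (UForm tm tf ctr Data Uel CenOp HasT exists_uel exists_rt uel_fix kr_tm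
  ctr_tm ctr_add ctr_eq tf_tm tf_tm_left tf_tm_right tf_semi tm_add_left tm_add_right tm_sub_left tm_smul_left
  tm_smul_right tm_zero_left tm_zero_right partner)
open scoped Kronecker

variable {F : Type*} [Field F] [Fintype F] {m t q : ℕ} {σ : F ≃+* F} {f : (Fin m → F) → (Fin m → F) → F}
  {X : Subgroup (GL (Fin (t + 1) → Fin m) F)}

local notation:max g:max " ⬝ₘ " x:max =>
  ((g : GL ((Fin t → Fin m) × Fin m) F) : Matrix ((Fin t → Fin m) × Fin m) ((Fin t → Fin m) × Fin m) F) *ᵥ x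
local notation "Mat" => Matrix (Fin t → Fin m) (Fin t → Fin m) F

/-- The operator is a central radical element at every singular centre. -/
def CenAll (f : (Fin m → F) → (Fin m → F) → F) (X : Subgroup (GL (Fin (t + 1) → Fin m) F)) (i : Fin (t + 1))
    (M : Mat) : Prop :=
  ∀ o, o ≠ 0 → f o o = 0 → CenOp f (XI X i) o fun v => M *ᵥ v

/-- The operator occurs as the middle part of a radical element. -/
def Mid (σ : F ≃+* F) (f : (Fin m → F) → (Fin m → F) → F) (X : Subgroup (GL (Fin (t + 1) → Fin m) F))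
    (i : Fin (t + 1)) (o e : Fin m → F) (K : Mat) : Prop :=
  ∃ g ∈ XI X i, ∃ C : Mat, ∀ x, g ⬝ₘ x = x + tm (K *ᵥ ctr f o x) e +
    tm (C *ᵥ ctr f o x - formAdj σ (tp σ f t) K *ᵥ ctr f e x) o

/-- The operator and its adjoint combine to central elements. -/
def InY (σ : F ≃+* F) (f : (Fin m → F) → (Fin m → F) → F) (X : Subgroup (GL (Fin (t + 1) → Fin m) F))
    (i : Fin (t + 1)) (Y : Mat) : Prop :=
  ∀ β : F, CenAll f X i (β • Y - σ β • formAdj σ (tp σ f t) Y)

variable (H : Over q σ f X) (i : Fin (t + 1))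

include H

theorem cen_sub {o : Fin m → F} (hoo : f o o = 0) {M N : Mat} (hM : CenOp f (XI X i) o fun v => M *ᵥ v)
    (hN : CenOp f (XI X i) o fun v => N *ᵥ v) : CenOp f (XI X i) o fun v => (M - N) *ᵥ v := by
  have D := data H.uf t
  obtain ⟨g, hg, hgx⟩ := hM
  obtain ⟨k, hk, hkx⟩ := hN
  refine ⟨g * k⁻¹, mul_mem hg (inv_mem hk), fun x => ?_⟩
  obtain ⟨y, rfl⟩ : ∃ y, x = k ⬝ₘ y := ⟨_, (gl_mulVec_inv_cancel k x).symm⟩
  rw [gl_mul_mulVec, gl_inv_mulVec_cancel, hgx, hkx, ctr_add D, ctr_tm D, hoo, zero_smul, add_zero]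
  simp only [Matrix.sub_mulVec, tm_sub_left]
  abel

theorem cen_zero : CenAll f X i (0 : Mat) := fun o _ _ => ⟨1, one_mem _, fun x => by simp⟩

theorem CenAll.sub {M N : Mat} (hM : CenAll f X i M) (hN : CenAll f X i N) : CenAll f X i (M - N) :=
  fun o ho hoo => cen_sub H i hoo (hM o ho hoo) (hN o ho hoo)

theorem CenAll.neg {M : Mat} (hM : CenAll f X i M) : CenAll f X i (-M) :=
  zero_sub M ▸ CenAll.sub H i (cen_zero H i) hM

theorem CenAll.add {M N : Mat} (hM : CenAll f X i M) (hN : CenAll f X i N) : CenAll f X i (M + N) :=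
  sub_neg_eq_add M N ▸ CenAll.sub H i hM (CenAll.neg H i hN)

/-- Conjugation by an element that is a product of isometries. -/
theorem cen_conj {o : Fin m → F} {M : Mat} (hM : CenOp f (XI X i) o fun v => M *ᵥ v) {a : GL (Fin t → Fin m) F}
    {b : GL (Fin m) F} (hn : kr a b ∈ XI X i)
    (ha : ∀ u v, tp σ f t ((a : Mat) *ᵥ u) ((a : Mat) *ᵥ v) = tp σ f t u v)
    (hb : ∀ u v, f ((b : Matrix (Fin m) (Fin m) F) *ᵥ u) ((b : Matrix (Fin m) (Fin m) F) *ᵥ v) = f u v) :
    CenOp f (XI X i) ((b : Matrix (Fin m) (Fin m) F) *ᵥ o) fun v =>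
      ((a : Mat) * M * ((a⁻¹ : GL (Fin t → Fin m) F) : Mat)) *ᵥ v := by
  have D := data H.uf t
  obtain ⟨g, hg, hgx⟩ := hM
  refine ⟨kr a b * g * (kr a b)⁻¹, mul_mem (mul_mem hn hg) (inv_mem hn), fun x => ?_⟩
  have hc : ctr f o ((kr a b)⁻¹ ⬝ₘ x) =
      ((a⁻¹ : GL (Fin t → Fin m) F) : Mat) *ᵥ ctr f ((b : Matrix (Fin m) (Fin m) F) *ᵥ o) x := by
    refine ctr_eq D fun v => ?_
    rw [← kr_iso D (μ := 1) (ν := 1) (a := a) (b := b) (fun u w => by rw [ha, one_mul]) (fun u w => by rw [hb, one_mul])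
      (one_mul 1), gl_mulVec_inv_cancel, kr_tm, tf_tm_right D]
    conv_rhs => rw [← ha, gl_mulVec_inv_cancel]
  rw [gl_mul_mulVec, gl_mul_mulVec, hgx, Matrix.mulVec_add, gl_mulVec_inv_cancel, hc, kr_tm, Matrix.mulVec_mulVec,
    Matrix.mulVec_mulVec]

theorem cen_adj {o : Fin m → F} (ho : o ≠ 0) (hoo : f o o = 0) {M : Mat}
    (hM : CenOp f (XI X i) o fun v => M *ᵥ v) : formAdj σ (tp σ f t) M = -M := by
  have D := data H.uf t
  obtain ⟨g, hg, hgx⟩ := hM
  obtain ⟨o', -, ho', ho''⟩ := H.uf.exists_partner ho hoo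
  refine (tp_uform H.uf t).refl.adj_unique fun v w => ?_
  have := H.iso i hg (tm v o') (tm w o')
  rw [hgx, hgx, ctr_tm D, ctr_tm D, ho', one_smul, one_smul, (tf_semi D).add_left, (tf_semi D).add_right,
    (tf_semi D).add_right, tf_tm D, tf_tm D, tf_tm D, tf_tm D, hoo, ho'', ho'] at this
  rw [Matrix.neg_mulVec, ← neg_one_smul F, (tp_uform H.uf t).refl.semi.smul_right, map_neg, map_one]
  linear_combination this

theorem cen_sq {o : Fin m → F} (ho : o ≠ 0) (hoo : f o o = 0) {M : Mat}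
    (hM : CenOp f (XI X i) o fun v => M *ᵥ v) {θ : F} (hθ : σ θ = θ) :
    CenOp f (XI X i) o fun v => ((θ * θ) • M) *ᵥ v := by
  have D := data H.uf t
  by_cases hθ0 : θ = 0
  · refine ⟨1, one_mem _, fun x => ?_⟩
    simp [hθ0]
  obtain ⟨g, hg, hgx⟩ := hM
  obtain ⟨z, hzz, hzo, hoz⟩ := H.uf.exists_partner ho hoo
  obtain ⟨s, hs0, hs⟩ := H.uf.sig.exists_skew
  obtain ⟨t₁, ht₁, hiso₁, h₁⟩ := H.uf.move_one hoo hzz (by rw [hoz]; exact one_ne_zero) hs0 hs
  obtain ⟨t₂, ht₂, hiso₂, h₂⟩ := H.uf.move_one hzz hoo (by rw [hzo]; exact one_ne_zero) (s := θ / s)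
    (div_ne_zero hθ0 hs0) (by
      rw [map_div₀, hθ, show σ s = -s by linear_combination hs, div_neg, add_neg_cancel])
  obtain ⟨b, hb⟩ : ∃ b, b = t₂ * t₁ := ⟨_, rfl⟩
  have hiso : ∀ u v, f ((b : Matrix (Fin m) (Fin m) F) *ᵥ u) ((b : Matrix (Fin m) (Fin m) F) *ᵥ v) = f u v :=
    fun u v => by rw [hb, gl_mul_mulVec, gl_mul_mulVec, hiso₂, hiso₁]
  have hbo : (b : Matrix (Fin m) (Fin m) F) *ᵥ o = θ • o := by
    rw [hb, gl_mul_mulVec, h₁, Matrix.mulVec_smul, h₂, smul_smul, hoz, hzo, div_one, div_one, ← map_mul,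
      mul_div_cancel₀ _ hs0, hθ]
  obtain ⟨g', hg', hg'x⟩ := cen_conj H i ⟨g, hg, hgx⟩ (a := 1) (b := b)
    (H.right i (by rw [hb, Units.val_mul, Matrix.det_mul, ht₁, ht₂, one_mul]) hiso) (fun u v => by simp) hiso
  refine ⟨g', hg', fun x => ?_⟩
  rw [hg'x, hbo, TensorMax.Form.ctr_smul_vec D, hθ]
  simp only [Units.val_one, inv_one, one_mul, mul_one, Matrix.mulVec_smul, Matrix.smul_mulVec, tm_smul_left,
    tm_smul_right, smul_smul]

theorem cen_scale {o : Fin m → F} (ho : o ≠ 0) (hoo : f o o = 0) {M : Mat}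
    (hM : CenOp f (XI X i) o fun v => M *ᵥ v) {θ : F} (hθ : σ θ = θ) :
    CenOp f (XI X i) o fun v => (θ • M) *ᵥ v := by
  by_cases h2 : (2 : F) = 0
  · haveI : CharP F 2 := CharTwo.of_one_ne_zero_of_two_eq_zero one_ne_zero h2
    obtain ⟨μ, hμ⟩ : ∃ μ, μ * μ = θ := by
      obtain ⟨μ, hμ⟩ := (Finite.injective_iff_surjective.mp (frobenius F 2).injective) θ
      exact ⟨μ, by rw [← hμ, frobenius_def, pow_two]⟩
    have hμσ : σ μ = μ := by
      have : (σ μ) ^ 2 = μ ^ 2 := by rw [pow_two, pow_two, ← map_mul, hμ, hθ]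
      exact (frobenius F 2).injective (by simpa [frobenius_def] using this)
    exact hμ ▸ cen_sq H i ho hoo hM hμσ
  · obtain ⟨r, hr⟩ : ∃ r, r = θ / 2 := ⟨_, rfl⟩
    have hrσ : σ r = r := by rw [hr, map_div₀, hθ, map_ofNat]
    have h1 := cen_sub H i hoo (cen_sub H i hoo (cen_sq H i ho hoo hM (θ := r + 1)
      (by rw [map_add, hrσ, map_one])) (cen_sq H i ho hoo hM hrσ)) hM
    have e : θ = (r + 1) * (r + 1) - r * r - 1 := by rw [hr]; field_simp; ring
    rwa [show ((r + 1) * (r + 1)) • M - (r * r) • M - M = θ • M by rw [e, sub_smul, sub_smul, one_smul]] at h1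

theorem CenAll.scale {M : Mat} (hM : CenAll f X i M) {θ : F} (hθ : σ θ = θ) : CenAll f X i (θ • M) :=
  fun o ho hoo => cen_scale H i ho hoo (hM o ho hoo) hθ

/-- The centre does not matter. -/
theorem cen_all {o : Fin m → F} (ho : o ≠ 0) (hoo : f o o = 0) {M : Mat}
    (hM : CenOp f (XI X i) o fun v => M *ᵥ v) : CenAll f X i M := by
  intro o' ho' hoo'
  have D := data H.uf t
  obtain ⟨b, hbd, hbi, l, hl, hbo⟩ := H.uf.move ho hoo ho' hoo'
  obtain ⟨g, hg, hgx⟩ := cen_conj H i hM (a := 1) (b := b) (H.right i hbd hbi) (fun u v => by simp) hbi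
  have h1 : CenOp f (XI X i) o' fun v => ((l * σ l) • M) *ᵥ v := ⟨g, hg, fun x => by
    rw [hgx, hbo, TensorMax.Form.ctr_smul_vec D]
    simp only [Units.val_one, inv_one, one_mul, mul_one, Matrix.mulVec_smul, Matrix.smul_mulVec, tm_smul_left,
      tm_smul_right, smul_smul]⟩
  have h2 := cen_scale H i ho' hoo' h1 (θ := (l * σ l)⁻¹)
    (by rw [map_inv₀, map_mul, H.uf.sig.involutive, mul_comm])
  rwa [smul_smul, inv_mul_cancel₀ (mul_ne_zero hl ((map_ne_zero σ).mpr hl)), one_smul] at h2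

/-- Isometries of the other factors act. -/
theorem CenAll.conj {M : Mat} (hM : CenAll f X i M) {a : GL (Fin t → Fin m) F} {b : GL (Fin m) F}
    (hn : kr a b ∈ XI X i) (ha : ∀ u v, tp σ f t ((a : Mat) *ᵥ u) ((a : Mat) *ᵥ v) = tp σ f t u v)
    (hb : ∀ u v, f ((b : Matrix (Fin m) (Fin m) F) *ᵥ u) ((b : Matrix (Fin m) (Fin m) F) *ᵥ v) = f u v) :
    CenAll f X i ((a : Mat) * M * ((a⁻¹ : GL (Fin t → Fin m) F) : Mat)) := by
  intro o ho hoo
  obtain ⟨o₁, ho₁⟩ : ∃ o₁, o₁ = ((b⁻¹ : GL (Fin m) F) : Matrix (Fin m) (Fin m) F) *ᵥ o := ⟨_, rfl⟩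
  have hbo : (b : Matrix (Fin m) (Fin m) F) *ᵥ o₁ = o := by rw [ho₁, gl_mulVec_inv_cancel]
  have := cen_conj H i (hM o₁ (fun e => ho (by rw [← hbo, e, Matrix.mulVec_zero]))
    (by rw [← hb, hbo, hoo])) hn ha hb
  rwa [hbo] at this

theorem CenAll.conj_ns {M : Mat} (hM : CenAll f X i M) {a : GL (Fin t → Fin m) F} (ha : a ∈ Ns σ f t) :
    CenAll f X i ((a : Mat) * M * ((a⁻¹ : GL (Fin t → Fin m) F) : Mat)) :=
  CenAll.conj H i hM (H.left i ha) ha.2.2 fun u v => by simp

theorem cenAll_scalar {c : F} (hc : c + σ c = 0) : CenAll f X i (c • (1 : Mat)) := by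
  intro o ho hoo
  obtain ⟨b, hbd, hbi, hR⟩ := exists_rt (α := Fin t → Fin m) (data H.uf t) hoo (c := c) (by rw [one_mul, hc])
  exact ⟨_, H.right i hbd hbi, fun x => by simp only [hR x, Matrix.smul_mulVec, Matrix.one_mulVec]⟩

/-- The element exchanging two opposite fibres. -/
theorem weyl {o o' : Fin m → F} (ho : o ≠ 0) (hoo : f o o = 0) (ho' : o' ≠ 0) (hoo' : f o' o' = 0)
    (h1 : f o' o = 1) (h2 : f o o' = 1) {A B : Mat} (hA : CenAll f X i A) (hB : CenAll f X i B)
    (hAB : A * B = -1) (hBA : B * A = -1) :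
    ∃ g ∈ XI X i, (∀ a, g ⬝ₘ (tm a o) = tm (B *ᵥ a) o') ∧ (∀ a, g ⬝ₘ (tm a o') = tm (A *ᵥ a) o) ∧
      ∀ e, f e o = 0 → f e o' = 0 → ∀ a, g ⬝ₘ (tm a e) = tm a e := by
  have D := data H.uf t
  obtain ⟨g, hg, hgx⟩ := hA o ho hoo
  obtain ⟨k, hk, hkx⟩ := hB o' ho' hoo'
  have hG : ∀ a w, g ⬝ₘ (tm a w) = tm a w + tm (A *ᵥ (f w o • a)) o := fun a w => by rw [hgx, ctr_tm D]
  have hK : ∀ a w, k ⬝ₘ (tm a w) = tm a w + tm (B *ᵥ (f w o' • a)) o' := fun a w => by rw [hkx, ctr_tm D]
  refine ⟨g * k * g, mul_mem (mul_mem hg hk) hg, fun a => ?_, fun a => ?_, fun e he he' a => ?_⟩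
  · rw [gl_mul_mulVec, gl_mul_mulVec]
    simp only [hG, hK, Matrix.mulVec_add, hoo, hoo', h1, h2, zero_smul, one_smul, Matrix.mulVec_zero, tm_zero_left,
      add_zero, Matrix.mulVec_mulVec, hAB, Matrix.neg_mulVec, Matrix.one_mulVec]
    rw [add_left_comm, ← tm_add_left, add_neg_cancel, tm_zero_left, add_zero]
  · rw [gl_mul_mulVec, gl_mul_mulVec]
    simp only [hG, hK, Matrix.mulVec_add, hoo, hoo', h1, h2, zero_smul, one_smul, Matrix.mulVec_zero, tm_zero_left,
      add_zero, Matrix.mulVec_mulVec, hBA, Matrix.mul_neg, Matrix.mul_one, Matrix.neg_mulVec, Matrix.one_mulVec,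
      ← Matrix.mulVec_neg]
    have e : ∀ z : (Fin t → Fin m) → F, tm z o' + tm (-z) o' = 0 := fun z => by
      rw [← tm_add_left, add_neg_cancel, tm_zero_left]
    have e' : ∀ z : (Fin t → Fin m) → F, tm z o + tm (-z) o = 0 := fun z => by
      rw [← tm_add_left, add_neg_cancel, tm_zero_left]
    simp only [Matrix.mulVec_neg]
    linear_combination (norm := module) e a + e' (A *ᵥ a)
  · simp only [gl_mul_mulVec, hG, hK, he, he', zero_smul, Matrix.mulVec_zero, tm_zero_left, add_zero]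

/-- Middle parts form a group. -/
theorem mid_sub {o e : Fin m → F} (hoo : f o o = 0) (heo : f e o = 0) {K L : Mat} (hK : Mid σ f X i o e K)
    (hL : Mid σ f X i o e L) : Mid σ f X i o e (K - L) := by
  have D := data H.uf t
  obtain ⟨g, hg, C, hgx⟩ := hK
  obtain ⟨k, hk, C', hkx⟩ := hL
  refine ⟨g * k⁻¹, mul_mem hg (inv_mem hk),
    C - C' + f e e • ((formAdj σ (tp σ f t) K - formAdj σ (tp σ f t) L) * L), fun x => ?_⟩
  obtain ⟨y, rfl⟩ : ∃ y, x = k ⬝ₘ y := ⟨_, (gl_mulVec_inv_cancel k x).symm⟩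
  have hoe : f o e = 0 := H.uf.refl.eq_zero_swap heo
  have hadj : formAdj σ (tp σ f t) (K - L) = formAdj σ (tp σ f t) K - formAdj σ (tp σ f t) L := by
    rw [eq_sub_iff_add_eq, ← (tp_uform H.uf t).refl.adj_add, sub_add_cancel]
  rw [gl_mul_mulVec, gl_inv_mulVec_cancel, hgx, hkx, hadj]
  simp only [ctr_add D, TensorMax.Form.ctr_sub D, TensorMax.Form.ctr_smul D, ctr_tm D, heo, hoe, hoo, zero_smul, smul_zero, Matrix.mulVec_zero,
    tm_zero_left, add_zero, sub_zero, Matrix.sub_mulVec, Matrix.add_mulVec, Matrix.smul_mulVec, Matrix.mulVec_add,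
    Matrix.mulVec_smul, ← Matrix.mulVec_mulVec, smul_sub, smul_add, tm_sub_left, tm_add_left, tm_smul_left]
  abel

/-- Scaling the middle vector. -/
theorem mid_smul {o e : Fin m → F} {K : Mat} {r : F} (h : Mid σ f X i o (r • e) K) : Mid σ f X i o e (r • K) := by
  have D := data H.uf t
  obtain ⟨g, hg, C, hgx⟩ := h
  refine ⟨g, hg, C, fun x => ?_⟩
  rw [hgx, (tp_uform H.uf t).refl.adj_smul, TensorMax.Form.ctr_smul_vec D]
  simp only [Matrix.smul_mulVec, Matrix.mulVec_smul, tm_smul_left, tm_smul_right]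

/-- A singular hermitian operator with central multiples is a middle part. -/
theorem mid_of_nilp {o o' e : Fin m → F} (ho : o ≠ 0) (hoo : f o o = 0) (hoo' : f o' o' = 0)
    (h1 : f o' o = 1) (h2 : f o o' = 1) (he : f e o = 0) (he' : f e o' = 0) {N : Mat}
    (hN : formAdj σ (tp σ f t) N = N) (hN2 : N * N = 0)
    (hc : ∀ c : F, c + σ c = 0 → CenAll f X i (c • N)) : Mid σ f X i o e N := by
  have D := data H.uf t
  have UA := tp_uform H.uf t
  have ho' : o' ≠ 0 := fun e => one_ne_zero (h1.symm.trans (by rw [e, H.uf.refl.zero_left]))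
  obtain ⟨c, hc0, hcs⟩ := H.uf.sig.exists_skew
  have hci : c⁻¹ + σ c⁻¹ = 0 := by rw [map_inv₀, show σ c = -c by linear_combination hcs, inv_neg, add_neg_cancel]
  have hci' : -c⁻¹ + σ (-c⁻¹) = 0 := by rw [map_neg]; linear_combination -hci
  have hm1 : (1 + N) * (1 - N) = (1 : Mat) := one_add_sq_inv hN2
  have hm2 : (1 - N) * (1 + N) = (1 : Mat) := one_sub_sq_inv hN2
  obtain ⟨w₁, hw₁, hw₁o, hw₁o', hw₁e⟩ := weyl H i ho hoo ho' hoo' h1 h2
    (A := c • (1 + N)) (B := (-c⁻¹) • (1 - N))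
    (by rw [smul_add]; exact CenAll.add H i (cenAll_scalar H i hcs) (hc c hcs))
    (by rw [smul_sub]; exact CenAll.sub H i (cenAll_scalar H i hci') (hc _ hci'))
    (by rw [smul_mul_smul_comm, hm1, mul_neg, mul_inv_cancel₀ hc0, neg_one_smul])
    (by rw [smul_mul_smul_comm, hm2, neg_mul, inv_mul_cancel₀ hc0, neg_one_smul])
  obtain ⟨w₀, hw₀, hw₀o, hw₀o', hw₀e⟩ := weyl H i ho hoo ho' hoo' h1 h2
    (A := (-c) • (1 : Mat)) (B := c⁻¹ • (1 : Mat))
    (cenAll_scalar H i (by rw [map_neg]; linear_combination -hcs))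
    (cenAll_scalar H i hci)
    (by rw [smul_mul_smul_comm, one_mul, neg_mul, mul_inv_cancel₀ hc0, neg_one_smul])
    (by rw [smul_mul_smul_comm, one_mul, mul_neg, inv_mul_cancel₀ hc0, neg_one_smul])
  obtain ⟨T, hT⟩ : ∃ T, T = w₁ * w₀ := ⟨_, rfl⟩
  have hTX : T ∈ XI X i := hT ▸ mul_mem hw₁ hw₀
  have hTo : ∀ a, T ⬝ₘ (tm a o) = tm ((1 + N) *ᵥ a) o := fun a => by
    rw [hT, gl_mul_mulVec, hw₀o, hw₁o', Matrix.mulVec_mulVec, smul_mul_smul_comm, mul_inv_cancel₀ hc0, one_smul,
      mul_one]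
  have hTe : ∀ a, T ⬝ₘ (tm a e) = tm a e := fun a => by
    rw [hT, gl_mul_mulVec, hw₀e e he he', hw₁e e he he']
  have hη : formAdj σ (tp σ f t) (1 + N) = 1 + N := by rw [UA.refl.adj_add, UA.refl.adj_one, hN]
  have hco : ∀ x, ctr f o (T⁻¹ ⬝ₘ x) = (1 + N) *ᵥ ctr f o x := fun x => ctr_eq D fun a => by
    rw [← H.iso i hTX, gl_mulVec_inv_cancel, hTo, tf_tm_right D, UA.refl.adj_spec (1 + N), hη]
  have hce : ∀ x, ctr f e (T⁻¹ ⬝ₘ x) = ctr f e x := fun x => ctr_eq D fun a => by
    rw [← H.iso i hTX, gl_mulVec_inv_cancel, hTe, tf_tm_right D]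
  obtain ⟨X', hX'⟩ := H.uf.exists_trace (H.uf.fixed e)
  obtain ⟨b, hbd, hbi, hU⟩ := exists_uel (α := Fin t → Fin m) D hoo he (c := -X')
    (by rw [map_neg]; linear_combination -hX')
  have huX := H.right i hbd hbi
  have hm : Mid σ f X i o e (1 : Mat) := by
    refine ⟨_, huX, (-X') • 1, fun x => ?_⟩
    rw [hU, UA.refl.adj_one, Matrix.one_mulVec, Matrix.one_mulVec, Matrix.smul_mulVec, Matrix.one_mulVec, map_one,
      one_smul]
  have hp : Mid σ f X i o e (1 + N) := by
    refine ⟨T * kr 1 b * T⁻¹, mul_mem (mul_mem hTX huX) (inv_mem hTX), (-X') • ((1 + N) * (1 + N)), fun x => ?_⟩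
    rw [gl_mul_mulVec, gl_mul_mulVec, hU, Matrix.mulVec_add, Matrix.mulVec_add, gl_mulVec_inv_cancel, hTe, hTo, hco,
      hce, hη, map_one, one_smul]
    simp only [Matrix.smul_mulVec, Matrix.mulVec_sub, Matrix.mulVec_smul, ← Matrix.mulVec_mulVec]
  have := mid_sub H i hoo he hp hm
  rwa [add_sub_cancel_left] at this

/-- Commutators of middle parts are central. -/
theorem mid_comm {o e : Fin m → F} (ho : o ≠ 0) (hoo : f o o = 0) (heo : f e o = 0) {K L : Mat}
    (hK : Mid σ f X i o e K) (hL : Mid σ f X i o e L) :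
    CenAll f X i (f e e • (formAdj σ (tp σ f t) L * K - formAdj σ (tp σ f t) K * L)) := by
  refine cen_all H i ho hoo ?_
  have D := data H.uf t
  have hoe : f o e = 0 := H.uf.refl.eq_zero_swap heo
  obtain ⟨g, hg, C, hgx⟩ := hK
  obtain ⟨k, hk, C', hkx⟩ := hL
  refine ⟨g * k * (k * g)⁻¹, mul_mem (mul_mem hg hk) (inv_mem (mul_mem hk hg)), fun x => ?_⟩
  obtain ⟨y, rfl⟩ : ∃ y, x = (k * g) ⬝ₘ y := ⟨_, (gl_mulVec_inv_cancel (k * g) x).symm⟩
  rw [gl_mul_mulVec (g * k), gl_inv_mulVec_cancel, gl_mul_mulVec, gl_mul_mulVec, hgx, hkx, hgx, hkx]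
  simp only [ctr_add D, TensorMax.Form.ctr_sub D, TensorMax.Form.ctr_smul D, ctr_tm D, heo, hoe, hoo, zero_smul, smul_zero, Matrix.mulVec_zero,
    tm_zero_left, add_zero, sub_zero, Matrix.sub_mulVec, Matrix.smul_mulVec,
    Matrix.mulVec_add, Matrix.mulVec_smul, ← Matrix.mulVec_mulVec, smul_sub, tm_sub_left, tm_add_left, tm_smul_left]
  abel

omit i in
theorem exists_frame : ∃ o o' e : Fin m → F, o ≠ 0 ∧ f o o = 0 ∧ f o' o' = 0 ∧ f o' o = 1 ∧ f o o' = 1 ∧
    f e o = 0 ∧ f e o' = 0 ∧ f e e ≠ 0 := by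
  have hm := H.hm
  obtain ⟨o, -, ho, hoo⟩ := H.uf.exists_iso (W := ⊤) (by
    rw [finrank_top, Module.finrank_fintype_fun_eq_card, Fintype.card_fin]; omega)
  obtain ⟨o', hoo', h1, h2⟩ := H.uf.exists_partner ho hoo
  obtain ⟨W, hW, hWo⟩ := H.uf.exists_perp (k := 1) fun _ => o
  rw [Fintype.card_fin] at hW
  obtain ⟨y, hy, hyy⟩ := H.uf.exists_aniso (W := W) (by rw [Fintype.card_fin]; omega)
  have hyo : f y o = 0 := hWo y hy 0
  refine ⟨o, o', y + (-f y o') • o, ho, hoo, hoo', h1, h2, ?_, ?_, ?_⟩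
  · rw [H.uf.refl.semi.add_left, H.uf.refl.semi.smul_left, hyo, hoo, mul_zero, add_zero]
  · rw [H.uf.refl.semi.add_left, H.uf.refl.semi.smul_left, h2, mul_one, add_neg_cancel]
  · rwa [H.uf.expand, hoo, H.uf.refl.eq_zero_swap hyo, mul_zero, map_zero, add_zero, mul_zero, add_zero, add_zero]

/-- The products of two singular hermitian operators with central multiples. -/
theorem inY_mul {N N' : Mat} (hN : formAdj σ (tp σ f t) N = N) (hN2 : N * N = 0)
    (hc : ∀ c : F, c + σ c = 0 → CenAll f X i (c • N)) (hN' : formAdj σ (tp σ f t) N' = N') (hN'2 : N' * N' = 0)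
    (hc' : ∀ c : F, c + σ c = 0 → CenAll f X i (c • N')) : InY σ f X i (N' * N) := by
  intro β
  obtain ⟨o, o', e, ho, hoo, hoo', h1, h2, heo, heo', hee⟩ := exists_frame H
  obtain ⟨r, hr⟩ : ∃ r, r = β / f e e := ⟨_, rfl⟩
  have hK : Mid σ f X i o e (r • N) := mid_smul H i (mid_of_nilp H i ho hoo hoo' h1 h2
    (by rw [H.uf.refl.semi.smul_left, heo, mul_zero]) (by rw [H.uf.refl.semi.smul_left, heo', mul_zero]) hN hN2 hc)
  have hL : Mid σ f X i o e N' := mid_of_nilp H i ho hoo hoo' h1 h2 heo heo' hN' hN'2 hc'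
  have h := mid_comm H i ho hoo heo hK hL
  rw [hN', (tp_uform H.uf t).refl.adj_smul, hN, hr, map_div₀, H.uf.fixed] at h
  rw [(tp_uform H.uf t).refl.adj_mul, hN, hN']
  rwa [smul_sub, mul_smul_comm, smul_mul_assoc, smul_smul, smul_smul, mul_div_cancel₀ _ hee,
    mul_div_cancel₀ _ hee] at h

/-- The submodule of operators combining to central elements. -/
def ySub : Submodule F Mat where
  carrier := {Y | InY σ f X i Y}
  add_mem' {a b} ha hb β := by
    rw [(tp_uform H.uf t).refl.adj_add, smul_add, smul_add, add_sub_add_comm]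
    exact CenAll.add H i (ha β) (hb β)
  zero_mem' β := by
    rw [(tp_uform H.uf t).refl.adj_zero, smul_zero, smul_zero, sub_zero]
    exact cen_zero H i
  smul_mem' r {a} ha β := by
    rw [(tp_uform H.uf t).refl.adj_smul, smul_smul, smul_smul, ← map_mul]
    exact ha (β * r)

theorem InY.cen_herm {Y : Mat} (hY : InY σ f X i Y) (h : formAdj σ (tp σ f t) Y = Y) {c : F}
    (hc : c + σ c = 0) : CenAll f X i (c • Y) := by
  obtain ⟨θ, hθ⟩ := H.uf.exists_trace_one
  have := hY (θ * c)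
  rwa [h, ← sub_smul, show θ * c - σ (θ * c) = c by
    rw [map_mul]; linear_combination c * hθ - σ θ * hc] at this

theorem InY.cen_skew {Y : Mat} (hY : InY σ f X i Y) (h : formAdj σ (tp σ f t) Y = -Y) : CenAll f X i Y := by
  obtain ⟨θ, hθ⟩ := H.uf.exists_trace_one
  have := hY θ
  rwa [h, smul_neg, sub_neg_eq_add, ← add_smul, hθ, one_smul] at this

omit H i in
theorem span_pairs (U : UForm q σ f) (hm : 2 ≤ m) (S : Submodule F (Matrix (Fin m) (Fin m) F))
    (h : ∀ x y, f x x = 0 → f y y = 0 → f y x ≠ 0 → vecMulVec x (fl f y) ∈ S) (Y : Matrix (Fin m) (Fin m) F) :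
    Y ∈ S := by
  classical
  have h1 : ∀ x y, f x x = 0 → f y y = 0 → vecMulVec x (fl f y) ∈ S := by
    intro x y hxx hyy
    by_cases hyx : f y x = 0
    swap
    · exact h x y hxx hyy hyx
    rcases eq_or_ne x 0 with rfl | hx
    · rw [Matrix.zero_vecMulVec]; exact S.zero_mem
    obtain ⟨w, hww, hwx, -⟩ := U.exists_partner hx hxx
    obtain ⟨k, hk, hkw⟩ := U.join y w hyy hww
    have e : fl f y = fl f (y + k • w) - σ k • fl f w := funext fun l => by
      simp only [fl, Pi.sub_apply, Pi.smul_apply, smul_eq_mul, U.refl.semi.add_right, U.refl.semi.smul_right]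
      ring
    rw [e, Matrix.vecMulVec_sub, Matrix.vecMulVec_smul]
    refine S.sub_mem (h x _ hxx hkw ?_) (S.smul_mem _ (h x w hxx hww (by rw [hwx]; exact one_ne_zero)))
    rw [U.refl.semi.add_left, U.refl.semi.smul_left, hyx, hwx, zero_add, mul_one]
    exact hk
  have hspan := U.spanned (by rw [Fintype.card_fin]; exact hm)
  have hfun : ∀ x y, vecMulVec x (fl f y) ∈ S := by
    intro x y
    have hx : x ∈ Submodule.span F {v : Fin m → F | f v v = 0} := by rw [hspan]; trivial
    induction hx using Submodule.span_induction with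
    | mem v hv =>
      have hy : y ∈ Submodule.span F {v : Fin m → F | f v v = 0} := by rw [hspan]; trivial
      induction hy using Submodule.span_induction with
      | mem w hw => exact h1 v w hv hw
      | zero => rw [show fl f (0 : Fin m → F) = 0 from funext fun k => U.refl.zero_right _,
          Matrix.vecMulVec_zero]; exact S.zero_mem
      | add a b _ _ ha hb =>
        rw [show fl f (a + b) = fl f a + fl f b from funext fun k => U.refl.semi.add_right _ _ _,
          Matrix.vecMulVec_add]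
        exact S.add_mem ha hb
      | smul r a _ ha =>
        rw [show fl f (r • a) = σ r • fl f a from funext fun k => U.refl.semi.smul_right _ _ _,
          Matrix.vecMulVec_smul]
        exact S.smul_mem _ ha
    | zero => rw [Matrix.zero_vecMulVec]; exact S.zero_mem
    | add a b _ _ ha hb => rw [Matrix.add_vecMulVec]; exact S.add_mem ha hb
    | smul r a _ ha => rw [Matrix.smul_vecMulVec]; exact S.smul_mem _ ha
  induction Y using Matrix.induction_on' with
  | h_zero => exact S.zero_mem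
  | h_add X Y hX hY => exact S.add_mem hX hY
  | h_std_basis a b c =>
    obtain ⟨u, hu⟩ := U.refl.gram_isUnit
    have e : fl f ((σ : F → F) ∘ (((u⁻¹ : (Matrix (Fin m) (Fin m) F)ˣ) : Matrix (Fin m) (Fin m) F) *ᵥ Pi.single b 1)) =
        Pi.single b 1 := by
      funext k
      rw [fl, U.refl.apply_eq, ← Function.comp_assoc, show (σ : F → F) ∘ (σ : F → F) = id from funext U.refl.invol,
        Function.id_comp, ← hu, Matrix.mulVec_mulVec, Units.mul_inv, Matrix.one_mulVec, single_dotProduct, one_mul]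
    have h' := S.smul_mem c (hfun (Pi.single a 1)
      ((σ : F → F) ∘ (((u⁻¹ : (Matrix (Fin m) (Fin m) F)ˣ) : Matrix (Fin m) (Fin m) F) *ᵥ Pi.single b 1)))
    rwa [e, ← Matrix.single_eq_single_vecMulVec_single, Matrix.smul_single, smul_eq_mul, mul_one] at h'

omit H i [Fintype F] in
theorem pureM_upd {n : ℕ} (A : Fin n → Matrix (Fin m) (Fin m) F) (k : Fin n) (Y : Matrix (Fin m) (Fin m) F)
    (x y : Fin n → Fin m) : pureM (Function.update A k Y) x y =
      Y (x k) (y k) * ∏ l ∈ Finset.univ.erase k, A l (x l) (y l) := by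
  simp only [pureM, Matrix.of_apply]
  rw [← Finset.mul_prod_erase _ _ (Finset.mem_univ k), Function.update_self]
  exact congrArg _ (Finset.prod_congr rfl fun l hl => by rw [Function.update_of_ne (Finset.ne_of_mem_erase hl)])

omit H i [Fintype F] in
theorem pureM_upd_smul {n : ℕ} (A : Fin n → Matrix (Fin m) (Fin m) F) (k : Fin n) (r : F)
    (Y : Matrix (Fin m) (Fin m) F) :
    pureM (Function.update A k (r • Y)) = r • pureM (Function.update A k Y) := by
  ext x y; simp [pureM_upd, mul_assoc]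

omit H i [Fintype F] in
theorem pureM_smul_fun {n : ℕ} (r : Fin n → F) (A : Fin n → Matrix (Fin m) (Fin m) F) :
    pureM (fun l => r l • A l) = (∏ l, r l) • pureM A := by
  ext x y; simp [pureM, Finset.prod_mul_distrib]

/-- All central operators of a non-scalar one: the whole special unitary group appears. -/
theorem Over.cen_scalar {o : Fin m → F} (ho : o ≠ 0) (hoo : f o o = 0) {φ : ((Fin t → Fin m) → F) → (Fin t → Fin m) → F}
    (hφ : CenOp f (XI X i) o φ) : ∃ l : F, ∀ v, φ v = l • v := by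
  classical
  have hm := H.hm
  have D := data H.uf t
  have UA := tp_uform H.uf t
  -- as a matrix
  obtain ⟨M, hM⟩ : ∃ M : Mat, ∀ v, φ v = M *ᵥ v := by
    obtain ⟨g, hg, hgx⟩ := hφ
    obtain ⟨o', ho'⟩ := partner D ho
    obtain ⟨k₀, hk₀⟩ := Function.ne_iff.mp ho
    have hφ : ∀ v, φ v = fun j => (g ⬝ₘ (tm v o') - tm v o') (j, k₀) / o k₀ := fun v => funext fun j => by
      rw [hgx, ctr_tm D, ho', one_smul, add_sub_cancel_left, TensorMax.Form.tm_apply, mul_div_cancel_right₀ _ hk₀]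
    let L : ((Fin t → Fin m) → F) →ₗ[F] ((Fin t → Fin m) → F) :=
      { toFun := φ
        map_add' := fun a b => by
          rw [hφ, hφ, hφ]
          funext j
          simp [tm_add_left, Matrix.mulVec_add, add_div, sub_div]
          ring
        map_smul' := fun r a => by
          rw [hφ, hφ]
          funext j
          simp [tm_smul_left, Matrix.mulVec_smul]
          ring }
    exact ⟨LinearMap.toMatrix' L, fun v => by rw [← Matrix.toLin'_apply, Matrix.toLin'_toMatrix']; rfl⟩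
  have hMall : CenAll f X i M := cen_all H i ho hoo (by simpa [funext hM] using hφ)
  by_contra hns
  push Not at hns
  have hMne : ∀ l : F, M ≠ l • 1 := fun l e => by
    obtain ⟨v, hv⟩ := hns l
    exact hv (by rw [hM, e, Matrix.smul_mulVec, Matrix.one_mulVec])
  obtain ⟨c, A, hc0, hcs, hcA, hA, k₁, hk₁⟩ := descend H.uf hm t {N | CenAll f X i N}
    (fun a ha b hb => CenAll.sub H i ha hb) (fun a ha b hb => CenAll.conj_ns H i hb ha)
    (fun a ha => cen_adj H i ho hoo (ha o ho hoo)) M hMall hMne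
  -- products of singular operators on a support
  let Good : (Fin t → Matrix (Fin m) (Fin m) F) → Prop := fun B =>
    (∀ l, B l = 1 ∨ ∃ u, u ≠ 0 ∧ f u u = 0 ∧ B l = nm f u) ∧ (∃ l, B l ≠ 1) ∧
      ∀ c : F, c + σ c = 0 → CenAll f X i (c • pureM B)
  haveI : Nonempty (Fin m) := ⟨⟨0, by omega⟩⟩
  have hnm1 : ∀ u, f u u = 0 → nm f u ≠ 1 := fun u huu e => by
    have h := nm_sq H.uf huu
    rw [e, mul_one] at h
    exact one_ne_zero h
  have hherm : ∀ B : Fin t → Matrix (Fin m) (Fin m) F, (∀ l, B l = 1 ∨ ∃ u, u ≠ 0 ∧ f u u = 0 ∧ B l = nm f u) →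
      formAdj σ (tp σ f t) (pureM B) = pureM B := fun B hB => by
    rw [pureM_adj H.uf]
    congr 1
    funext l
    rcases hB l with e | ⟨u, -, -, e⟩
    · rw [e, H.uf.refl.adj_one]
    · rw [e, nm_adj H.uf]
  have hsq : ∀ B : Fin t → Matrix (Fin m) (Fin m) F, (∀ l, B l = 1 ∨ ∃ u, u ≠ 0 ∧ f u u = 0 ∧ B l = nm f u) →
      (∃ l, B l ≠ 1) → pureM B * pureM B = 0 := fun B hB ⟨l, hl⟩ => by
    rw [pureM_mul]
    ext x y
    simp only [pureM, Matrix.of_apply, Matrix.zero_apply]
    refine Finset.prod_eq_zero (Finset.mem_univ l) ?_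
    obtain ⟨u, -, huu, e⟩ := (hB l).resolve_left hl
    rw [e, nm_sq H.uf huu, Matrix.zero_apply]
  have hprod : ∀ B B', Good B → Good B' → InY σ f X i (pureM B' * pureM B) :=
    fun B B' hB hB' => inY_mul H i (hherm B hB.1) (hsq B hB.1 hB.2.1) hB.2.2 (hherm B' hB'.1) (hsq B' hB'.1 hB'.2.1)
      hB'.2.2
  -- changing one vector
  have hchange : ∀ B, Good B → ∀ k, B k ≠ 1 → ∀ w, w ≠ 0 → f w w = 0 → Good (Function.update B k (nm f w)) := by
    intro B hB k hk w hw hww
    obtain ⟨u, hu, huu, hBk⟩ := (hB.1 k).resolve_left hk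
    refine ⟨fun l => ?_, ⟨k, by rw [Function.update_self]; exact hnm1 w hww⟩, fun d hd => ?_⟩
    · rcases eq_or_ne l k with rfl | hl
      · exact Or.inr ⟨w, hw, hww, Function.update_self ..⟩
      · rw [Function.update_of_ne hl]; exact hB.1 l
    obtain ⟨b, hbd, hbi, r, hr, hbu⟩ := H.uf.move hu huu hw hww
    obtain ⟨t', rfl⟩ : ∃ t', t = t' + 1 := ⟨t - 1, by have := k.2; omega⟩
    have hfac : facGL k b ∈ Ns σ f (t' + 1) := J_kr_right k b ▸ right_mem_ns H.uf k hbd hbi
    have hd' : d / (r * σ r) + σ (d / (r * σ r)) = 0 := by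
      rw [map_div₀, map_mul, H.uf.sig.involutive, mul_comm (σ r) r, ← add_div, hd, zero_div]
    have h := CenAll.conj_ns H i (hB.2.2 _ hd') hfac
    have e : (b : Matrix (Fin m) (Fin m) F) * nm f u * ((b⁻¹ : GL (Fin m) F) : Matrix (Fin m) (Fin m) F) =
        (r * σ r) • nm f w := Matrix.toLin'.injective (LinearMap.ext fun v => by
      rw [Matrix.toLin'_apply, Matrix.toLin'_apply, ← Matrix.mulVec_mulVec, ← Matrix.mulVec_mulVec, nm_mulVec H.uf,
        Matrix.mulVec_smul, Matrix.smul_mulVec, nm_mulVec H.uf, hbu, ← hbi (_ *ᵥ v) u, gl_mulVec_inv_cancel, hbu,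
        H.uf.refl.semi.smul_right, smul_smul, smul_smul]
      congr 1
      ring)
    rw [mul_smul_comm, smul_mul_assoc, ← map_inv, facGL_val, facGL_val, facM, facM, pureM_mul, pureM_mul,
      show (fun l => Function.update (fun _ => (1 : Matrix (Fin m) (Fin m) F)) k (b : Matrix (Fin m) (Fin m) F) l *
          B l * Function.update (fun _ => (1 : Matrix (Fin m) (Fin m) F)) k
            ((b⁻¹ : GL (Fin m) F) : Matrix (Fin m) (Fin m) F) l) =
          Function.update B k ((r * σ r) • nm f w) from funext fun l => by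
        rcases eq_or_ne l k with rfl | hl
        · rw [Function.update_self, Function.update_self, Function.update_self, hBk, e]
        · rw [Function.update_of_ne hl, Function.update_of_ne hl, Function.update_of_ne hl, one_mul, mul_one],
      pureM_upd_smul, smul_smul, div_mul_cancel₀ _ (mul_ne_zero hr ((map_ne_zero σ).mpr hr))] at h
    exact h
  -- arbitrary vectors on a support
  have hvar : ∀ B, Good B → ∀ v : Fin t → Fin m → F, (∀ l, v l ≠ 0 ∧ f (v l) (v l) = 0) →
      Good fun l => if B l = 1 then 1 else nm f (v l) := by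
    intro B hB v hv
    suffices h : ∀ s : Finset (Fin t), Good fun l => if l ∈ s then (if B l = 1 then 1 else nm f (v l)) else B l by
      simpa using h Finset.univ
    intro s
    induction s using Finset.induction with
    | empty => simpa using hB
    | insert k s hks ih =>
      by_cases hBk : B k = 1
      · convert ih using 1
        funext l
        rcases eq_or_ne l k with rfl | hl
        · simp [hks, hBk]
        · simp [hl]
      · convert hchange _ ih k (by simpa [hks] using hBk) (v k) (hv k).1 (hv k).2 using 1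
        funext l
        rcases eq_or_ne l k with rfl | hl
        · simp [hBk]
        · simp [hl]
  -- all operators on a support
  have hsupp : ∀ B, Good B → ∀ A' : Fin t → Matrix (Fin m) (Fin m) F, (∀ l, B l = 1 → A' l = 1) →
      pureM A' ∈ ySub H i := by
    intro B hB
    suffices h : ∀ s : Finset (Fin t), ∀ A' : Fin t → Matrix (Fin m) (Fin m) F, (∀ l, B l = 1 → A' l = 1) →
        (∀ l, l ∉ s → B l ≠ 1 → ∃ x y, f x x = 0 ∧ f y y = 0 ∧ f y x ≠ 0 ∧ A' l = vecMulVec x (fl f y)) →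
        pureM A' ∈ ySub H i from fun A' hA' => h Finset.univ A' hA' fun l hl => absurd (Finset.mem_univ l) hl
    intro s
    induction s using Finset.induction with
    | empty =>
      intro A' hA1 hA2
      have hex : ∀ l, ∃ x y : Fin m → F, (x ≠ 0 ∧ f x x = 0) ∧ (y ≠ 0 ∧ f y y = 0) ∧
          (B l ≠ 1 → f y x ≠ 0 ∧ A' l = vecMulVec x (fl f y)) := fun l => by
        obtain ⟨z, -, hz, hzz⟩ := H.uf.exists_iso (W := ⊤) (by
          rw [finrank_top, Module.finrank_fintype_fun_eq_card, Fintype.card_fin]; omega)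
        by_cases hl : B l = 1
        · exact ⟨z, z, ⟨hz, hzz⟩, ⟨hz, hzz⟩, fun h => absurd hl h⟩
        · obtain ⟨x, y, hxx, hyy, hne, hA'⟩ := hA2 l (Finset.notMem_empty l) hl
          exact ⟨x, y, ⟨fun e => hne (by rw [e, H.uf.refl.zero_right]), hxx⟩,
            ⟨fun e => hne (by rw [e, H.uf.refl.zero_left]), hyy⟩, fun _ => ⟨hne, hA'⟩⟩
      choose x y hx hy hxy using hex
      have h := (ySub H i).smul_mem (∏ l, if B l = 1 then (1 : F) else (f (y l) (x l))⁻¹)
        (show _ ∈ ySub H i from hprod _ _ (hvar B hB y hy) (hvar B hB x hx))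
      rw [pureM_mul, ← pureM_smul_fun] at h
      convert h using 2
      funext l
      by_cases hl : B l = 1
      · simp [hl, hA1 l hl]
      · obtain ⟨hne, hA'⟩ := hxy l hl
        simp only [if_neg hl]
        rw [hA', nm, nm, Matrix.vecMulVec_mul_vecMulVec, fl_dot H.uf, Matrix.vecMulVec_smul, smul_smul,
          inv_mul_cancel₀ hne, one_smul]
    | insert k s hks ih =>
      intro A' hA1 hA2
      by_cases hBk : B k = 1
      · exact ih A' hA1 fun l hl hBl => hA2 l (by
          rw [Finset.mem_insert, not_or]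
          exact ⟨fun e => hBl (e ▸ hBk), hl⟩) hBl
      let S : Submodule F (Matrix (Fin m) (Fin m) F) :=
        { carrier := {Y | pureM (Function.update A' k Y) ∈ ySub H i}
          add_mem' := fun {a b} ha hb => by
            show pureM (Function.update A' k (a + b)) ∈ ySub H i
            rw [show pureM (Function.update A' k (a + b)) = pureM (Function.update A' k a) +
              pureM (Function.update A' k b) by ext u w; simp [pureM_upd, add_mul]]
            exact add_mem ha hb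
          zero_mem' := by
            show pureM (Function.update A' k 0) ∈ ySub H i
            rw [show pureM (Function.update A' k (0 : Matrix (Fin m) (Fin m) F)) = 0 by ext u w; simp [pureM_upd]]
            exact zero_mem _
          smul_mem' := fun r a ha => by
            show pureM (Function.update A' k (r • a)) ∈ ySub H i
            rw [pureM_upd_smul]
            exact Submodule.smul_mem _ r ha }
      have := span_pairs H.uf (by omega) S (fun x y hxx hyy hne => ih _ (fun l hl => by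
          rw [Function.update_of_ne (fun e : l = k => hBk (e ▸ hl))]; exact hA1 l hl) fun l hl hBl => by
        rcases eq_or_ne l k with rfl | hlk
        · exact ⟨x, y, hxx, hyy, hne, Function.update_self ..⟩
        · rw [Function.update_of_ne hlk]
          exact hA2 l (by rw [Finset.mem_insert, not_or]; exact ⟨hlk, hl⟩) hBl) (A' k)
      have h' : pureM (Function.update A' k (A' k)) ∈ ySub H i := this
      rwa [Function.update_eq_self] at h'
  have hgood : ∀ A' : Fin t → Matrix (Fin m) (Fin m) F, (∀ l, A' l = 1 ∨ ∃ u, u ≠ 0 ∧ f u u = 0 ∧ A' l = nm f u) →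
      (∃ l, A' l ≠ 1) → pureM A' ∈ ySub H i → Good A' := fun A' h1 h2 h3 =>
    ⟨h1, h2, fun d hd => InY.cen_herm H i h3 (hherm A' h1) hd⟩
  have hA0 : Good A := ⟨hA, ⟨k₁, hk₁⟩, fun d hd => by
    have := CenAll.scale H i (θ := d / c) hcA (by
      rw [map_div₀, show σ d = -d by linear_combination hd, show σ c = -c by linear_combination hcs, neg_div_neg_eq])
    rwa [smul_smul, div_mul_cancel₀ _ hc0] at this⟩
  obtain ⟨u₀, hu₀, hu₀u, hAk⟩ := (hA k₁).resolve_left hk₁
  -- one factor, any of them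
  have hsingle : ∀ k, Good (Function.update (fun _ => 1) k (nm f u₀)) := by
    intro k
    have h1 : Good (Function.update (fun _ => 1) k₁ (nm f u₀)) := hgood _ (fun l => by
        rcases eq_or_ne l k₁ with rfl | hl
        · exact Or.inr ⟨u₀, hu₀, hu₀u, Function.update_self ..⟩
        · exact Or.inl (Function.update_of_ne hl ..))
      ⟨k₁, by rw [Function.update_self]; exact hnm1 u₀ hu₀u⟩
      (hsupp A hA0 _ fun l hl => Function.update_of_ne (fun e : l = k₁ => hk₁ (e ▸ hl)) _ _)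
    refine ⟨fun l => ?_, ⟨k, by rw [Function.update_self]; exact hnm1 u₀ hu₀u⟩, fun d hd => ?_⟩
    · rcases eq_or_ne l k with rfl | hl
      · exact Or.inr ⟨u₀, hu₀, hu₀u, Function.update_self ..⟩
      · exact Or.inl (Function.update_of_ne hl ..)
    obtain ⟨b, hb⟩ := perm_mem_ns H.uf (by omega) i (Equiv.swap k₁ k)
    have hbi : ∀ u v, f ((b : Matrix (Fin m) (Fin m) F) *ᵥ u) ((b : Matrix (Fin m) (Fin m) F) *ᵥ v) = f u v := by
      obtain ⟨v₀, hv₀⟩ : ∃ v : (Fin t → Fin m) → F, v ≠ 0 := ⟨Pi.single (fun _ => ⟨0, by omega⟩) 1, by simp⟩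
      obtain ⟨v₁, hv₁⟩ := (UA.refl.nondeg v₀ hv₀).2
      intro u v
      have e := ((mem_us_iff i).1 hb.2).2 (tm v₀ u) (tm v₁ v)
      rw [kr_tm, kr_tm, tf_tm D, tf_tm D] at e
      rw [show tp σ f t ((factorPermGL m F (Equiv.swap k₁ k) : Mat) *ᵥ v₀)
        ((factorPermGL m F (Equiv.swap k₁ k) : Mat) *ᵥ v₁) = tp σ f t v₀ v₁ from perm_tp _ _ _] at e
      exact mul_left_cancel₀ hv₁ e
    have h := CenAll.conj H i (h1.2.2 d hd) (H.le hb) (perm_tp _) hbi
    rw [mul_smul_comm, smul_mul_assoc] at h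
    have e : (factorPermGL m F (Equiv.swap k₁ k) : Mat) * pureM (Function.update (fun _ => 1) k₁ (nm f u₀)) *
        (((factorPermGL m F (Equiv.swap k₁ k))⁻¹ : GL (Fin t → Fin m) F) : Mat) =
        pureM (Function.update (fun _ => 1) k (nm f u₀)) := by
      show factorPermM m F _ * facM k₁ (nm f u₀) * _ = facM k (nm f u₀)
      rw [factorPermM_facM, Equiv.swap_apply_left, Matrix.mul_assoc]
      show facM k (nm f u₀) * ((factorPermGL m F (Equiv.swap k₁ k) : Mat) * _) = _
      rw [Units.mul_inv, Matrix.mul_one]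
    rwa [e] at h
  -- every factor
  have hfull : ∀ s : Finset (Fin t), s.Nonempty → Good fun l => if l ∈ s then nm f u₀ else 1 := by
    intro s hs
    induction s using Finset.induction with
    | empty => exact absurd hs (by simp)
    | insert k s hks ih =>
      rcases s.eq_empty_or_nonempty with rfl | hne
      · convert hsingle k using 1
        funext l
        rcases eq_or_ne l k with rfl | hl <;> simp [*]
      · refine hgood _ (fun l => ?_) ⟨k, ?_⟩ ?_
        · by_cases hl : l ∈ insert k s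
          · exact Or.inr ⟨u₀, hu₀, hu₀u, if_pos hl⟩
          · exact Or.inl (if_neg hl)
        · simp only [Finset.mem_insert_self, if_true]
          exact hnm1 u₀ hu₀u
        · have h : pureM _ ∈ ySub H i := hprod _ _ (ih hne) (hsingle k) |> fun h => by
            rw [pureM_mul] at h; exact h
          convert h using 2
          funext l
          rcases eq_or_ne l k with rfl | hl
          · simp [hks]
          · simp [hl, Function.update_of_ne]
  haveI : Nonempty (Fin t) := ⟨⟨0, H.ht⟩⟩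
  have hY : ∀ Y : Mat, Y ∈ ySub H i := by
    intro Y
    have hp : ∀ A', pureM A' ∈ ySub H i := fun A' =>
      hsupp _ (hfull Finset.univ Finset.univ_nonempty) A' fun l hl => absurd hl (by
        simp only [Finset.mem_univ, if_true]; exact hnm1 u₀ hu₀u)
    induction Y using Matrix.induction_on' with
    | h_zero => exact zero_mem _
    | h_add A B hA hB => exact add_mem hA hB
    | h_std_basis x y r =>
      have e : Matrix.single x y r = r • pureM fun l => Matrix.single (x l) (y l) (1 : F) := by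
        ext u v
        simp only [pureM, Matrix.smul_apply, Matrix.of_apply, smul_eq_mul]
        by_cases h : x = u ∧ y = v
        · obtain ⟨rfl, rfl⟩ := h
          simp [Matrix.single_apply]
        · rw [Matrix.single_apply, if_neg h]
          obtain ⟨l, hl⟩ : ∃ l, ¬ (x l = u l ∧ y l = v l) := by
            by_contra hcon
            push Not at hcon
            exact h ⟨funext fun l => (hcon l).1, funext fun l => (hcon l).2⟩
          rw [Finset.prod_eq_zero (Finset.mem_univ l) (by rw [Matrix.single_apply, if_neg hl]), mul_zero]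
      exact e ▸ Submodule.smul_mem _ r (hp _)
  -- all transvections
  have hpt : ∀ (v : (Fin t → Fin m) → F) (w : Fin m → F), f w w = 0 →
      HasT σ (tp σ f t) f (XI X i) (tm v w) := by
    intro v w hww d g hd hg
    rcases eq_or_ne w 0 with rfl | hw
    · rw [show g = 1 from gl_ext_mulVec fun x => by rw [hg, tm_zero_right, smul_zero, add_zero]; simp]
      exact one_mem _
    obtain ⟨N, hN⟩ : ∃ N : Mat, ∀ x, N *ᵥ x = (d * tp σ f t x v) • v := by
      let L : ((Fin t → Fin m) → F) →ₗ[F] ((Fin t → Fin m) → F) :=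
        { toFun := fun x => (d * tp σ f t x v) • v
          map_add' := fun a b => by rw [UA.refl.semi.add_left, mul_add, add_smul]
          map_smul' := fun r a => by rw [UA.refl.semi.smul_left, RingHom.id_apply, smul_smul, mul_left_comm] }
      exact ⟨LinearMap.toMatrix' L, fun x => by rw [← Matrix.toLin'_apply, Matrix.toLin'_toMatrix']; rfl⟩
    have hskew : formAdj σ (tp σ f t) N = -N := UA.refl.adj_unique fun a b => by
      rw [Matrix.neg_mulVec, hN, hN, ← neg_smul, UA.refl.semi.smul_left, UA.refl.semi.smul_right, map_neg, map_mul,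
        UA.herm]
      linear_combination (tp σ f t a v * tp σ f t v b) * hd
    obtain ⟨g', hg', hg'x⟩ := InY.cen_skew H i (hY N) hskew w hw hww
    rwa [show g = g' from gl_ext_mulVec fun x => by
      simp only [hg x, hg'x x, hN, tf_tm_right D, tm_smul_left]]
  refine H.notall fun g hg => ?_
  obtain ⟨g', rfl⟩ := (J i).surjective g
  obtain ⟨hd, hiso⟩ := (mem_us_iff i).1 hg
  have hP : Pres σ (tp σ f t) f (XI X i) := ⟨fun g hg => H.iso i hg⟩
  have hcard : 3 ≤ Fintype.card (Fin t → Fin m) := by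
    rw [Fintype.card_fun, Fintype.card_fin, Fintype.card_fin]
    exact le_trans hm (Nat.le_self_pow (by have := H.ht; omega) m)
  refine su_of_trans (uform_tf UA H.uf hP) (K := XI X i) (by
      rw [Fintype.card_prod, Fintype.card_fin]; nlinarith) (fun v d g hv hd hg => ?_) hd hiso
  exact hasT_of_right UA H.uf hP hpt (by rw [Fintype.card_fin]; omega) hcard hv d g hd hg

end Cfsg.Agent.Classical.TensorPowerMax.Unitary
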