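/-
The radical of a fibre lies in the stabiliser.
-/
import Cfsg.Agent.Lib.Classical.UTPow.Central

set_option autoImplicit false
set_option linter.unusedSectionVars false

namespace Cfsg.Agent.Classical.TensorPowerMax.Unitary

open Matrix Cfsg.Geo
open Cfsg.Agent.Classical
open Cfsg.Agent.Classical.TensorPowerMax
open Cfsg.Agent.Classical.TensorMax (kr kr_val kr_mul kr_one kr_inv Kr)
open Cfsg.Agent.Classical.TensorMax.Form (UForm tm tf ctr Data CenOp exists_uel exists_rt uel_fix uel_mid kr_tm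
  ctr_tm ctr_add ctr_sub ctr_eq eq_tm_of_ctr tf_tm tf_tm_left tf_tm_right tf_semi tm_apply tm_add_left tm_add_right
  tm_sub_left tm_smul_left tm_smul_right tm_zero_left tm_zero_right partner sum_rows)
open scoped Kronecker

variable {F : Type*} [Field F] [Fintype F] {m t q : ℕ} {σ : F ≃+* F} {f : (Fin m → F) → (Fin m → F) → F}
  {X : Subgroup (GL (Fin (t + 1) → Fin m) F)}

local notation:max g:max " ⬝ₘ " x:max =>
  ((g : GL ((Fin t → Fin m) × Fin m) F) : Matrix ((Fin t → Fin m) × Fin m) ((Fin t → Fin m) × Fin m) F) *ᵥ x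

theorem cen_skew' (H : Over q σ f X) (i : Fin (t + 1)) {o : Fin m → F} (ho : o ≠ 0) (hoo : f o o = 0)
    {φ : ((Fin t → Fin m) → F) → (Fin t → Fin m) → F} (hφ : CenOp f (XI X i) o φ) (v v' : (Fin t → Fin m) → F) :
    tp σ f t (φ v) v' + tp σ f t v (φ v') = 0 := by
  have D := data H.uf t
  obtain ⟨g, hg, hgx⟩ := hφ
  obtain ⟨o', -, ho', ho''⟩ := H.uf.exists_partner ho hoo
  have := H.iso i hg (tm v o') (tm v' o')
  rw [hgx, hgx, ctr_tm D, ctr_tm D, ho', one_smul, one_smul, (tf_semi D).add_left, (tf_semi D).add_right,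
    (tf_semi D).add_right, tf_tm D, tf_tm D, tf_tm D, tf_tm D, hoo, ho'', ho'] at this
  linear_combination this

/-- The radical of a fibre is in the stabiliser. -/
theorem Over.toOver (H : Over q σ f X) (i : Fin (t + 1)) :
    TensorMax.Form.Over σ (tp σ f t) f (XI X i) := by
  classical
  have UA := tp_uform H.uf t
  have UB := H.uf
  refine ⟨fun g hg => H.iso i hg, fun b hb hiso => H.right i hb hiso, fun o ho hoo g hg hfix hmid => ?_⟩
  have D := data H.uf t
  haveI : Nonempty (Fin t → Fin m) := ⟨fun _ => ⟨0, by have := H.hm; omega⟩⟩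
  obtain ⟨i₀⟩ := ‹Nonempty (Fin t → Fin m)›
  obtain ⟨k₀, hk₀⟩ := Function.ne_iff.mp ho
  let R : (Fin m → F) → ((Fin t → Fin m) → F) →ₗ[F] ((Fin t → Fin m) → F) := fun w =>
    { toFun := fun a i => (g ⬝ₘ (tm a w) - tm a w) (i, k₀) / o k₀
      map_add' := fun a b => funext fun i => by simp [tm_add_left, Matrix.mulVec_add]; ring
      map_smul' := fun r a => funext fun i => by simp [tm_smul_left, Matrix.mulVec_smul]; ring }
  let M : (Fin m → F) → Matrix (Fin t → Fin m) (Fin t → Fin m) F := fun w => LinearMap.toMatrix' (R w)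
  have hM : ∀ w, f w o = 0 → ∀ a, g ⬝ₘ (tm a w) = tm a w + tm (M w *ᵥ a) o := fun w hw a => by
    obtain ⟨a', ha'⟩ := hmid a w hw
    have : M w *ᵥ a = a' := by
      rw [← Matrix.toLin'_apply, Matrix.toLin'_toMatrix']
      funext i
      change (g ⬝ₘ (tm a w) - tm a w) (i, k₀) / o k₀ = _
      rw [ha', add_sub_cancel_left, tm_apply, mul_div_cancel_right₀ _ hk₀]
    rw [this, ha']
  have hMs : ∀ (r : F) w, M (r • w) = r • M w := fun r w => by
    refine Matrix.toLin'.injective (LinearMap.ext fun a => funext fun i => ?_)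
    simp only [M, Matrix.toLin'_toMatrix', map_smul, LinearMap.smul_apply, Pi.smul_apply, smul_eq_mul]
    change (g ⬝ₘ (tm a (r • w)) - tm a (r • w)) (i, k₀) / o k₀ = r * ((g ⬝ₘ (tm a w) - tm a w) (i, k₀) / o k₀)
    rw [tm_smul_right, Matrix.mulVec_smul, ← smul_sub, Pi.smul_apply, smul_eq_mul, mul_div_assoc]
  -- the commutator with a Siegel element
  have hcomm : ∀ w, f w o = 0 → ∃ l : F, M w - formAdj σ (tp σ f t) (M w) = l • 1 := by
    intro w hw
    obtain ⟨X', hX'⟩ := UB.exists_trace (UB.fixed w)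
    obtain ⟨b, hbd, hiso, hU⟩ := exists_uel (α := Fin t → Fin m) D hoo hw (c := -X') (by rw [map_neg]; linear_combination -hX')
    obtain ⟨n, hn⟩ : ∃ n, n = kr (1 : GL (Fin t → Fin m) F) b := ⟨_, rfl⟩
    have hnX : n ∈ XI X i := hn ▸ H.right i hbd hiso
    have hco : ∀ y, ctr f o (g⁻¹ ⬝ₘ y) = ctr f o y := fun y => ctr_eq D fun a => by
      rw [← H.iso i hg, gl_mulVec_inv_cancel, hfix, tf_tm_right D]
    have hcw : ∀ y, ctr f w (g⁻¹ ⬝ₘ y) = ctr f w y + formAdj σ (tp σ f t) (M w) *ᵥ ctr f o y := fun y => ctr_eq D fun a => by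
      rw [← H.iso i hg, gl_mulVec_inv_cancel, hM w hw, (tf_semi D).add_right, tf_tm_right D, tf_tm_right D,
        UA.refl.semi.add_left, UA.refl.adj_spec']
    have hC : CenOp f (XI X i) o fun v => (M w - formAdj σ (tp σ f t) (M w)) *ᵥ v := by
      refine ⟨g * n * g⁻¹ * n⁻¹, mul_mem (mul_mem (mul_mem hg hnX) (inv_mem hg)) (inv_mem hnX), fun x => ?_⟩
      obtain ⟨y, rfl⟩ : ∃ y, x = n ⬝ₘ y := ⟨_, (gl_mulVec_inv_cancel n x).symm⟩
      have hny : ctr f o (n ⬝ₘ y) = ctr f o y := by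
        rw [hn, hU, ctr_add D, ctr_add D, ctr_tm D, ctr_tm D, hw, hoo, zero_smul, zero_smul, add_zero, add_zero]
      rw [gl_mul_mulVec, gl_inv_mulVec_cancel, gl_mul_mulVec, gl_mul_mulVec, hny, hn, hU, hU, Matrix.mulVec_add,
        Matrix.mulVec_add, gl_mulVec_inv_cancel, hM w hw, hfix, hco, hcw, map_one]
      simp only [Matrix.sub_mulVec, one_smul, tm_sub_left, tm_add_left, tm_smul_left]
      abel
    obtain ⟨l, hl⟩ := Over.cen_scalar H i ho hoo hC
    exact ⟨l, Matrix.toLin'.injective (LinearMap.ext fun v => by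
      rw [Matrix.toLin'_apply, Matrix.toLin'_apply, hl, Matrix.smul_mulVec, Matrix.one_mulVec])⟩
  obtain ⟨z, hz⟩ : ∃ z : F, σ z ≠ z := by
    by_contra hcon
    push Not at hcon
    exact UA.sig.ne_refl (RingEquiv.ext hcon)
  have hscalar : ∀ w, f w o = 0 → ∃ m : F, M w = m • 1 := fun w hw => by
    obtain ⟨l, hl⟩ := hcomm w hw
    obtain ⟨l', hl'⟩ := hcomm (z • w) (by rw [UB.refl.semi.smul_left, hw, mul_zero])
    rw [hMs, UA.refl.adj_smul] at hl'
    refine ⟨(z - σ z)⁻¹ * (l' - σ z * l), ?_⟩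
    rw [← smul_smul, sub_smul, ← hl', ← smul_smul, ← hl,
      show z • M w - σ z • formAdj σ (tp σ f t) (M w) - σ z • (M w - formAdj σ (tp σ f t) (M w)) = (z - σ z) • M w by module,
      smul_smul, inv_mul_cancel₀ (sub_ne_zero.mpr (Ne.symm hz)), one_smul]
  -- the middle part is one element of the stabiliser
  have hMii : ∀ w, (M w) i₀ i₀ =
      (g ⬝ₘ (tm (Pi.single i₀ (1 : F) : (Fin t → Fin m) → F) w) - tm (Pi.single i₀ (1 : F) : (Fin t → Fin m) → F) w) (i₀, k₀) / o k₀ := fun w => by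
    have h1 : (M w *ᵥ Pi.single i₀ (1 : F)) i₀ = (M w) i₀ i₀ := by simp
    rw [← h1, ← Matrix.toLin'_apply, Matrix.toLin'_toMatrix']
    rfl
  obtain ⟨k, hk⟩ : ∃ k : (Fin m → F) →ₗ[F] F, ∀ w, k w = (M w) i₀ i₀ := ⟨
    { toFun := fun w => (M w) i₀ i₀
      map_add' := fun w w' => by
        simp only [hMii, tm_add_right, Matrix.mulVec_add, Pi.sub_apply, Pi.add_apply]
        ring
      map_smul' := fun r w => by rw [hMs]; simp }, fun w => rfl⟩
  obtain ⟨y, hy⟩ : ∃ y, ∀ v, -f v y = k v := by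
    have hinj : Function.Injective fun y : (Fin m → F) => fun i => -f (Pi.single i 1) y := fun y y' e => by
      by_contra hne
      obtain ⟨x, hx⟩ := (UB.refl.nondeg _ (sub_ne_zero.mpr hne)).1
      apply hx
      rw [sub_eq_add_neg, UB.refl.semi.add_right, ← neg_one_smul F y', UB.refl.semi.smul_right, map_neg, map_one,
        pi_eq_sum_univ' x, UB.refl.sum_left, UB.refl.sum_left, Finset.mul_sum, ← Finset.sum_add_distrib]
      refine Finset.sum_eq_zero fun i _ => ?_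
      rw [UB.refl.semi.smul_left, UB.refl.semi.smul_left]
      linear_combination (-(x i)) * congrFun e i
    obtain ⟨y, hy⟩ := (Finite.injective_iff_surjective.mp hinj) fun i => k (Pi.single i 1)
    refine ⟨y, fun v => ?_⟩
    rw [pi_eq_sum_univ' v, UB.refl.sum_left, map_sum, ← Finset.sum_neg_distrib]
    refine Finset.sum_congr rfl fun i _ => ?_
    rw [UB.refl.semi.smul_left, map_smul, smul_eq_mul, ← congrFun hy i]
    ring
  have hyo : f y o = 0 := UB.refl.eq_zero_swap (by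
    have h1 : (M o) i₀ i₀ = 0 := by
      rw [hMii, hfix, sub_self, Pi.zero_apply, zero_div]
    have := hy o
    rw [hk, h1, neg_eq_zero] at this
    exact this)
  obtain ⟨X', hX'⟩ := UB.exists_trace (UB.fixed y)
  obtain ⟨b, hbd, hiso, hU⟩ := exists_uel (α := Fin t → Fin m) D hoo hyo (c := -X') (by rw [map_neg]; linear_combination -hX')
  obtain ⟨n, hn⟩ : ∃ n, n = kr (1 : GL (Fin t → Fin m) F) b := ⟨_, rfl⟩
  have hnX : n ∈ XI X i := hn ▸ H.right i hbd hiso
  obtain ⟨g', hg'⟩ : ∃ g', g' = n⁻¹ * g := ⟨_, rfl⟩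
  have hg'X : g' ∈ XI X i := hg' ▸ mul_mem (inv_mem hnX) hg
  have hg'tm : ∀ a v, f v o = 0 → g' ⬝ₘ (tm a v) = tm a v := fun a v hv => by
    obtain ⟨m, hm⟩ := hscalar v hv
    have hmk : m = k v := by rw [hk, hm]; simp
    rw [hg', gl_mul_mulVec, hM v hv, hm, Matrix.smul_mulVec, Matrix.one_mulVec, hmk, ← hy]
    have := uel_mid D hU hv a
    rw [map_one, one_mul] at this
    rw [← this, ← hn, gl_inv_mulVec_cancel]
  have hg'fix : ∀ x, ctr f o x = 0 → g' ⬝ₘ x = x := fun x hx => by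
    rw [sum_rows x, Matrix.mulVec_sum]
    exact Finset.sum_congr rfl fun i _ => hg'tm _ _ (congrFun hx i)
  obtain ⟨o', -, ho', -⟩ := UB.exists_partner ho hoo
  have hcen : ∀ c, ∃ u, g' ⬝ₘ (tm c o') - tm c o' = tm u o := fun c => eq_tm_of_ctr D fun v' hv' => by
    rw [ctr_sub D, sub_eq_zero]
    refine ctr_eq D fun a => ?_
    conv_lhs => rw [← hg'tm a v' hv', H.iso i hg'X, tf_tm_right D]
  choose φ hφ using hcen
  have hC : CenOp f (XI X i) o φ := ⟨g', hg'X, fun x => by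
    obtain ⟨x₁, hx₁⟩ : ∃ x₁, x₁ = x - tm (ctr f o x) o' := ⟨_, rfl⟩
    have h1 : ctr f o x₁ = 0 := by rw [hx₁, ctr_sub D, ctr_tm D, ho', one_smul, sub_self]
    have h2 := hg'fix x₁ h1
    rw [hx₁, Matrix.mulVec_sub] at h2
    rw [← hφ]
    linear_combination (norm := module) h2⟩
  obtain ⟨l, hl⟩ := Over.cen_scalar H i ho hoo hC
  obtain ⟨g'', hg''X, hg''⟩ := hC
  have hskew : l + σ l = 0 := by
    obtain ⟨a', ha'⟩ := (UA.refl.nondeg (Pi.single i₀ 1) (by simp)).2
    have := cen_skew' H i ho hoo ⟨g'', hg''X, hg''⟩ (Pi.single i₀ 1) a'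
    rw [hl, hl, UA.refl.semi.smul_left, UA.refl.semi.smul_right, ← add_mul] at this
    exact (mul_eq_zero.mp this).resolve_right ha'
  obtain ⟨t', -, -, hR⟩ := exists_rt (α := Fin t → Fin m) D hoo (c := l) (by rw [one_mul]; exact hskew)
  have hK : g' = kr 1 t' := gl_ext_mulVec fun x => by
    obtain ⟨x₁, hx₁⟩ : ∃ x₁, x₁ = x - tm (ctr f o x) o' := ⟨_, rfl⟩
    have h1 : ctr f o x₁ = 0 := by rw [hx₁, ctr_sub D, ctr_tm D, ho', one_smul, sub_self]
    have h2 := hg'fix x₁ h1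
    rw [hx₁, Matrix.mulVec_sub] at h2
    rw [hR, ← hl, ← hφ]
    linear_combination (norm := module) h2
  have : g = n * g' := by rw [hg', mul_inv_cancel_left]
  rw [this, hK, hn]
  exact mul_mem ⟨1, b, rfl⟩ ⟨1, t', rfl⟩

end Cfsg.Agent.Classical.TensorPowerMax.Unitary
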