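/-
The stabiliser of a fibre lies in the stabiliser of the tensor power.
-/
import Cfsg.Agent.Lib.Classical.UTPow.Rad
import Cfsg.Agent.Lib.Classical.TensorPowerMax.Central
import Cfsg.Agent.Lib.Classical.TensorMax.Form.UTwoThree

set_option autoImplicit false
set_option linter.unusedSectionVars false

namespace Cfsg.Agent.Classical.TensorPowerMax.Unitary

open Matrix Cfsg.Geo
open Cfsg.Agent.Classical
open Cfsg.Agent.Classical.TensorPowerMax
open Cfsg.Agent.Classical.TensorMax (kr kr_val kr_mul kr_one kr_inv Kr)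
open Cfsg.Agent.Classical.TensorMax.Form (UForm Nice RootImage tm tf ctr Data Rt CenOp kr_tm ctr_tm tf_tm tm_apply
  tm_eq_zero tm_smul_left tm_smul_right kr_shift rt_fix partner)
open scoped Kronecker

variable {F : Type*} [Field F] [Fintype F] {m t q : ℕ} {σ : F ≃+* F} {f : (Fin m → F) → (Fin m → F) → F}
  {X : Subgroup (GL (Fin (t + 1) → Fin m) F)}

local notation:max g:max " ⬝ₘ " x:max =>
  ((g : GL ((Fin t → Fin m) × Fin m) F) : Matrix ((Fin t → Fin m) × Fin m) ((Fin t → Fin m) × Fin m) F) *ᵥ x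

theorem Over.nice (H : Over q σ f X) : Nice σ (1 : F) f := by
  rcases Nat.lt_or_ge m 4 with h | h
  · have hm := H.hm
    have h2 := H.uf.sig.two_le
    have hq : q ≠ 2 := fun e => H.hex ⟨e, by omega⟩
    exact H.uf.nice_three (by rw [Fintype.card_fin]; omega) (by omega)
  · exact H.uf.nice (by rw [Fintype.card_fin]; exact h)

/-- A conjugate root that fixes a fibre pointwise in the stabiliser is a root of the same factor. -/
theorem Over.rootImage (H : Over q σ f X) (i : Fin (t + 1)) : RootImage σ 1 f (XI X i) := by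
  classical
  intro h hh w c hw hww hc hskew z hz hmem hfix
  obtain ⟨p, hp⟩ := CharP.exists F
  haveI : Fact p.Prime := ⟨CharP.char_is_prime F p⟩
  have hm := H.hm
  have U := H.uf
  have D := data U t
  have N := H.nice
  haveI : Nonempty (Fin t → Fin m) := ⟨fun _ => ⟨0, by omega⟩⟩
  rw [one_mul] at hskew
  obtain ⟨v, hv, hfix⟩ := hfix
  obtain ⟨u, hu⟩ : ∃ u, u = h * z * h⁻¹ := ⟨_, rfl⟩
  rw [← hu] at hmem hfix
  obtain ⟨B, hB⟩ := kr_shift hmem hv hfix
  have hBu : IsUnit B := Matrix.mulVec_injective_iff_isUnit.mp fun x y e => by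
    obtain ⟨a₀⟩ := ‹Nonempty (Fin t → Fin m)›
    have e1 : tm (Pi.single a₀ (1 : F)) x = tm (Pi.single a₀ (1 : F)) y := gl_mulVec_injective u (by
      change u ⬝ₘ _ = u ⬝ₘ _
      rw [hB, hB]; exact congrArg (tm _) e)
    exact funext fun k => by simpa [tm_apply] using congrFun e1 (a₀, k)
  have hukr : u = kr 1 hBu.unit := gl_ext_mulVec fun x => TensorMax.Form.ext_pure (fun a b => by
    rw [hB, kr_tm, Units.val_one, Matrix.one_mulVec, IsUnit.unit_spec]) x
  have hzU : RootU σ f i (J i z) := ⟨w, c, hw, hww, hc, hskew, by rwa [MulEquiv.symm_apply_apply]⟩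
  have hzX : z ∈ XI X i := H.le (hzU.mem_ns U)
  have hg : J i u = J i h * J i z * (J i h)⁻¹ := by rw [hu, map_mul, map_mul, map_inv]
  have hfac : J i u = facGL i hBu.unit := by rw [hukr, J_kr_right]
  have hrank := (hzU.rootAt U).rank (by omega)
  have hgX : J i u ∈ X := hg ▸ mul_mem (mul_mem hh hzX) (inv_mem hh)
  have hne : J i u ≠ 1 := fun e => by
    have h1 : J i z = 1 := conj_eq_one_iff.mp (hg ▸ e)
    rw [h1, Units.val_one, sub_self, Matrix.rank_zero] at hrank
    exact absurd hrank.symm (pow_ne_zero _ (by omega))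
  have hr : ((J i u : Matrix (Fin (t + 1) → Fin m) (Fin (t + 1) → Fin m) F) - 1).rank = m ^ t := by
    rw [hg, rank_conj, hrank]
  rcases classify p hm (hfac ▸ facGL_mem _ _) (hg ▸ conj_sq _ _ (hzU.rootAt U).sq) hne hr.le with
    ⟨j, hj⟩ | ⟨-, A, τ, hτ, he⟩
  · have hji : j = i := by
      by_contra hne'
      obtain ⟨f', l, hf', hl, hlf, he⟩ := hj
      obtain ⟨r, hr'⟩ := facM_eq_facM (by omega) hne' (he.symm.trans ((congrArg
        (fun g : GL (Fin (t + 1) → Fin m) F => (g : Matrix (Fin (t + 1) → Fin m) (Fin (t + 1) → Fin m) F)) hfac).trans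
        (facGL_val i _)))
      exact RootAt.not_scalar (by omega) ⟨f', l, hf', hl, hlf, he⟩ r (by rw [he, hr', facM_smul, facM_one])
    obtain ⟨S, c', hS, hSS, -, -, hR⟩ := rootU_of_rootAt U (by omega) (hji ▸ hj) (H.sl hgX)
    rw [MulEquiv.symm_apply_apply] at hR
    obtain ⟨o', ho'⟩ := partner D hw
    refine ⟨S, hS, hSS, fun a => ⟨c' • ctr f S (h ⬝ₘ (tm (c⁻¹ • a) o')), ?_⟩⟩
    have e := hR (h ⬝ₘ (tm (c⁻¹ • a) o'))
    rw [hu, gl_mul_mulVec, gl_mul_mulVec, gl_inv_mulVec_cancel, hz, ctr_tm D, ho', one_smul, smul_smul,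
      mul_inv_cancel₀ hc, one_smul, Matrix.mulVec_add, add_right_inj] at e
    exact e
  · exfalso
    have : τ = 1 := perm_unique (by omega) (A := A) (B := Pi.mulSingle i hBu.unit) (τ := 1) (by
      rw [← he, hfac, perm_one, mul_one]; rfl)
    obtain ⟨x, y, hxy, hxy'⟩ := hτ
    rw [this] at hxy'
    have := congrArg (fun e : Equiv.Perm (Fin (t + 1)) => e x) hxy'
    simp only [Equiv.Perm.one_apply, Equiv.swap_apply_left] at this
    exact hxy this

/-- A Kronecker product in the overgroup lies in the stabiliser. -/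
theorem Over.kr_std (H : Over q σ f X) (i : Fin (t + 1)) {a : GL (Fin t → Fin m) F} {b : GL (Fin m) F}
    (hab : kr a b ∈ XI X i) : J i (kr a b) ∈ Ns σ f (t + 1) := by
  classical
  obtain ⟨p, hp⟩ := CharP.exists F
  haveI : Fact p.Prime := ⟨CharP.char_is_prime F p⟩
  have hm := H.hm
  have U := H.uf
  refine ⟨J_kr_mem i ?_ b, H.sl hab⟩
  rcases Nat.lt_or_ge t 2 with ht1 | ht2
  · obtain rfl : t = 1 := by have := H.ht; omega
    obtain ⟨a₀, ha₀⟩ : ∃ a₀ : GL (Fin m) F, (J (F := F) (m := m) (t := 0) 0) (kr 1 a₀) = a := by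
      obtain ⟨G, rfl⟩ := (J (F := F) (m := m) (t := 0) 0).surjective a
      let e : (Fin 0 → Fin m) × Fin m ≃ Fin m :=
        ⟨Prod.snd, fun x => (default, x), fun p => Prod.ext (Subsingleton.elim _ _) rfl, fun _ => rfl⟩
      refine ⟨glReindex e G, congrArg _ (Units.ext ?_)⟩
      ext ⟨u, k⟩ ⟨v, l⟩
      rw [kr_val, kroneckerMap_apply, Subsingleton.elim u default, Subsingleton.elim v default, Units.val_one,
        Matrix.one_apply_eq, one_mul]
      rfl
    rw [← ha₀, J_kr_right]
    exact facGL_mem _ _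
  obtain ⟨t', rfl⟩ : ∃ t', t = t' + 1 := ⟨t - 1, by omega⟩
  have D := data U (t' + 1)
  have UA := tp_uform U (t' + 1)
  let G : Subgroup (GL (Fin (t' + 1) → Fin m) F) :=
    (XI X i).comap (MonoidHom.mk' (fun c => kr c (1 : GL (Fin m) F)) (fun c d => by rw [kr_mul, mul_one])) ⊓
      Us σ f (t' + 1)
  have hG : Ns σ f (t' + 1) ≤ G := fun c hc => ⟨H.left i hc, hc.2⟩
  rcases H.ih G hG inf_le_right with e | e
  · -- the other factors normalise the stabiliser
    obtain ⟨v, v', hvv⟩ : ∃ v v' : Fin m → F, f v v' = 1 := by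
      obtain ⟨w, -, hw, -⟩ := U.exists_iso (W := ⊤) (by
        rw [finrank_top, Module.finrank_fintype_fun_eq_card, Fintype.card_fin]; omega)
      obtain ⟨z, hz⟩ := U.exists_pair_one hw
      exact ⟨z, w, hz⟩
    obtain ⟨ν, hν⟩ : ∃ ν, ν = f ((b : Matrix (Fin m) (Fin m) F) *ᵥ v) ((b : Matrix (Fin m) (Fin m) F) *ᵥ v') :=
      ⟨_, rfl⟩
    have hsim : ∀ x y, tp σ f (t' + 1) ((a : Matrix (Fin (t' + 1) → Fin m) (Fin (t' + 1) → Fin m) F) *ᵥ x)
        ((a : Matrix (Fin (t' + 1) → Fin m) (Fin (t' + 1) → Fin m) F) *ᵥ y) * ν = tp σ f (t' + 1) x y := fun x y => by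
      have h := H.iso i hab (tm x v) (tm y v')
      rwa [kr_tm, kr_tm, tf_tm D, tf_tm D, hvv, mul_one, ← hν] at h
    have hν0 : ν ≠ 0 := fun e0 => by
      obtain ⟨x, hx⟩ : ∃ x : (Fin (t' + 1) → Fin m) → F, x ≠ 0 := ⟨Pi.single (fun _ => ⟨0, by omega⟩) 1, by simp⟩
      obtain ⟨y, hy⟩ := (UA.refl.nondeg x hx).2
      exact hy (by rw [← hsim x y, e0, mul_zero])
    have hconj : ∀ x ∈ Ns σ f (t' + 1), a * x * a⁻¹ ∈ Ns σ f (t' + 1) := fun x hx => by
      have h1 : a * x * a⁻¹ ∈ G := by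
        refine ⟨?_, ?_, fun u w => mul_right_cancel₀ hν0 ?_⟩
        · show kr (a * x * a⁻¹) (1 : GL (Fin m) F) ∈ XI X i
          rw [show kr (a * x * a⁻¹) (1 : GL (Fin m) F) = kr a b * kr x 1 * (kr a b)⁻¹ by
            rw [kr_inv, kr_mul, kr_mul, mul_one, mul_inv_cancel]]
          exact mul_mem (mul_mem hab (hG hx).1) (inv_mem hab)
        · rw [Units.val_mul, Units.val_mul, Matrix.det_mul, Matrix.det_mul, hx.2.1, mul_one, ← Matrix.det_mul,
            Units.mul_inv, Matrix.det_one]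
        · simp only [gl_mul_mulVec]
          rw [hsim, hx.2.2, ← hsim, gl_mulVec_inv_cancel, gl_mulVec_inv_cancel]
      rwa [e] at h1
    refine mem_std_of_uroots U hm p a fun j z hz => ?_
    obtain ⟨x, hx, y, hy, hzxy⟩ := rootU_commutator U hm hz
    refine root_of_commutator p hm (hconj x hx).1 (hconj y hy).1 ?_ (conj_sq a z (hz.rootAt U).sq) ?_
    · rw [hzxy]; group
    · rw [rank_conj, (hz.rootAt U).rank (by omega)]
  · -- a transvection of the other factors gives a central element of another factor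
    exfalso
    haveI : Nonempty (Fin m) := ⟨⟨0, by omega⟩⟩
    obtain ⟨u, -, hu, huu⟩ := U.exists_iso (W := ⊤) (by
      rw [finrank_top, Module.finrank_fintype_fun_eq_card, Fintype.card_fin]; omega)
    obtain ⟨d, hd0, hd⟩ := U.sig.exists_skew
    obtain ⟨N, hN⟩ : ∃ N, N = pureM fun _ : Fin (t' + 1) => nm f u := ⟨_, rfl⟩
    have hN2 : N * N = 0 := by
      rw [hN, pureM_mul]
      ext x y
      simp [pureM, nm_sq U huu]
    have hNa : formAdj σ (tp σ f (t' + 1)) N = N := by rw [hN, pureM_adj U]; simp only [nm_adj U]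
    have hdN : (d • N) * (d • N) = 0 := by rw [smul_mul_smul_comm, hN2, smul_zero]
    let T : GL (Fin (t' + 1) → Fin m) F := ⟨1 + d • N, 1 - d • N, one_add_sq_inv hdN, one_sub_sq_inv hdN⟩
    have hT : T ∈ Us σ f (t' + 1) := by
      refine ⟨?_, fun x y => ?_⟩
      · have hk : ∀ k : ℕ, (1 + d • N) ^ k = 1 + (k : F) • (d • N) := fun k => by
          induction k with
          | zero => simp
          | succ k ih =>
            rw [pow_succ, ih, add_mul, mul_add, mul_add, one_mul, mul_one, one_mul, smul_mul_assoc _ (d • N) (d • N), hdN, smul_zero,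
              Nat.cast_succ, add_smul, one_smul]
            abel
        refine frobenius_inj F p ?_
        show (1 + d • N).det ^ p = (1 : F) ^ p
        rw [one_pow, ← Matrix.det_pow, hk, CharP.cast_eq_zero, zero_smul, add_zero, Matrix.det_one]
      · show tp σ f (t' + 1) ((1 + d • N) *ᵥ x) ((1 + d • N) *ᵥ y) = _
        rw [UA.refl.adj_spec, Matrix.mulVec_mulVec, UA.refl.adj_add, UA.refl.adj_one, UA.refl.adj_smul, hNa,
          show (1 + σ d • N) * (1 + d • N) = (1 : Matrix (Fin (t' + 1) → Fin m) (Fin (t' + 1) → Fin m) F) by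
            rw [show σ d = -d by linear_combination hd, neg_smul, ← sub_eq_add_neg]
            exact one_sub_sq_inv hdN, Matrix.one_mulVec]
    have hTX : kr T (1 : GL (Fin m) F) ∈ XI X i := (e hT).1
    -- another factor
    let k : Fin (t' + 1 + 1) := i.succAbove 0
    obtain ⟨A, hA⟩ : ∃ A : Fin (t' + 1 + 1) → Matrix (Fin m) (Fin m) F,
      A = i.insertNth (1 : Matrix (Fin m) (Fin m) F) (fun _ => nm f u) := ⟨_, rfl⟩
    have hAk : A k = nm f u := by rw [hA]; exact Fin.insertNth_apply_succAbove ..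
    obtain ⟨G', hG'⟩ := (J (F := F) k).surjective (J i (kr T 1))
    have hG'X : G' ∈ XI X k := by rw [mem_XI, hG']; exact hTX
    have hG'v : (G' : Matrix ((Fin (t' + 1) → Fin m) × Fin m) ((Fin (t' + 1) → Fin m) × Fin m) F) =
        1 + (d • pureM (fun l => A (k.succAbove l))) ⊗ₖ nm f u := by
      refine (Matrix.reindex (spl k) (spl k)).injective ?_
      rw [← J_val, hG', J_val, kr_val, show (T : Matrix (Fin (t' + 1) → Fin m) (Fin (t' + 1) → Fin m) F) =
        1 + d • N from rfl, Units.val_one, Matrix.add_kronecker, Matrix.one_kronecker_one]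
      simp only [← Matrix.coe_reindexAlgEquiv F F, map_add, map_one]
      simp only [Matrix.coe_reindexAlgEquiv]
      show 1 + Emb i 1 (d • N) = 1 + Emb k (nm f u) (d • pureM fun l => A (k.succAbove l))
      rw [emb_smul, emb_smul, hN, emb_pureM, emb_pureM, ← hA, ← hAk]
      congr 3
      exact (Fin.insertNth_self_removeNth k A).symm
    have hcen : CenOp f (XI X k) u fun v => (d • pureM fun l => A (k.succAbove l)) *ᵥ v :=
      ⟨G', hG'X, fun x => by rw [hG'v, Matrix.add_mulVec, Matrix.one_mulVec, kron_nm_mulVec U]⟩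
    obtain ⟨l, hl⟩ := Over.cen_scalar H k hu huu hcen
    obtain ⟨P, hP⟩ : ∃ P, P = d • pureM fun l => A (k.succAbove l) := ⟨_, rfl⟩
    have hP1 : P = l • 1 := Matrix.toLin'.injective (LinearMap.ext fun v => by
      rw [Matrix.toLin'_apply, Matrix.toLin'_apply, Matrix.smul_mulVec, Matrix.one_mulVec, hP]
      exact hl v)
    -- its square is zero and it is not zero
    obtain ⟨j, hj⟩ : ∃ j, A (k.succAbove j) = nm f u := by
      obtain ⟨j, hj⟩ := Fin.exists_succAbove_eq (x := i.succAbove 1) (y := k) (fun e => by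
        have := Fin.succAbove_right_injective e
        exact absurd this (by
          have : (1 : Fin (t' + 1)) ≠ 0 := by
            intro e; have := congrArg Fin.val e; simp at this; omega
          exact this))
      exact ⟨j, by rw [hj, hA]; exact Fin.insertNth_apply_succAbove ..⟩
    have hP2 : P * P = 0 := by
      rw [hP, smul_mul_smul_comm, pureM_mul]
      ext x y
      simp only [pureM, Matrix.smul_apply, Matrix.of_apply, Matrix.zero_apply]
      rw [Finset.prod_eq_zero (Finset.mem_univ j) (by rw [hj, nm_sq U huu, Matrix.zero_apply]), smul_zero]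
    rw [hP1, smul_mul_smul_comm, one_mul, smul_eq_zero, or_iff_left one_ne_zero, mul_self_eq_zero] at hP2
    rw [hP2, zero_smul] at hP1
    have hne : ∀ l, A (k.succAbove l) ≠ 0 := fun l => by
      rw [hA]
      rcases Fin.eq_self_or_eq_succAbove i (k.succAbove l) with e | ⟨r, e⟩ <;> rw [e]
      · rw [Fin.insertNth_apply_same]; exact one_ne_zero
      · rw [Fin.insertNth_apply_succAbove]; exact nm_ne_zero U hu
    have hx : ∀ l, ∃ x y, A (k.succAbove l) x y ≠ 0 := fun l => by
      by_contra hcon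
      push Not at hcon
      exact hne l (Matrix.ext hcon)
    choose x y hxy using hx
    have := congrFun (congrFun (hP.symm.trans hP1) x) y
    simp only [pureM, Matrix.smul_apply, Matrix.of_apply, Matrix.zero_apply, smul_eq_mul] at this
    exact mul_ne_zero hd0 (Finset.prod_ne_zero_iff.2 fun l _ => hxy l) this

/-- An element stabilising a singular fibre lies in the stabiliser. -/
theorem Over.fibre_std (H : Over q σ f X) (i : Fin (t + 1)) {o : Fin m → F} (ho : o ≠ 0) (hoo : f o o = 0)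
    {h : GL ((Fin t → Fin m) × Fin m) F} (hh : h ∈ XI X i) (hf : ∀ a, ∃ a', h ⬝ₘ (tm a o) = tm a' o) :
    J i h ∈ Ns σ f (t + 1) := by
  classical
  haveI : Nonempty (Fin t → Fin m) := ⟨fun _ => ⟨0, by have := H.hm; omega⟩⟩
  haveI : Nonempty (Fin m) := ⟨⟨0, by have := H.hm; omega⟩⟩
  obtain ⟨a, b, rfl⟩ := TensorMax.Form.mem_kr (data H.uf t) H.nice (H.toOver i) (H.rootImage i) hh ho hoo hf
  exact H.kr_std i hh

/-- The centraliser of a root element lies in the stabiliser. -/
theorem Over.central (H : Over q σ f X) {z g : GL (Fin (t + 1) → Fin m) F} (hz : URoot σ f z) (hg : g ∈ X)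
    (hc : g * z = z * g) : g ∈ Ns σ f (t + 1) := by
  obtain ⟨i, o, c, ho, hoo, hc0, -, hR⟩ := hz
  have D := data H.uf t
  obtain ⟨G, rfl⟩ := (J i).surjective g
  obtain ⟨Z, rfl⟩ := (J i).surjective z
  rw [MulEquiv.symm_apply_apply] at hR
  rw [← map_mul, ← map_mul] at hc
  have hc' := (J i).injective hc
  refine H.fibre_std i ho hoo hg fun a => ?_
  obtain ⟨o', ho'⟩ := partner D ho
  obtain ⟨x, hx⟩ : ∃ x, x = tm (c⁻¹ • a) o' := ⟨_, rfl⟩
  refine ⟨c • ctr f o (G ⬝ₘ x), ?_⟩
  have e := congrArg (fun w : GL ((Fin t → Fin m) × Fin m) F => w ⬝ₘ x) hc'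
  rw [gl_mul_mulVec, gl_mul_mulVec, hR, hR, Matrix.mulVec_add, add_right_inj] at e
  rw [← e, hx, ctr_tm D, ho', one_smul, smul_smul, mul_inv_cancel₀ hc0, one_smul]

/-- An element fixing a fibre pointwise lies in the stabiliser. -/
theorem Over.fixed_fibre (H : Over q σ f X) (i : Fin (t + 1)) {o : Fin m → F} (ho : o ≠ 0) (hoo : f o o = 0)
    {g : GL (Fin (t + 1) → Fin m) F} (hg : g ∈ X) (hfix : ∀ a, ((J i).symm g) ⬝ₘ (tm a o) = tm a o) :
    g ∈ Ns σ f (t + 1) := by
  have := H.fibre_std i ho hoo (h := (J i).symm g) (by rw [mem_XI, MulEquiv.apply_symm_apply]; exact hg)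
    fun a => ⟨a, hfix a⟩
  rwa [MulEquiv.apply_symm_apply] at this

end Cfsg.Agent.Classical.TensorPowerMax.Unitary
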