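/-
An element of the overgroup carrying a root element into the stabiliser lies in the stabiliser.
-/
import Cfsg.Agent.Lib.Classical.UTPow.Stab
import Cfsg.Agent.Lib.Classical.TensorPowerMax.Swap
import Mathlib.GroupTheory.Abelianization.Defs

set_option autoImplicit false
set_option linter.unusedSectionVars false

namespace Cfsg.Agent.Classical.TensorPowerMax.Unitary

open Matrix Cfsg.Geo
open Cfsg.Agent.Classical
open Cfsg.Agent.Classical.TensorPowerMax
open Cfsg.Agent.Classical.TensorMax (kr kr_val kr_mul kr_one kr_inv)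
open Cfsg.Agent.Classical.TensorMax.Form (UForm tm tf Data kr_tm tf_tm exists_fixed)
open scoped Kronecker

variable {F : Type*} [Field F] [Fintype F] {m t q : ℕ} {σ : F ≃+* F} {f : (Fin m → F) → (Fin m → F) → F}
  {X : Subgroup (GL (Fin (t + 1) → Fin m) F)}

local notation:max g:max " ⬝ₘ " x:max =>
  ((g : GL (Fin m) F) : Matrix (Fin m) (Fin m) F) *ᵥ x

local notation:max g:max " ⬝₃ " x:max =>
  ((g : GL (Fin 3) F) : Matrix (Fin 3) (Fin 3) F) *ᵥ x

/-- A perfect group has no non-trivial homomorphism into a commutative monoid. -/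
theorem eq_one_of_perfect {G M : Type*} [Group G] [CommMonoid M] (hG : (⊤ : Subgroup G) ≤ commutator G)
    (χ : G →* M) (g : G) : χ g = 1 := by
  have h := Abelianization.commutator_subset_ker χ.toHomUnits (hG (Subgroup.mem_top g))
  rw [MonoidHom.mem_ker] at h
  have e := congrArg Units.val h
  rwa [MonoidHom.coe_toHomUnits, Units.val_one] at e

/-- The transvections of the form. -/
def tvSet (σ : F ≃+* F) (f : (Fin m → F) → (Fin m → F) → F) : Set (GL (Fin m) F) :=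
  {b | ∃ (o : Fin m → F) (c : F), o ≠ 0 ∧ f o o = 0 ∧ c ≠ 0 ∧ c + σ c = 0 ∧ ∀ v, b ⬝ₘ v = v + (c * f v o) • o}

theorem tv_mem_su (U : UForm q σ f) {b : GL (Fin m) F} (hb : b ∈ Subgroup.closure (tvSet σ f)) :
    (b : Matrix (Fin m) (Fin m) F).det = 1 ∧ ∀ u v, f (b ⬝ₘ u) (b ⬝ₘ v) = f u v := by
  induction hb using Subgroup.closure_induction with
  | one => exact ⟨by simp, fun u v => by simp⟩
  | mem x hx =>
    obtain ⟨o, c, -, hoo, -, hcs, hx⟩ := hx
    obtain ⟨b, hbd, hbi, -, hb⟩ := exists_tv U hoo hcs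
    rw [show x = b from gl_ext_mulVec fun v => by rw [hx, hb]]
    exact ⟨hbd, hbi⟩
  | mul a b _ _ ha hb => exact ⟨by rw [Units.val_mul, Matrix.det_mul, ha.1, hb.1, one_mul],
      fun u v => by rw [gl_mul_mulVec, gl_mul_mulVec, ha.2, hb.2]⟩
  | inv a _ ha =>
    refine ⟨?_, fun u v => by rw [← ha.2, gl_mulVec_inv_cancel, gl_mulVec_inv_cancel]⟩
    have h : ((a : Matrix (Fin m) (Fin m) F) * ((a⁻¹ : GL (Fin m) F) : Matrix (Fin m) (Fin m) F)).det = 1 := by
      rw [Units.mul_inv, Matrix.det_one]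
    rwa [Matrix.det_mul, ha.1, one_mul] at h

/-- The group of transvections is perfect when a fixed scalar squares away from one. -/
theorem tv_perfect (U : UForm q σ f) {θ : F} (hθ : σ θ = θ) (hθ0 : θ ≠ 0) (hθ1 : θ * θ ≠ 1) :
    (⊤ : Subgroup ↥(Subgroup.closure (tvSet σ f))) ≤ commutator ↥(Subgroup.closure (tvSet σ f)) := by
  rintro ⟨x, hx⟩ -
  induction hx using Subgroup.closure_induction with
  | one => exact one_mem _
  | mul a b ha hb iha ihb => exact (commutator ↥(Subgroup.closure (tvSet σ f))).mul_mem iha ihb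
  | inv a ha iha => exact (commutator ↥(Subgroup.closure (tvSet σ f))).inv_mem iha
  | mem x hx =>
    obtain ⟨o, c, ho, hoo, hc, hcs, hxv⟩ := hx
    obtain ⟨o', hoo', h1, h2⟩ := U.exists_partner ho hoo
    have ho' : o' ≠ 0 := fun e => one_ne_zero (h1.symm.trans (by rw [e, U.refl.zero_left]))
    obtain ⟨s, hs0, hs⟩ := U.sig.exists_skew
    have hσs : σ s = -s := by linear_combination hs
    -- the exchange of the two lines
    have hW : ∀ a : F, a ≠ 0 → a + σ a = 0 → ∃ w ∈ Subgroup.closure (tvSet σ f),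
        w ⬝ₘ o = (-a⁻¹) • o' ∧ w ⬝ₘ o' = a • o := by
      intro a ha has
      have hb : -a⁻¹ + σ (-a⁻¹) = 0 := by
        rw [map_neg, map_inv₀, show σ a = -a by linear_combination has, inv_neg, neg_neg, neg_add_cancel]
      obtain ⟨g, -, -, -, hg⟩ := exists_tv U hoo has
      obtain ⟨k, -, -, -, hk⟩ := exists_tv U hoo' hb
      have hgm : g ∈ Subgroup.closure (tvSet σ f) := Subgroup.subset_closure ⟨o, a, ho, hoo, ha, has, hg⟩
      refine ⟨g * k * g, mul_mem (mul_mem hgm (Subgroup.subset_closure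
        ⟨o', -a⁻¹, ho', hoo', neg_ne_zero.mpr (inv_ne_zero ha), hb, hk⟩)) hgm, ?_, ?_⟩
      · simp only [gl_mul_mulVec, hg, hk, hoo, h1, h2, mul_zero, zero_smul, add_zero, mul_one, Matrix.mulVec_add,
          Matrix.mulVec_smul, U.refl.semi.add_left, U.refl.semi.smul_left, hoo']
        match_scalars <;> field_simp <;> ring
      · simp only [gl_mul_mulVec, hg, hk, hoo, h1, h2, mul_zero, zero_smul, add_zero, mul_one, Matrix.mulVec_add,
          Matrix.mulVec_smul, U.refl.semi.add_left, U.refl.semi.smul_left, hoo']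
        match_scalars <;> field_simp <;> ring
    obtain ⟨w₁, hw₁, hw₁o, hw₁o'⟩ := hW (θ * s) (mul_ne_zero hθ0 hs0) (by rw [map_mul, hθ]; linear_combination θ * hs)
    obtain ⟨w₀, hw₀, hw₀o, hw₀o'⟩ := hW (-s) (neg_ne_zero.mpr hs0) (by rw [map_neg]; linear_combination -hs)
    obtain ⟨τ, hτ⟩ : ∃ τ, τ = w₁ * w₀ := ⟨_, rfl⟩
    have hτm : τ ∈ Subgroup.closure (tvSet σ f) := hτ ▸ mul_mem hw₁ hw₀
    have hτo : τ ⬝ₘ o = θ • o := by
      rw [hτ, gl_mul_mulVec, hw₀o, Matrix.mulVec_smul, hw₁o', smul_smul]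
      congr 1
      field_simp
    obtain ⟨-, hτi⟩ := tv_mem_su U hτm
    have hθ' : θ * θ - 1 ≠ 0 := sub_ne_zero.mpr hθ1
    have hd : c / (θ * θ - 1) + σ (c / (θ * θ - 1)) = 0 := by
      rw [map_div₀, map_sub, map_mul, hθ, map_one, ← add_div, hcs, zero_div]
    obtain ⟨T, -, -, -, hT⟩ := exists_tv U hoo hd
    have hTm : T ∈ Subgroup.closure (tvSet σ f) :=
      Subgroup.subset_closure ⟨o, _, ho, hoo, div_ne_zero hc hθ', hd, hT⟩
    have hconj : ∀ v, (τ * T * τ⁻¹) ⬝ₘ v = v + (θ * θ * (c / (θ * θ - 1)) * f v o) • o := fun v => by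
      rw [gl_mul_mulVec, gl_mul_mulVec, hT, Matrix.mulVec_add, gl_mulVec_inv_cancel, Matrix.mulVec_smul, hτo,
        smul_smul, ← hτi _ o, gl_mulVec_inv_cancel, hτo, U.refl.semi.smul_right, hθ]
      congr 2
      ring
    have e : x = τ * T * τ⁻¹ * T⁻¹ := by
      rw [eq_mul_inv_iff_mul_eq]
      refine gl_ext_mulVec fun v => ?_
      rw [gl_mul_mulVec, hconj, hT, hxv, U.refl.semi.add_left, U.refl.semi.smul_left, hoo, mul_zero, add_zero]
      rw [add_assoc, ← add_smul]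
      congr 2
      have hd' : c / (θ * θ - 1) * (θ * θ - 1) = c := div_mul_cancel₀ c hθ'
      first
        | linear_combination (f v o) * hd'
        | linear_combination -(f v o) * hd'
    have h := Subgroup.commutator_mem_commutator (Subgroup.mem_top (⟨τ, hτm⟩ : ↥(Subgroup.closure (tvSet σ f))))
      (Subgroup.mem_top (⟨T, hTm⟩ : ↥(Subgroup.closure (tvSet σ f))))
    rw [← commutator_def] at h
    convert h using 1
    exact Subtype.ext e

/-- Similitudes with a quadratic scalar shift centralise a root commutator. -/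
theorem exists_commuting_upair (U : UForm q σ f) (hm : m = 3) {c : Matrix (Fin m) (Fin m) F} {s μ : F} (hs : s ≠ 0)
    (hsq : (c - s • 1) * (c - s • 1) = 0) (hμ : ∀ v w, f (c *ᵥ v) (c *ᵥ w) = μ * f v w) :
    ∃ (a b : GL (Fin m) F) (o : Fin m → F) (d : F), ((a : Matrix (Fin m) (Fin m) F).det = 1 ∧
        ∀ u v, f (a ⬝ₘ u) (a ⬝ₘ v) = f u v) ∧
      ((b : Matrix (Fin m) (Fin m) F).det = 1 ∧ ∀ u v, f (b ⬝ₘ u) (b ⬝ₘ v) = f u v) ∧
      o ≠ 0 ∧ f o o = 0 ∧ d ≠ 0 ∧ d + σ d = 0 ∧ (∀ v, (a * b * a⁻¹ * b⁻¹) ⬝ₘ v = v + (d * f v o) • o) ∧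
      (a : Matrix (Fin m) (Fin m) F) * c = c * a ∧ (b : Matrix (Fin m) (Fin m) F) * c = c * b := by
  classical
  subst hm
  obtain ⟨d, hd0, hd⟩ := U.sig.exists_skew
  obtain ⟨N, hN⟩ : ∃ N, N = c - s • 1 := ⟨_, rfl⟩
  rw [← hN] at hsq
  have hc : c = s • 1 + N := by rw [hN, add_sub_cancel]
  suffices h : ∃ (o : Fin 3 → F) (z : GL (Fin 3) F) (c' : F), o ≠ 0 ∧ f o o = 0 ∧
      (∀ v, z ⬝₃ v = v + (c' * f v o) • o) ∧ c = s • (z : Matrix (Fin 3) (Fin 3) F) by
    obtain ⟨o, z, c', ho, hoo, hz, hcz⟩ := h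
    obtain ⟨a, b, ha, hb, hab, hcomm⟩ := exists_siegel_pair U le_rfl ho hoo hd
    obtain ⟨h1, h2⟩ := hcomm z c' hz
    refine ⟨a, b, o, d, ha, hb, ho, hoo, hd0, hd, hab, ?_, ?_⟩
    · rw [hcz, mul_smul_comm, smul_mul_assoc, ← Units.val_mul, h1, Units.val_mul]
    · rw [hcz, mul_smul_comm, smul_mul_assoc, ← Units.val_mul, h2, Units.val_mul]
  by_cases hN0 : N = 0
  · obtain ⟨o, -, ho, hoo⟩ := U.exists_iso (W := ⊤) (by
      rw [finrank_top, Module.finrank_fintype_fun_eq_card, Fintype.card_fin]; omega)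
    exact ⟨o, 1, 0, ho, hoo, fun v => by simp, by rw [hc, hN0, add_zero, Units.val_one]⟩
  obtain ⟨v, w, hv, hw, hwv, hNe⟩ := rank_one_of_sq hsq hN0
  -- the multiplier
  have hμs : μ = s * σ s := by
    obtain ⟨y, hy, hyy⟩ := U.exists_aniso (W := LinearMap.ker (dotProductBilin F F w)) (by
      have := finrank_ker_dot hw; rw [Fintype.card_fin]; omega)
    have hy' : w ⬝ᵥ y = 0 := hy
    have h := hμ y y
    rw [hc, Matrix.add_mulVec, Matrix.smul_mulVec, Matrix.one_mulVec, hNe, Matrix.vecMulVec_mulVec, hy',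
      op_smul_eq_smul, zero_smul, add_zero, U.refl.semi.smul_left, U.refl.semi.smul_right, ← mul_assoc] at h
    exact (mul_right_cancel₀ hyy h).symm
  have hwv' : (s⁻¹ • w) ⬝ᵥ v = 0 := by rw [smul_dotProduct, hwv, smul_zero]
  have hz : c = s • ((tv v (s⁻¹ • w) hwv' : GL (Fin 3) F) : Matrix (Fin 3) (Fin 3) F) := by
    rw [hc, hNe, show ((tv v (s⁻¹ • w) hwv' : GL (Fin 3) F) : Matrix (Fin 3) (Fin 3) F) =
      1 + vecMulVec v (s⁻¹ • w) from rfl, smul_add, Matrix.vecMulVec_smul, smul_smul, mul_inv_cancel₀ hs, one_smul]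
  have hiso : ∀ x y, f ((tv v (s⁻¹ • w) hwv') ⬝₃ x) ((tv v (s⁻¹ • w) hwv') ⬝₃ y) = f x y := fun x y => by
    have h := hμ x y
    rw [hz, Matrix.smul_mulVec, Matrix.smul_mulVec, U.refl.semi.smul_left, U.refl.semi.smul_right, ← mul_assoc, hμs]
      at h
    exact mul_left_cancel₀ (mul_ne_zero hs ((map_ne_zero σ).mpr hs)) h
  have hr : RootAt (0 : Fin 1) (facGL 0 (tv v (s⁻¹ • w) hwv')) :=
    rootAt_fac 0 hv (smul_ne_zero (inv_ne_zero hs) hw) hwv'
  obtain ⟨o, c', ho, hoo, hc'0, hcs', hR⟩ := rootU_of_rootAt (t := 0) U (by norm_num) hr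
    ((J_kr_right (t := 0) 0 (tv v (s⁻¹ • w) hwv')) ▸ (right_mem_ns U 0 (tv_det _ _ hwv') hiso).2)
  obtain ⟨b, -, -, -, hb⟩ := exists_tv U hoo hcs'
  have e := congrArg (fun g : GL (Fin 1 → Fin 3) F => (g : Matrix (Fin 1 → Fin 3) (Fin 1 → Fin 3) F))
    (RootU.eq U hR hb)
  simp only [facGL_val] at e
  refine ⟨o, b, c', ho, hoo, hb, ?_⟩
  rw [hz, facM_inj (by norm_num) 0 e]

/-- Two factors: a root element is not carried to an exchange of the factors. -/
theorem two_factor_false_u {f : (Fin 3 → F) → (Fin 3 → F) → F} (U : UForm q σ f) [CharP F 2] (hq : q ≠ 2)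
    {z z' g : GL (Fin 2 → Fin 3) F} {s : Fin 2} (hz : RootAt s z) {A : Fin 2 → GL (Fin 3) F}
    {π : Equiv.Perm (Fin 2)} (hπ : π.IsSwap) (hz'e : z' = pureGL A * factorPermGL 3 F π) (hz'2 : z' * z' = 1)
    (hz'N : z' ∈ Ns σ f 2)
    (hback : ∀ h ∈ Ns σ f 2, h * z' = z' * h →
      g⁻¹ * h * g ∈ tensorWreathStandard 3 2 F ∧ g⁻¹ * h * g * z = z * (g⁻¹ * h * g)) : False := by
  classical
  haveI : Fact (Nat.Prime 2) := ⟨Nat.prime_two⟩
  obtain ⟨k, hk⟩ : ∃ k, π 0 = k := ⟨_, rfl⟩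
  have hk0 : (0 : Fin 2) ≠ k := by
    obtain ⟨x, y, hxy, rfl⟩ := hπ
    rw [← hk]
    clear hk hz'e
    fin_cases x <;> fin_cases y <;> simp_all
  have hinv : z'⁻¹ = z' := inv_eq_of_mul_eq_one_right hz'2
  obtain ⟨θ, hθ, hθ0, hθ1⟩ := exists_fixed U.sig hq
  have hθ2 : θ * θ ≠ 1 := fun e => by
    rcases mul_self_eq_one_iff.1 e with e | e
    · exact hθ1 e
    · exact hθ1 (e.trans (CharTwo.neg_eq (1 : F)))
  obtain ⟨P, hP⟩ : ∃ P, P = Subgroup.closure (tvSet σ f) := ⟨_, rfl⟩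
  have hperf : (⊤ : Subgroup ↥P) ≤ commutator ↥P := hP ▸ tv_perfect U hθ hθ0 hθ2
  -- the diagonal
  have hcommute : ∀ a b : GL (Fin 3) F, facGL 0 a * (z' * facGL 0 b * z'⁻¹) = z' * facGL 0 b * z'⁻¹ * facGL 0 a := by
    intro a b
    have e : ((z' * facGL 0 b * z'⁻¹ : GL (Fin 2 → Fin 3) F) : Matrix (Fin 2 → Fin 3) (Fin 2 → Fin 3) F) =
        facM k ((A k : Matrix (Fin 3) (Fin 3) F) * (b : Matrix (Fin 3) (Fin 3) F) * (((A k)⁻¹ : GL (Fin 3) F) : Matrix (Fin 3) (Fin 3) F)) := by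
      rw [Units.val_mul, Units.val_mul, facGL_val, hz'e, std_conj_fac, hk, Matrix.mul_assoc, Units.mul_inv,
        Matrix.mul_one]
    refine Units.ext ?_
    rw [Units.val_mul _ (z' * facGL 0 b * z'⁻¹), Units.val_mul (z' * facGL 0 b * z'⁻¹), e, facGL_val,
      facM_commute hk0]
  let δ : GL (Fin 3) F →* GL (Fin 2 → Fin 3) F :=
    { toFun := fun b => facGL 0 b * (z' * facGL 0 b * z'⁻¹)
      map_one' := by rw [map_one, mul_one, mul_inv_cancel, mul_one]
      map_mul' := fun a b => by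
        rw [show facGL 0 a * (z' * facGL 0 a * z'⁻¹) * (facGL 0 b * (z' * facGL 0 b * z'⁻¹)) =
          facGL 0 a * ((z' * facGL 0 a * z'⁻¹) * facGL 0 b) * (z' * facGL 0 b * z'⁻¹) by group, ← hcommute, map_mul]
        group }
  have hδN : ∀ b ∈ P, δ b ∈ Ns σ f 2 ∧ δ b * z' = z' * δ b := fun b hb => by
    obtain ⟨hd, hi⟩ := tv_mem_su U (hP ▸ hb)
    have hm : facGL 0 b ∈ Ns σ f 2 := J_kr_right (t := 1) 0 b ▸ right_mem_ns U 0 hd hi
    refine ⟨mul_mem hm (mul_mem (mul_mem hz'N hm) (inv_mem hz'N)), ?_⟩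
    show facGL 0 b * (z' * facGL 0 b * z'⁻¹) * z' = z' * (facGL 0 b * (z' * facGL 0 b * z'⁻¹))
    conv_lhs => rw [hcommute]
    rw [hinv]
    group
  obtain ⟨fv, lv, hlf, hf, hl, hzeq⟩ := hz.eq
  obtain ⟨q', hq'⟩ : ∃ q' : Fin 2, q' ≠ s := exists_ne s
  -- the shape of an image
  have hE : ∀ h : ↥P, ∃ B : Fin 2 → GL (Fin 3) F, g⁻¹ * δ h * g = pureGL B ∧
      B s * tv fv lv hlf = tv fv lv hlf * B s := by
    intro h
    obtain ⟨hN, hc⟩ := hδN h h.2
    obtain ⟨hst, hcm⟩ := hback _ hN hc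
    obtain ⟨B, τ, he⟩ := std_decomp hst
    have hτs : τ s = s := by
      have h1 : RootAt (τ s) (pureGL B * factorPermGL 3 F τ * z * (pureGL B * factorPermGL 3 F τ)⁻¹) := hz.conj
      rw [← he, hcm, mul_inv_cancel_right] at h1
      exact h1.slot_unique (by norm_num) hz
    have hτ : τ = 1 := by
      refine Equiv.ext fun i => ?_
      rw [Equiv.Perm.one_apply]
      rcases eq_or_ne i s with rfl | hi
      · exact hτs
      · have : τ i ≠ s := fun e => hi (τ.injective (e.trans hτs.symm))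
        omega
    rw [hτ, perm_one, mul_one] at he
    refine ⟨B, he, ?_⟩
    have h1 := hcm
    rw [he, hzeq, show B = s.insertNth (B s) (fun j => B (s.succAbove j)) from (Fin.insertNth_self_removeNth s B).symm,
      ← J_kr_pure (t := 1), ← J_kr_right (t := 1), ← map_mul, ← map_mul, kr_mul, kr_mul, mul_one, one_mul] at h1
    exact kron_left_cancel ((J (F := F) (t := 1) s).injective h1)
  choose B hBe hBc using hE
  -- a basis adapted to the root
  obtain ⟨v₂, hv₂⟩ : ∃ x, lv ⬝ᵥ x = 1 := by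
    obtain ⟨i, hi⟩ := Function.ne_iff.mp hl
    exact ⟨Pi.single i (lv i)⁻¹, by rw [dotProduct_single, mul_inv_cancel₀ hi]⟩
  obtain ⟨v₁, hv₁, hv₁n⟩ : ∃ x ∈ LinearMap.ker (dotProductBilin F F lv), x ∉ Submodule.span F {fv} := by
    by_contra hcon
    push Not at hcon
    have h := Submodule.finrank_mono (show LinearMap.ker (dotProductBilin F F lv) ≤ Submodule.span F {fv} from hcon)
    rw [finrank_span_singleton hf] at h
    have := finrank_ker_dot hl
    omega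
  have hv₁' : lv ⬝ᵥ v₁ = 0 := hv₁
  obtain ⟨Q, hQdef⟩ : ∃ Q : Matrix (Fin 3) (Fin 3) F, Q = Matrix.of fun i j => ![fv i, v₁ i, v₂ i] j := ⟨_, rfl⟩
  have hQv : ∀ x, Q *ᵥ x = x 0 • fv + x 1 • v₁ + x 2 • v₂ := fun x => funext fun i => by
    simp [hQdef, Matrix.mulVec, dotProduct, Fin.sum_univ_three]
    ring
  have hQu : IsUnit Q := Matrix.mulVec_injective_iff_isUnit.mp fun x y e => by
    have h0 : Q *ᵥ (x - y) = 0 := by rw [Matrix.mulVec_sub]; exact sub_eq_zero.mpr e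
    obtain ⟨d, hd⟩ : ∃ d, d = x - y := ⟨_, rfl⟩
    rw [← hd, hQv] at h0
    have h2 : d 2 = 0 := by
      have := congrArg (fun v => lv ⬝ᵥ v) h0
      simpa [dotProduct_add, dotProduct_smul, hlf, hv₁', hv₂] using this
    rw [h2, zero_smul, add_zero] at h0
    have h1 : d 1 = 0 := by
      by_contra h1
      refine hv₁n (Submodule.mem_span_singleton.mpr ⟨-(d 0 / d 1), ?_⟩)
      have e' : (d 0 / d 1) • fv = -v₁ := smul_right_injective _ h1 (by
        show d 1 • ((d 0 / d 1) • fv) = d 1 • (-v₁)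
        rw [smul_smul, mul_div_cancel₀ _ h1, smul_neg]
        exact eq_neg_of_add_eq_zero_left h0)
      rw [neg_smul, e', neg_neg]
    rw [h1, zero_smul, add_zero, smul_eq_zero, or_iff_left hf] at h0
    refine sub_eq_zero.mp (hd ▸ funext fun i => ?_)
    fin_cases i <;> simp [h0, h1, h2]
  obtain ⟨u, hu⟩ := hQu
  obtain ⟨M, hM⟩ : ∃ M : ↥P → Matrix (Fin 3) (Fin 3) F, ∀ h, M h =
      ((u⁻¹ : GL (Fin 3) F) : Matrix (Fin 3) (Fin 3) F) * (B h s : Matrix (Fin 3) (Fin 3) F) *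
        (u : Matrix (Fin 3) (Fin 3) F) := ⟨_, fun _ => rfl⟩
  have hQK : ((u⁻¹ : GL (Fin 3) F) : Matrix (Fin 3) (Fin 3) F) * vecMulVec fv lv * (u : Matrix (Fin 3) (Fin 3) F) =
      Matrix.single 0 2 1 := by
    have e1 : ((u⁻¹ : GL (Fin 3) F) : Matrix (Fin 3) (Fin 3) F) *ᵥ fv = Pi.single 0 1 := by
      have : (u : Matrix (Fin 3) (Fin 3) F) *ᵥ Pi.single 0 1 = fv := by rw [hu, hQv]; simp
      rw [← this, gl_inv_mulVec_cancel]
    have e2 : lv ᵥ* (u : Matrix (Fin 3) (Fin 3) F) = Pi.single 2 1 := funext fun j => by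
      rw [hu, ← dotProduct_single_one (lv ᵥ* Q) j, ← Matrix.dotProduct_mulVec, hQv]
      simp only [dotProduct_add, dotProduct_smul, hlf, hv₁', hv₂]
      fin_cases j <;> simp
    rw [Matrix.mul_vecMulVec, Matrix.vecMulVec_mul, e1, e2, ← Matrix.single_eq_single_vecMulVec_single]
  have hshape : ∀ h, M h 1 0 = 0 ∧ M h 2 0 = 0 ∧ M h 2 1 = 0 ∧ M h 2 2 = M h 0 0 ∧ M h 0 0 ≠ 0 := by
    intro h
    have e : M h * Matrix.single 0 2 1 = Matrix.single 0 2 1 * M h := by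
      have e0 := congrArg (fun g : GL (Fin 3) F => (g : Matrix (Fin 3) (Fin 3) F)) (hBc h)
      simp only [Units.val_mul, show ((tv fv lv hlf : GL (Fin 3) F) : Matrix (Fin 3) (Fin 3) F) =
        1 + vecMulVec fv lv from rfl, mul_add, add_mul, mul_one, one_mul] at e0
      have e1 := add_left_cancel e0
      rw [hM, ← hQK]
      simp only [Matrix.mul_assoc]
      rw [← Matrix.mul_assoc (u : Matrix (Fin 3) (Fin 3) F), Units.mul_inv, Matrix.one_mul,
        ← Matrix.mul_assoc (B h s : Matrix (Fin 3) (Fin 3) F), e1, Matrix.mul_assoc,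
        ← Matrix.mul_assoc (u : Matrix (Fin 3) (Fin 3) F), Units.mul_inv, Matrix.one_mul]
    have h10 := congrFun (congrFun e 1) 2
    have h20 := congrFun (congrFun e 2) 2
    have h21 := congrFun (congrFun e 0) 1
    have h00 := congrFun (congrFun e 0) 2
    simp [Matrix.mul_apply, Fin.sum_univ_three, Matrix.single_apply] at h10 h20 h21 h00
    refine ⟨h10, h20, h21.symm, h00.symm, fun h0 => ?_⟩
    have hMu : IsUnit (M h) := by
      rw [hM]; exact (((u⁻¹).isUnit).mul (B h s).isUnit).mul u.isUnit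
    have := Matrix.mulVec_injective_iff_isUnit.mpr hMu (a₁ := (Pi.single 0 1 : Fin 3 → F)) (a₂ := 0) (by
      funext i; fin_cases i <;> simp [Matrix.mulVec_single, h0, h10, h20])
    simpa using congrFun this 0
  have hmul : ∀ h h', ∃ c : F, c ≠ 0 ∧ M h * M h' = c • M (h * h') := by
    intro h h'
    have e : pureGL ((B (h * h'))⁻¹ * (B h * B h')) = 1 := by
      rw [map_mul, map_inv, map_mul, ← hBe, ← hBe, ← hBe, Subgroup.coe_mul, map_mul]
      group
    obtain ⟨c, hc⟩ := pureGL_eq_one (by norm_num) e s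
    rw [Pi.mul_apply, Pi.mul_apply, Pi.inv_apply, Units.val_mul] at hc
    have hc' : (B h s : Matrix (Fin 3) (Fin 3) F) * B h' s = c • (B (h * h') s : Matrix (Fin 3) (Fin 3) F) := by
      have e1 := congrArg (fun N => (B (h * h') s : Matrix (Fin 3) (Fin 3) F) * N) hc
      rw [← Matrix.mul_assoc, Units.mul_inv, Matrix.one_mul, Matrix.mul_smul, Matrix.mul_one, Units.val_mul] at e1
      exact e1
    refine ⟨c, fun h0 => ?_, ?_⟩
    · rw [h0, zero_smul] at hc'
      exact not_isUnit_zero (hc' ▸ (B h s).isUnit.mul (B h' s).isUnit)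
    · rw [hM, hM, hM]
      simp only [Matrix.mul_assoc]
      rw [← Matrix.mul_assoc (u : Matrix (Fin 3) (Fin 3) F), Units.mul_inv, Matrix.one_mul,
        ← Matrix.mul_assoc (B h s : Matrix (Fin 3) (Fin 3) F), hc', Matrix.smul_mul, Matrix.mul_smul]
  have hprod : ∀ h h', ∃ c : F, c ≠ 0 ∧
      c * M (h * h') 0 0 = M h 0 0 * M h' 0 0 ∧ c * M (h * h') 1 1 = M h 1 1 * M h' 1 1 ∧
      c * M (h * h') 0 1 = M h 0 0 * M h' 0 1 + M h 0 1 * M h' 1 1 ∧
      c * M (h * h') 1 2 = M h 1 1 * M h' 1 2 + M h 1 2 * M h' 2 2 ∧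
      c * M (h * h') 0 2 = M h 0 0 * M h' 0 2 + M h 0 1 * M h' 1 2 + M h 0 2 * M h' 2 2 := by
    intro h h'
    obtain ⟨c, hc, e⟩ := hmul h h'
    obtain ⟨a1, a2, a3, -, -⟩ := hshape h
    obtain ⟨b1, b2, b3, -, -⟩ := hshape h'
    have key : ∀ i j, c * M (h * h') i j = M h i 0 * M h' 0 j + M h i 1 * M h' 1 j + M h i 2 * M h' 2 j := fun i j => by
      have := congrFun (congrFun e i) j
      rw [Matrix.mul_apply, Fin.sum_univ_three, Matrix.smul_apply, smul_eq_mul] at this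
      exact this.symm
    exact ⟨c, hc, by rw [key, b1, b2]; ring, by rw [key, a1, b3]; ring, by rw [key, b3]; ring,
      by rw [key, a1]; ring, by rw [key]⟩
  have h00 : ∀ h, M h 0 0 ≠ 0 := fun h => (hshape h).2.2.2.2
  have h11 : ∀ h, M h 1 1 = M h 0 0 := fun h => by
    have h1 : M 1 1 1 / M 1 0 0 = 1 := by
      obtain ⟨c, hc, e0, e1, -⟩ := hprod 1 1
      rw [one_mul] at e0 e1
      have hc0 : c = M 1 0 0 := mul_right_cancel₀ (h00 1) e0
      rw [hc0] at e1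
      have hne : M 1 1 1 ≠ 0 := fun h0 => by
        have hMu : IsUnit (M 1) := by
          rw [hM]; exact (((u⁻¹).isUnit).mul (B 1 s).isUnit).mul u.isUnit
        have hd := ((Matrix.isUnit_iff_isUnit_det _).1 hMu).ne_zero
        obtain ⟨a1, a2, a3, -, -⟩ := hshape 1
        exact hd (by rw [Matrix.det_fin_three, a1, a2, a3, h0]; ring)
      rw [mul_right_cancel₀ hne e1, div_self hne]
    let χ : ↥P →* F :=
      { toFun := fun h => M h 1 1 / M h 0 0
        map_one' := h1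
        map_mul' := fun a b => by
          obtain ⟨c, hc, e0, e1, -⟩ := hprod a b
          have := h00 (a * b)
          rw [div_mul_div_comm, ← e0, ← e1, mul_div_mul_left _ _ hc] }
    have h2 : M h 1 1 / M h 0 0 = 1 := eq_one_of_perfect hperf χ h
    exact (div_eq_one_iff_eq (h00 h)).1 h2
  have hadd : ∀ i j, (∀ h h', ∃ c : F, c ≠ 0 ∧ c * M (h * h') 0 0 = M h 0 0 * M h' 0 0 ∧
      c * M (h * h') i j = M h 0 0 * M h' i j + M h i j * M h' 0 0) → ∀ h, M h i j = 0 := by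
    intro i j hij h
    have hstep : ∀ a b, M (a * b) i j / M (a * b) 0 0 = M a i j / M a 0 0 + M b i j / M b 0 0 := fun a b => by
      obtain ⟨c, hc, e0, e1⟩ := hij a b
      rw [← mul_div_mul_left _ _ hc, e1, e0, div_add_div _ _ (h00 a) (h00 b)]
      congr 1
      ring
    let χ : ↥P →* Multiplicative F := MonoidHom.mk' (fun h => Multiplicative.ofAdd (M h i j / M h 0 0)) fun a b => by
      rw [← ofAdd_add, hstep]
    have h2 : Multiplicative.ofAdd (M h i j / M h 0 0) = 1 := eq_one_of_perfect hperf χ h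
    exact (div_eq_zero_iff.1 (Multiplicative.ofAdd.injective (h2.trans ofAdd_zero.symm))).resolve_right (h00 h)
  have h01 : ∀ h, M h 0 1 = 0 := hadd 0 1 fun h h' => by
    obtain ⟨c, hc, e0, -, e2, -⟩ := hprod h h'
    exact ⟨c, hc, e0, by rw [e2, h11]⟩
  have h12 : ∀ h, M h 1 2 = 0 := hadd 1 2 fun h h' => by
    obtain ⟨c, hc, e0, -, -, e3, -⟩ := hprod h h'
    exact ⟨c, hc, e0, by rw [e3, h11, (hshape h').2.2.2.1]⟩
  have h02 : ∀ h, M h 0 2 = 0 := hadd 0 2 fun h h' => by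
    obtain ⟨c, hc, e0, -, -, -, e4⟩ := hprod h h'
    exact ⟨c, hc, e0, by rw [e4, h01, (hshape h').2.2.2.1]; ring⟩
  have hscal : ∀ h, ∃ c : F, (B h s : Matrix (Fin 3) (Fin 3) F) = c • 1 := fun h => by
    refine ⟨M h 0 0, ?_⟩
    have e : M h = M h 0 0 • 1 := by
      obtain ⟨a1, a2, a3, a4, -⟩ := hshape h
      ext i j
      fin_cases i <;> fin_cases j <;> simp [a1, a2, a3, a4, h11, h01, h12, h02]
    have e2 := congrArg (fun N => (u : Matrix (Fin 3) (Fin 3) F) * N * ((u⁻¹ : GL (Fin 3) F) : Matrix (Fin 3) (Fin 3) F)) e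
    simp only [hM h] at e2 ⊢
    rw [Matrix.mul_smul, Matrix.mul_one, Matrix.smul_mul, Units.mul_inv] at e2
    simpa [Matrix.mul_assoc] using e2
  -- a diagonal root pair
  obtain ⟨o, -, ho, hoo⟩ := U.exists_iso (W := ⊤) (by
    rw [finrank_top, Module.finrank_fintype_fun_eq_card, Fintype.card_fin]; omega)
  obtain ⟨d, hd0, hd⟩ := U.sig.exists_skew
  obtain ⟨b, -, -, hbm, hb⟩ := exists_tv U hoo hd
  obtain ⟨h₀, hh₀⟩ : ∃ h₀ : ↥P, (h₀ : GL (Fin 3) F) = b :=
    ⟨⟨b, hP ▸ Subgroup.subset_closure ⟨o, d, ho, hoo, hd0, hd, hb⟩⟩, rfl⟩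
  obtain ⟨r, hr⟩ : ∃ r, r = facGL (0 : Fin 2) b := ⟨_, rfl⟩
  have hr0 : RootAt 0 r := ⟨o, d • fl f o, ho, smul_ne_zero hd0 (fl_ne_zero U ho),
    by rw [smul_dotProduct, fl_dot U, hoo, smul_zero], by rw [hr, facGL_val, hbm]⟩
  have hrk : RootAt k (z' * r * z'⁻¹) := by rw [hz'e, ← hk]; exact hr0.conj
  have hh2 : ∀ {i : Fin 2} {h : GL (Fin 2 → Fin 3) F}, RootAt i h → h * h = 1 := fun {i h} hh => Units.ext (by
    have e := hh.sq
    rw [← pow_two, sub_pow_char_of_commute (p := 2) (Commute.one_right _), one_pow, sub_eq_zero, pow_two] at e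
    rw [Units.val_mul, e, Units.val_one])
  obtain ⟨D, hD⟩ : ∃ D, D = r * (z' * r * z'⁻¹) := ⟨_, rfl⟩
  have hDδ : δ h₀ = D := by rw [hD, hr, hh₀]; rfl
  have hDsq : ((D : Matrix (Fin 2 → Fin 3) (Fin 2 → Fin 3) F) - 1) *
      ((D : Matrix (Fin 2 → Fin 3) (Fin 2 → Fin 3) F) - 1) = 0 := by
    rw [← pow_two, sub_pow_char_of_commute (p := 2) (Commute.one_right _), one_pow, sub_eq_zero]
    have e := hr0.commute hk0 hrk
    have hDD : D * D = 1 := by
      rw [hD, show ∀ x y : GL (Fin 2 → Fin 3) F, x * y * (x * y) = x * (y * x) * y from fun x y => by group, ← e,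
        show ∀ x y : GL (Fin 2 → Fin 3) F, x * (x * y) * y = (x * x) * (y * y) from fun x y => by group,
        hh2 hr0, hh2 hrk, mul_one]
    rw [pow_two, ← Units.val_mul, hDD, Units.val_one]
  have hDne : D ≠ 1 := fun e => by
    rw [hD] at e
    have e' : z' * r * z'⁻¹ = r⁻¹ := eq_inv_of_mul_eq_one_right e
    rw [inv_eq_of_mul_eq_one_right (hh2 hr0)] at e'
    exact hk0 (hr0.slot_unique (by norm_num) (e' ▸ hrk))
  obtain ⟨c, hc⟩ := hscal h₀
  have hc0 : c ≠ 0 := fun h0 => by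
    rw [h0, zero_smul] at hc
    exact not_isUnit_zero (hc ▸ (B h₀ s).isUnit)
  let sc : GL (Fin 3) F := Units.map (Matrix.scalar (Fin 3) : F →+* Matrix (Fin 3) (Fin 3) F).toMonoidHom (Units.mk0 c hc0)
  obtain ⟨E, hEdef⟩ : ∃ E, E = g⁻¹ * D * g := ⟨_, rfl⟩
  have hEq : E = facGL q' (sc * B h₀ q') := by
    refine Units.ext (Matrix.ext fun x y => ?_)
    rw [hEdef, ← hDδ, hBe, pureGL_val, facGL_val, facM_apply]
    simp only [pureM, Matrix.of_apply]
    rw [← Finset.mul_prod_erase Finset.univ _ (Finset.mem_univ q'),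
      show (Finset.univ : Finset (Fin 2)).erase q' = {s} from Finset.ext fun i => by simp; omega, Finset.prod_singleton,
      hc, Units.val_mul, Matrix.smul_apply, Matrix.one_apply, smul_eq_mul]
    simp only [sc, Units.coe_map, RingHom.toMonoidHom_eq_coe, MonoidHom.coe_coe, Units.val_mk0, Matrix.scalar_apply,
      Matrix.diagonal_mul]
    by_cases hxy : x s = y s
    · rw [if_pos hxy, if_pos fun j hj => (show j = s by omega) ▸ hxy]
      ring
    · rw [if_neg hxy, if_neg fun h => hxy (h s (Ne.symm hq')), mul_zero, mul_zero]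
  have hconj : D = g * E * g⁻¹ := by rw [hEdef]; group
  have hEsq : ((E : Matrix (Fin 2 → Fin 3) (Fin 2 → Fin 3) F) - 1) *
      ((E : Matrix (Fin 2 → Fin 3) (Fin 2 → Fin 3) F) - 1) = 0 := by
    have := conj_sq g⁻¹ _ hDsq
    rwa [inv_inv, ← hEdef] at this
  obtain ⟨N, hN⟩ : ∃ N, N = ((sc * B h₀ q' : GL (Fin 3) F) : Matrix (Fin 3) (Fin 3) F) - 1 := ⟨_, rfl⟩
  have hEv : (E : Matrix (Fin 2 → Fin 3) (Fin 2 → Fin 3) F) - 1 = facM q' N := by
    rw [hEq, facGL_val, hN, sub_eq_add_neg (b := (1 : Matrix (Fin 3) (Fin 3) F)),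
      show -(1 : Matrix (Fin 3) (Fin 3) F) = (-1 : F) • 1 by rw [neg_one_smul], facM_add, facM_smul, facM_one,
      neg_one_smul, sub_eq_add_neg]
  have hN2 : N * N = 0 := by
    refine facM_inj (F := F) (by norm_num) q' ?_
    rw [← facM_mul, ← hEv, hEsq]
    ext x y; simp [facM_apply]
  have hN0 : N ≠ 0 := fun e => by
    refine hDne ?_
    have : E = 1 := Units.ext (sub_eq_zero.1 (by rw [Units.val_one, hEv, e]; ext x y; simp [facM_apply]))
    rw [hconj, this, mul_one, mul_inv_cancel]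
  obtain ⟨v, w, hv, hw, -, hNe⟩ := rank_one_of_sq hN2 hN0
  rcases rank_two_roots 2 hk0 hr0 hrk with h | h
  · have hrank : ((D : Matrix (Fin 2 → Fin 3) (Fin 2 → Fin 3) F) - 1).rank = 3 := by
      rw [hconj, rank_conj, hEv, hNe, rank_facM (t := 1) (by norm_num) q' hv hw, pow_one]
    rw [hD] at hrank
    omega
  · exact h (hD ▸ hDsq)

/-- Roots going to roots. -/
theorem Over.moves_root (H : Over q σ f X) {g z : GL (Fin (t + 1) → Fin m) F} (hg : g ∈ X) (hz : URoot σ f z)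
    (hz' : URoot σ f (g * z * g⁻¹)) : g ∈ Ns σ f (t + 1) := by
  classical
  have hm := H.hm
  have U := H.uf
  obtain ⟨p, hp⟩ := CharP.exists F
  haveI : Fact p.Prime := ⟨CharP.char_is_prime F p⟩
  obtain ⟨s, hzs⟩ := hz
  refine ⟨mem_std_of_uroots U hm p g ?_, H.sl hg⟩
  have hroot : ∀ (i : Fin (t + 1)) (z₁ : GL (Fin (t + 1) → Fin m) F) (s₁ : Fin (t + 1)), RootU σ f s₁ z₁ →
      URoot σ f (g * z₁ * g⁻¹) → i ≠ s₁ → ∀ w, RootU σ f i w → URoot σ f (g * w * g⁻¹) := by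
    intro i z₁ s₁ h₁ h₁' his w hw
    obtain ⟨o, c, ho, hoo, -, hcs, hR⟩ := id hw
    obtain ⟨a, b, ⟨had, hai⟩, ⟨hbd, hbi⟩, hab, -⟩ := exists_siegel_pair U hm ho hoo hcs
    obtain ⟨f₁, l₁, -, -, -, hz₁v⟩ := h₁.rootAt U
    have hcm : ∀ x : GL (Fin m) F, facGL i x * z₁ = z₁ * facGL i x := fun x => Units.ext (by
      rw [Units.val_mul, Units.val_mul, facGL_val, hz₁v, facM_commute his])
    have hmem : ∀ x : GL (Fin m) F, (x : Matrix (Fin m) (Fin m) F).det = 1 →
        (∀ u v, f (x ⬝ₘ u) (x ⬝ₘ v) = f u v) → g * facGL i x * g⁻¹ ∈ Ns σ f (t + 1) := fun x hxd hxi =>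
      H.central h₁' (mul_mem (mul_mem hg (H.le (J_kr_right i x ▸ right_mem_ns U i hxd hxi))) (inv_mem hg))
        (conj_comm g (hcm x))
    have hwX : g * w * g⁻¹ ∈ X := mul_mem (mul_mem hg (H.le (hw.mem_ns U))) (inv_mem hg)
    refine uroot_of_isRoot U (by omega) ?_ (H.sl hwX)
    refine root_of_commutator p hm (hmem a had hai).1 (hmem b hbd hbi).1 ?_ (conj_sq g w (hw.rootAt U).sq)
      (by rw [rank_conj, (hw.rootAt U).rank (by omega)])
    rw [RootU.eq U hR hab, map_mul, map_mul, map_mul, map_inv, map_inv]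
    group
  intro i w hw
  by_cases his : i = s
  · obtain ⟨k, hk⟩ : ∃ k, k ≠ s := by
      haveI : Nontrivial (Fin (t + 1)) := Fin.nontrivial_iff_two_le.2 (by have := H.ht; omega)
      exact exists_ne s
    obtain ⟨o, -, ho, hoo⟩ := U.exists_iso (W := ⊤) (by
      rw [finrank_top, Module.finrank_fintype_fun_eq_card, Fintype.card_fin]; omega)
    obtain ⟨c, hc, hcs⟩ := U.sig.exists_skew
    obtain ⟨w₁, -, -, hw₁⟩ := exists_rootU (t := t) U k ho hoo hc hcs
    exact (hroot i w₁ k hw₁ (hroot k z s hzs hz' hk w₁ hw₁) (his ▸ Ne.symm hk) w hw).isRoot U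
  · exact (hroot i z s hzs hz' his w hw).isRoot U

/-- An element carrying a root element into the stabiliser lies in the stabiliser. -/
theorem Over.moves (H : Over q σ f X) {g z : GL (Fin (t + 1) → Fin m) F} (hg : g ∈ X) (hz : URoot σ f z)
    (hz' : g * z * g⁻¹ ∈ Ns σ f (t + 1)) : g ∈ Ns σ f (t + 1) := by
  classical
  have hm := H.hm
  have U := H.uf
  obtain ⟨p, hp⟩ := CharP.exists F
  haveI : Fact p.Prime := ⟨CharP.char_is_prime F p⟩
  have hprime : p.Prime := Fact.out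
  obtain ⟨z', hz'e⟩ : ∃ z', z' = g * z * g⁻¹ := ⟨_, rfl⟩
  have hzI := hz.isRoot U
  obtain ⟨s, hzs⟩ := hzI
  rw [← hz'e] at hz'
  have hne : z' ≠ 1 := fun e => hzs.not_scalar (by omega) 1 (by
    have e' : z = 1 := by
      rw [show z = g⁻¹ * z' * g by rw [hz'e]; group, e]; group
    rw [e', Units.val_one, one_smul])
  have hsq : ((z' : Matrix (Fin (t + 1) → Fin m) (Fin (t + 1) → Fin m) F) - 1) *
      ((z' : Matrix (Fin (t + 1) → Fin m) (Fin (t + 1) → Fin m) F) - 1) = 0 := hz'e ▸ conj_sq g z hzs.sq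
  rcases classify p hm hz'.1 hsq hne (by rw [hz'e, rank_conj, hzs.rank (by omega)]) with h | ⟨hm3, A, π, hπ, he⟩
  · exact H.moves_root hg hz (hz'e ▸ uroot_of_isRoot U (by omega) h hz'.2)
  exfalso
  obtain ⟨χ, hχ⟩ := std_sign (F := F) (t := t + 1) (m := m) (by omega)
  haveI : Nonempty (Fin (t + 1) → Fin m) := ⟨fun _ => ⟨0, by omega⟩⟩
  have hzp : z' ^ p = 1 := by
    refine Units.ext ?_
    have e : ((z' : Matrix (Fin (t + 1) → Fin m) (Fin (t + 1) → Fin m) F) - 1) ^ p = 0 := by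
      rw [show p = 2 + (p - 2) by have := hprime.two_le; omega, pow_add, pow_two, hsq, zero_mul]
    rw [sub_pow_char_of_commute (p := p) (Commute.one_right _), one_pow, sub_eq_zero] at e
    rw [Units.val_pow_eq_pow_val, e, Units.val_one]
  have hp2 : p = 2 := by
    by_contra hne2
    have hodd : Odd p := hprime.odd_of_ne_two hne2
    have h1 := congrArg χ (show (⟨z', hz'.1⟩ : ↥(tensorWreathStandard m (t + 1) F)) ^ p = 1 from Subtype.ext hzp)
    rw [map_pow, map_one, hχ ⟨z', hz'.1⟩ A π he, hπ.sign_eq, hodd.neg_one_pow] at h1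
    exact absurd h1 (by decide)
  subst hp2 hm3
  have hq2 : q ≠ 2 := fun e => H.hex ⟨e, rfl⟩
  have hz'2 : z' * z' = 1 := by rw [← pow_two]; exact hzp
  have hback : ∀ h ∈ Ns σ f (t + 1), h * z' = z' * h →
      g⁻¹ * h * g ∈ Ns σ f (t + 1) ∧ g⁻¹ * h * g * z = z * (g⁻¹ * h * g) := by
    intro h hh hc
    have hc' : g⁻¹ * h * g * z = z * (g⁻¹ * h * g) := by
      calc g⁻¹ * h * g * z = g⁻¹ * (h * z') * g := by rw [hz'e]; group
        _ = _ := by rw [hc, hz'e]; group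
    exact ⟨H.central hz (mul_mem (mul_mem (inv_mem hg) (H.le hh)) hg) hc', hc'⟩
  rcases swap_fixes_or hπ with ⟨l, hl⟩ | rfl
  · obtain ⟨x, y, hxy, hπe⟩ := hπ
    have hπ2 : π * π = 1 := by rw [hπe, Equiv.swap_mul_self]
    obtain ⟨d, hd⟩ : ∃ d : F, (A l : Matrix (Fin 3) (Fin 3) F) * A l = d • 1 := by
      have e := hz'2
      rw [he, mul_assoc, ← mul_assoc (factorPermGL 3 F π), perm_pure, mul_assoc, perm_mul, hπ2, perm_one, mul_one,
        ← map_mul] at e
      obtain ⟨d, hd⟩ := pureGL_eq_one (by norm_num) e l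
      rw [Pi.mul_apply, Units.val_mul, show π.symm l = l by rw [Equiv.symm_apply_eq, hl]] at hd
      exact ⟨d, hd⟩
    obtain ⟨s₀, hs₀⟩ := exists_sqrt_shift hd
    have hs : s₀ ≠ 0 := fun e0 => by
      rw [e0, zero_smul, sub_zero] at hs₀
      exact not_isUnit_zero (hs₀ ▸ (A l).isUnit.mul (A l).isUnit)
    -- the fixed factor is a similitude
    obtain ⟨μ, hμ⟩ : ∃ μ, ∀ v w, f ((A l : Matrix (Fin 3) (Fin 3) F) *ᵥ v) ((A l : Matrix (Fin 3) (Fin 3) F) *ᵥ w) =
        μ * f v w := by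
      obtain ⟨a, ha⟩ : ∃ a : GL (Fin t → Fin 3) F, a = pureGL fun j => A (l.succAbove j) := ⟨_, rfl⟩
      have hAiso : ∀ x y, tp σ f (t + 1) ((pureGL A : Matrix (Fin (t + 1) → Fin 3) (Fin (t + 1) → Fin 3) F) *ᵥ x)
          ((pureGL A : Matrix (Fin (t + 1) → Fin 3) (Fin (t + 1) → Fin 3) F) *ᵥ y) = tp σ f (t + 1) x y := fun x y => by
        obtain ⟨P, hP⟩ : ∃ P, P = factorPermGL 3 F π := ⟨_, rfl⟩
        have e := hz'.2.2 (((P⁻¹ : GL (Fin (t + 1) → Fin 3) F) : Matrix (Fin (t + 1) → Fin 3) (Fin (t + 1) → Fin 3) F) *ᵥ x)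
          (((P⁻¹ : GL (Fin (t + 1) → Fin 3) F) : Matrix (Fin (t + 1) → Fin 3) (Fin (t + 1) → Fin 3) F) *ᵥ y)
        rw [he, ← hP, gl_mul_mulVec, gl_mul_mulVec, gl_mulVec_inv_cancel, gl_mulVec_inv_cancel] at e
        rw [e]
        conv_rhs => rw [← gl_mulVec_inv_cancel P x, ← gl_mulVec_inv_cancel P y]
        subst hP
        exact (perm_tp (σ := σ) (f := f) π _ _).symm
      have hJ : pureGL A = J l (kr a (A l)) := by
        rw [ha, J_kr_pure]
        congr 1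
        exact (Fin.insertNth_self_removeNth l A).symm
      obtain ⟨x, hx⟩ : ∃ x : (Fin t → Fin 3) → F, x ≠ 0 := ⟨Pi.single (fun _ => 0) 1, by simp⟩
      obtain ⟨y, hy⟩ := ((tp_uform U t).refl.nondeg x hx).2
      obtain ⟨ν, hν⟩ : ∃ ν, ν = tp σ f t ((a : Matrix (Fin t → Fin 3) (Fin t → Fin 3) F) *ᵥ x)
          ((a : Matrix (Fin t → Fin 3) (Fin t → Fin 3) F) *ᵥ y) := ⟨_, rfl⟩
      have key : ∀ v w, tp σ f t x y * f v w =
          ν * f ((A l : Matrix (Fin 3) (Fin 3) F) *ᵥ v) ((A l : Matrix (Fin 3) (Fin 3) F) *ᵥ w) := fun v w => by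
        have e := hAiso ((tm x v) ∘ (spl l).symm) ((tm y w) ∘ (spl l).symm)
        rw [hJ, tp_spl l, tp_spl l, J_mulVec, J_mulVec] at e
        simp only [Function.comp_assoc, Equiv.symm_comp_self, Function.comp_id] at e
        rw [kr_tm, kr_tm, tf_tm (data U t), tf_tm (data U t), ← hν] at e
        exact e.symm
      have hν0 : ν ≠ 0 := fun e0 => by
        obtain ⟨v, hv⟩ : ∃ v : Fin 3 → F, v ≠ 0 := ⟨Pi.single 0 1, by simp⟩
        obtain ⟨w, hw⟩ := (U.refl.nondeg v hv).2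
        have := key v w
        rw [e0, zero_mul] at this
        exact mul_ne_zero hy hw this
      exact ⟨tp σ f t x y / ν, fun v w => by rw [div_mul_eq_mul_div, eq_div_iff hν0, mul_comm _ ν, key]⟩
    obtain ⟨a, b, o, d', ⟨had, hai⟩, ⟨hbd, hbi⟩, ho, hoo, hd'0, hd's, hab, hca, hcb⟩ :=
      exists_commuting_upair U rfl hs hs₀ hμ
    have hcz : ∀ u : GL (Fin 3) F, (u : Matrix (Fin 3) (Fin 3) F) * (A l : Matrix (Fin 3) (Fin 3) F) =
        (A l : Matrix (Fin 3) (Fin 3) F) * u → facGL l u * z' = z' * facGL l u := by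
      intro u hc
      refine Units.ext ?_
      rw [Units.val_mul, Units.val_mul, facGL_val, he, std_conj_fac, hl]
      congr 2
      rw [← hc, mul_assoc, Units.mul_inv, mul_one]
    obtain ⟨hi₁, -⟩ := hback _ (J_kr_right l a ▸ right_mem_ns U l had hai) (hcz a hca)
    obtain ⟨hi₂, -⟩ := hback _ (J_kr_right l b ▸ right_mem_ns U l hbd hbi) (hcz b hcb)
    obtain ⟨w, -, hwR, hw⟩ := exists_rootU (t := t) U l ho hoo hd'0 hd's
    have hwe : w = facGL l (a * b * a⁻¹ * b⁻¹) := RootU.eq U hwR hab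
    have himg : URoot σ f (g⁻¹ * w * g) := by
      refine uroot_of_isRoot U (by norm_num) (root_of_commutator 2 le_rfl hi₁.1 hi₂.1 ?_ ?_ ?_)
        (H.sl (mul_mem (mul_mem (inv_mem hg) (H.le (hw.mem_ns U))) hg))
      · rw [hwe, map_mul, map_mul, map_mul, map_inv, map_inv]
        group
      · have := conj_sq g⁻¹ w (hw.rootAt U).sq
        rwa [inv_inv] at this
      · have := rank_conj g⁻¹ w
        rw [inv_inv] at this
        rw [this, (hw.rootAt U).rank (by norm_num)]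
    have hgN := H.moves_root hg himg (by
      rw [show g * (g⁻¹ * w * g) * g⁻¹ = w by group]; exact ⟨l, hw⟩)
    obtain ⟨k, hk⟩ := IsRoot.conj ⟨s, hzs⟩ hgN.1
    rw [← hz'e] at hk
    obtain ⟨f', l'', hlf', -, -, hk'⟩ := hk.eq
    have : π = 1 := perm_unique (by norm_num) (A := A) (B := Pi.mulSingle k (tv f' l'' hlf')) (τ := 1) (by
      rw [← he, hk', perm_one, mul_one]; rfl)
    rw [this] at hπe
    have h1 := congrArg (fun τ : Equiv.Perm (Fin (t + 1)) => τ x) hπe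
    simp only [Equiv.Perm.one_apply, Equiv.swap_apply_left] at h1
    exact hxy h1
  · exact two_factor_false_u U hq2 (g := g) hzs hπ he hz'2 hz' fun h hh hc => ⟨(hback h hh hc).1.1, (hback h hh hc).2⟩

end Cfsg.Agent.Classical.TensorPowerMax.Unitary
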