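/-
Fibres of the tensor power: perpendiculars, root centres, and elements carrying one fibre to another.
-/
import Cfsg.Agent.Lib.Classical.UTPow.Moves
import Cfsg.Agent.Lib.Classical.TensorPowerMax.Pair

set_option autoImplicit false
set_option linter.unusedSectionVars false

namespace Cfsg.Agent.Classical.TensorPowerMax.Unitary

open Matrix Cfsg.Geo
open Cfsg.Agent.Classical
open Cfsg.Agent.Classical.TensorPowerMax
open Cfsg.Agent.Classical.TensorMax (kr kr_val kr_mul kr_one kr_inv)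
open Cfsg.Agent.Classical.TensorMax.Form (UForm tm tf ctr Data Rt row kr_tm tm_apply tf_tm tf_tm_right)
open scoped Kronecker

variable {F : Type*} [Field F] [Fintype F] {m t q : ℕ} {σ : F ≃+* F} {f : (Fin m → F) → (Fin m → F) → F}
  {X : Subgroup (GL (Fin (t + 1) → Fin m) F)}

local notation:max g:max " ⬝ₘ " x:max =>
  ((g : GL (Fin (t + 1) → Fin m) F) : Matrix (Fin (t + 1) → Fin m) (Fin (t + 1) → Fin m) F) *ᵥ x

theorem tens_tm (i : Fin (t + 1)) (a : (Fin t → Fin m) → F) (w : Fin m → F) :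
    tens i a w = tm a w ∘ (spl i).symm := by
  funext y
  obtain ⟨⟨x, k⟩, rfl⟩ := (spl i).surjective y
  simp [tens, tm_apply, spl]

theorem tens_add_left (i : Fin (t + 1)) (a a' : (Fin t → Fin m) → F) (w : Fin m → F) :
    tens i (a + a') w = tens i a w + tens i a' w := funext fun x => by simp [tens]; ring

theorem tens_add_right (i : Fin (t + 1)) (a : (Fin t → Fin m) → F) (w w' : Fin m → F) :
    tens i a (w + w') = tens i a w + tens i a w' := funext fun x => by simp [tens]; ring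

theorem tens_smul_left (i : Fin (t + 1)) (r : F) (a : (Fin t → Fin m) → F) (w : Fin m → F) :
    tens i (r • a) w = r • tens i a w := funext fun x => by simp [tens]; ring

theorem tens_smul_right (i : Fin (t + 1)) (r : F) (a : (Fin t → Fin m) → F) (w : Fin m → F) :
    tens i a (r • w) = r • tens i a w := funext fun x => by simp [tens]; ring

theorem tens_zero_left (i : Fin (t + 1)) (w : Fin m → F) : tens i (0 : (Fin t → Fin m) → F) w = 0 :=
  funext fun x => by simp [tens]

theorem tens_indep {i : Fin (t + 1)} {o h : Fin m → F} (ho : o ≠ 0) (hh : h ∉ Submodule.span F {o})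
    {u v : (Fin t → Fin m) → F} (e : tens i u o + tens i v h = 0) : u = 0 ∧ v = 0 := by
  have hx : ∀ x, u x • o + v x • h = 0 := fun x => by
    have := congrArg (fun w => slice i w x) e
    simp only [map_add, map_zero, slice_tens] at this
    exact this
  have hv : v = 0 := funext fun x => by
    by_contra hne
    refine hh (Submodule.mem_span_singleton.2 ⟨-(u x / v x), ?_⟩)
    have := hx x
    refine smul_right_injective (Fin m → F) hne ?_
    show v x • -(u x / v x) • o = v x • h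
    rw [smul_smul, mul_neg, mul_div_cancel₀ _ hne]
    linear_combination (norm := module) -this
  refine ⟨funext fun x => ?_, hv⟩
  have := hx x
  rw [hv, Pi.zero_apply, zero_smul, add_zero, smul_eq_zero, or_iff_left ho] at this
  exact this

theorem tens_ext {i : Fin (t + 1)} {o h : Fin m → F} (ho : o ≠ 0) (hh : h ∉ Submodule.span F {o})
    {u v u' v' : (Fin t → Fin m) → F} (e : tens i u o + tens i v h = tens i u' o + tens i v' h) : u = u' ∧ v = v' := by
  have := tens_indep (i := i) ho hh (u := u - u') (v := v - v') (by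
    rw [show tens i (u - u') o = tens i u o - tens i u' o from funext fun x => by simp [tens]; ring,
      show tens i (v - v') h = tens i v h - tens i v' h from funext fun x => by simp [tens]; ring]
    linear_combination (norm := module) e)
  exact ⟨sub_eq_zero.1 this.1, sub_eq_zero.1 this.2⟩

/-- A pure tensor inside two fibres. -/
theorem tens_coeff {i : Fin (t + 1)} {o h d : Fin m → F} {a u v : (Fin t → Fin m) → F} (ha : a ≠ 0)
    (e : tens i a d = tens i u o + tens i v h) : ∃ γ δ : F, d = γ • o + δ • h := by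
  obtain ⟨x, hx⟩ := Function.ne_iff.1 ha
  refine ⟨u x / a x, v x / a x, smul_right_injective (Fin m → F) hx ?_⟩
  have := congrArg (fun w => slice i w x) e
  simp only [map_add, slice_tens] at this
  show a x • d = a x • ((u x / a x) • o + (v x / a x) • h)
  rw [smul_add, smul_smul, smul_smul, mul_div_cancel₀ _ hx, mul_div_cancel₀ _ hx]
  exact this

/-- The fibre of a vector. -/
def fib (i : Fin (t + 1)) (o : Fin m → F) : Submodule F ((Fin (t + 1) → Fin m) → F) :=
  rows i (Submodule.span F {o})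

theorem mem_fib {i : Fin (t + 1)} {o : Fin m → F} {v : (Fin (t + 1) → Fin m) → F} :
    v ∈ fib i o ↔ ∃ u, v = tens i u o := by
  constructor
  · intro h
    choose u hu using fun x => Submodule.mem_span_singleton.1 (h x)
    exact ⟨u, (slice i).injective (by rw [slice_tens]; exact Matrix.ext fun x k => (congrFun (hu x) k).symm)⟩
  · rintro ⟨u, rfl⟩
    exact tens_mem_rows i u (Submodule.mem_span_singleton_self o)

theorem tens_mem_fib (i : Fin (t + 1)) (u : (Fin t → Fin m) → F) (o : Fin m → F) : tens i u o ∈ fib i o :=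
  mem_fib.2 ⟨u, rfl⟩

theorem finrank_fib (i : Fin (t + 1)) {o : Fin m → F} (ho : o ≠ 0) : Module.finrank F (fib i o) = m ^ t := by
  rw [fib, finrank_rows, finrank_span_singleton ho, mul_one]

/-- The perpendicular of a fibre. -/
def per (f : (Fin m → F) → (Fin m → F) → F) (i : Fin (t + 1)) (o : Fin m → F) :
    Submodule F ((Fin (t + 1) → Fin m) → F) :=
  ann i (fl f o)

theorem tp_tens (U : UForm q σ f) (i : Fin (t + 1)) (x : (Fin (t + 1) → Fin m) → F) (a : (Fin t → Fin m) → F)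
    (w : Fin m → F) : tp σ f (t + 1) x (tens i a w) = tp σ f t (slice i x *ᵥ fl f w) a := by
  rw [tp_spl i, tens_tm, Function.comp_assoc, Equiv.symm_comp_self, Function.comp_id, tf_tm_right (data U t)]
  congr 1
  funext k
  show f (row (x ∘ spl i) k) w = _
  rw [← fl_dot U, Matrix.mulVec, dotProduct_comm]
  rfl

theorem mem_per_iff (U : UForm q σ f) {i : Fin (t + 1)} {o : Fin m → F} {v : (Fin (t + 1) → Fin m) → F} :
    v ∈ per f i o ↔ ∀ a, tp σ f (t + 1) v (tens i a o) = 0 := by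
  rw [per, mem_ann]
  constructor
  · intro h a
    rw [tp_tens U, h, (tp_uform U t).refl.zero_left]
  · intro h
    by_contra hne
    obtain ⟨a, ha⟩ := ((tp_uform U t).refl.nondeg _ hne).2
    exact ha (by rw [← tp_tens U]; exact h a)

theorem tens_mem_per (U : UForm q σ f) {i : Fin (t + 1)} {o w : Fin m → F} (h : f w o = 0)
    (u : (Fin t → Fin m) → F) : tens i u w ∈ per f i o :=
  tens_mem_rows i u (show fl f o ⬝ᵥ w = 0 by rw [fl_dot U, h])

theorem fib_le_per (U : UForm q σ f) {i : Fin (t + 1)} {o w : Fin m → F} (h : f w o = 0) :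
    fib i w ≤ per f i o := fun v hv => by
  obtain ⟨u, rfl⟩ := mem_fib.1 hv
  exact tens_mem_per U h u

theorem perp_fib (U : UForm q σ f) (i : Fin (t + 1)) (o : Fin m → F) :
    (tp_uform U (t + 1)).refl.perp (fib i o) = per f i o := SetLike.ext fun v => by
  rw [IsReflexForm.mem_perp, mem_per_iff U]
  exact ⟨fun h a => h _ (tens_mem_fib i a o), fun h w hw => by
    obtain ⟨u, rfl⟩ := mem_fib.1 hw
    exact h u⟩

theorem perp_per (U : UForm q σ f) (i : Fin (t + 1)) (o : Fin m → F) :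
    (tp_uform U (t + 1)).refl.perp (per f i o) = fib i o := by
  rw [← perp_fib U, IsReflexForm.perp_perp]

theorem finrank_per (U : UForm q σ f) (i : Fin (t + 1)) {o : Fin m → F} (ho : o ≠ 0) :
    Module.finrank F (per f i o) + m ^ t = m ^ (t + 1) := by
  have h := (tp_uform U (t + 1)).refl.finrank_perp (fib i o)
  rw [perp_fib U, finrank_fib i ho, Fintype.card_fun, Fintype.card_fin, Fintype.card_fin] at h
  omega

theorem perp_sup' (U : UForm q σ f) (A B : Submodule F ((Fin (t + 1) → Fin m) → F)) :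
    (tp_uform U (t + 1)).refl.perp (A ⊔ B) =
      (tp_uform U (t + 1)).refl.perp A ⊓ (tp_uform U (t + 1)).refl.perp B := SetLike.ext fun v => by
  simp only [Submodule.mem_inf, IsReflexForm.mem_perp]
  refine ⟨fun h => ⟨fun w hw => h w (Submodule.mem_sup_left hw), fun w hw => h w (Submodule.mem_sup_right hw)⟩,
    fun h w hw => ?_⟩
  obtain ⟨a, ha, b, hb, rfl⟩ := Submodule.mem_sup.1 hw
  rw [(tp_uform U (t + 1)).refl.semi.add_right, h.1 a ha, h.2 b hb, add_zero]

theorem mem_img {κ : Type} [Fintype κ] [DecidableEq κ] {g : GL κ F} {W : Submodule F (κ → F)} {v : κ → F} :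
    v ∈ img g W ↔ ((g⁻¹ : GL κ F) : Matrix κ κ F) *ᵥ v ∈ W := by
  constructor
  · rintro ⟨w, hw, rfl⟩
    rw [Matrix.mulVecLin_apply, gl_inv_mulVec_cancel]
    exact hw
  · exact fun h => ⟨_, h, gl_mulVec_inv_cancel g v⟩

theorem perp_img (U : UForm q σ f) {g : GL (Fin (t + 1) → Fin m) F} (hg : g ∈ Us σ f (t + 1))
    (S : Submodule F ((Fin (t + 1) → Fin m) → F)) :
    (tp_uform U (t + 1)).refl.perp (img g S) = img g ((tp_uform U (t + 1)).refl.perp S) := SetLike.ext fun v => by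
  rw [mem_img, IsReflexForm.mem_perp, IsReflexForm.mem_perp]
  refine ⟨fun h w hw => ?_, fun h w hw => ?_⟩
  · rw [← hg.2, gl_mulVec_inv_cancel]
    exact h _ ⟨w, hw, rfl⟩
  · obtain ⟨u, hu, rfl⟩ := hw
    rw [Matrix.mulVecLin_apply, ← gl_mulVec_inv_cancel g v, hg.2]
    exact h u hu

/-- The fixed space of a root element. -/
theorem rootC_val (U : UForm q σ f) {i : Fin (t + 1)} {o : Fin m → F} (hoo : f o o = 0) {c : F} (hc : c + σ c = 0)
    {g : GL (Fin (t + 1) → Fin m) F} (hg : Rt f o c ((J i).symm g)) :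
    (g : Matrix (Fin (t + 1) → Fin m) (Fin (t + 1) → Fin m) F) = facM i (1 + vecMulVec o (c • fl f o)) := by
  obtain ⟨b, -, -, hbm, hb⟩ := exists_tv U hoo hc
  rw [RootU.eq U hg hb, facGL_val, hbm]

theorem fixS_rootC (U : UForm q σ f) {i : Fin (t + 1)} {o : Fin m → F} (ho : o ≠ 0) (hoo : f o o = 0) {c : F}
    (hc0 : c ≠ 0) (hc : c + σ c = 0) {g : GL (Fin (t + 1) → Fin m) F} (hg : Rt f o c ((J i).symm g)) :
    fixS g = per f i o := by
  rw [fixS_root ho (rootC_val U hoo hc hg)]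
  refine SetLike.ext fun v => ?_
  rw [per, mem_ann, mem_ann, Matrix.mulVec_smul, smul_eq_zero, or_iff_right hc0]

theorem mem_fixG_per (U : UForm q σ f) {i : Fin (t + 1)} {o : Fin m → F} (ho : o ≠ 0) (hoo : f o o = 0) {c : F}
    (hc0 : c ≠ 0) (hc : c + σ c = 0) {g : GL (Fin (t + 1) → Fin m) F} (hg : Rt f o c ((J i).symm g))
    {W : Submodule F ((Fin (t + 1) → Fin m) → F)} (hW : W ≤ per f i o) : g ∈ fixG W :=
  mem_fixG_iff_le.2 (hW.trans (fixS_rootC U ho hoo hc0 hc hg).ge)

/-- An element fixing an isotropic fibre pointwise. -/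
theorem Over.fibre_fix (H : Over q σ f X) (i : Fin (t + 1)) {o : Fin m → F} (ho : o ≠ 0) (hoo : f o o = 0)
    {g : GL (Fin (t + 1) → Fin m) F} (hg : g ∈ X) (h : ∀ a, g ⬝ₘ (tens i a o) = tens i a o) :
    g ∈ Ns σ f (t + 1) := by
  refine H.fixed_fibre i ho hoo hg fun a => ?_
  have e := J_mulVec i ((J i).symm g) (tens i a o)
  rw [MulEquiv.apply_symm_apply, h, tens_tm, Function.comp_assoc, Equiv.symm_comp_self, Function.comp_id] at e
  exact e.symm

/-- A root element of another factor moves some tensor. -/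
theorem other_slot_false (hm : 2 ≤ m) {i j : Fin (t + 1)} (hji : j ≠ i) {z : GL (Fin (t + 1) → Fin m) F}
    (hz : RootAt j z) {o h : Fin m → F} (ho : o ≠ 0) (hh : h ∉ Submodule.span F {o})
    (hle : ∀ v, ∃ u, z ⬝ₘ (tens i v h + tens i u o) = tens i v h + tens i u o) : False := by
  classical
  obtain ⟨f', l, hf', hl, hlf, he⟩ := id hz
  obtain ⟨A, hA⟩ : ∃ A : Fin (t + 1) → GL (Fin m) F, A = Pi.mulSingle j (tv f' l hlf) := ⟨_, rfl⟩
  obtain ⟨a, ha⟩ : ∃ a : GL (Fin t → Fin m) F, a = pureGL fun r => A (i.succAbove r) := ⟨_, rfl⟩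
  have hzJ : z = J i (kr a (1 : GL (Fin m) F)) := by
    have e1 : z = pureGL A := by
      rw [hA]
      exact Units.ext (by rw [he]; exact (facGL_val j (tv f' l hlf)).symm)
    have e2 : A i = 1 := by rw [hA, Pi.mulSingle_eq_of_ne (Ne.symm hji)]
    rw [e1, ha, J_kr_pure]
    congr 1
    rw [← e2]
    exact (Fin.insertNth_self_removeNth i A).symm
  have ha1 : ∀ v, (a : Matrix (Fin t → Fin m) (Fin t → Fin m) F) *ᵥ v = v := fun v => by
    obtain ⟨u, hu⟩ := hle v
    rw [hzJ, Matrix.mulVec_add, kr_tens, kr_tens, Units.val_one, Matrix.one_mulVec, Matrix.one_mulVec] at hu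
    exact (tens_ext (i := i) ho hh (u := (a : Matrix (Fin t → Fin m) (Fin t → Fin m) F) *ᵥ u) (u' := u)
      (by linear_combination (norm := module) hu)).2
  have hz1 : z = 1 := by
    rw [hzJ, show a = 1 from gl_ext_mulVec fun v => by rw [ha1, Units.val_one, Matrix.one_mulVec], kr_one, map_one]
  exact hz.not_scalar hm 1 (by rw [hz1, Units.val_one, one_smul])

/-- A standard element carrying a root element to one with centre `o'` in the same factor. -/
theorem carry (U : UForm q σ f) (hm : 2 ≤ m) {i : Fin (t + 1)} {n z z' : GL (Fin (t + 1) → Fin m) F}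
    (hn : n ∈ Ns σ f (t + 1)) {o o' : Fin m → F} {c c' : F} (ho : o ≠ 0) (hoo : f o o = 0) (hc0 : c ≠ 0)
    (hc : c + σ c = 0) (hz : Rt f o c ((J i).symm z)) (ho' : o' ≠ 0) (hoo' : f o' o' = 0) (hc0' : c' ≠ 0)
    (hc' : c' + σ c' = 0) (hz' : Rt f o' c' ((J i).symm z')) (h : n * z = z' * n) :
    ∃ (a : GL (Fin t → Fin m) F) (b : GL (Fin m) F) (r : F), n = J i (kr a b) ∧ r ≠ 0 ∧
      (b : Matrix (Fin m) (Fin m) F) *ᵥ o = r • o' := by
  obtain ⟨a, b, hab, hb⟩ := conj_slot hm hn.1 ho (smul_ne_zero hc0 (fl_ne_zero U ho))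
    (by rw [smul_dotProduct, fl_dot U, hoo, smul_zero]) (rootC_val U hoo hc hz) (rootC_val U hoo' hc' hz') ho'
    (smul_ne_zero hc0' (fl_ne_zero U ho')) (by rw [smul_dotProduct, fl_dot U, hoo', smul_zero]) h
  obtain ⟨y, hy⟩ : ∃ y, (c • fl f o) ⬝ᵥ y = 1 := by
    obtain ⟨k, hk⟩ := Function.ne_iff.mp (smul_ne_zero hc0 (fl_ne_zero U ho))
    exact ⟨Pi.single k ((c • fl f o) k)⁻¹, by rw [dotProduct_single, mul_inv_cancel₀ hk]⟩
  have e := congrArg (fun M : Matrix (Fin m) (Fin m) F => M *ᵥ y) hb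
  simp only [← Matrix.mulVec_mulVec, Matrix.vecMulVec_mulVec, hy, op_smul_eq_smul, one_smul] at e
  refine ⟨a, b, _, hab, fun h0 => ?_, e⟩
  rw [h0, zero_smul] at e
  exact ho (gl_mulVec_injective b (e.trans (Matrix.mulVec_zero _).symm))

/-- The left part of an element of the stabiliser is a similitude. -/
theorem sim_of_ns (U : UForm q σ f) (hm : 2 ≤ m) {i : Fin (t + 1)} {a : GL (Fin t → Fin m) F} {b : GL (Fin m) F}
    (h : J i (kr a b) ∈ Us σ f (t + 1)) : ∃ μ, ∀ x y, tp σ f t ((a : Matrix (Fin t → Fin m) (Fin t → Fin m) F) *ᵥ x)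
      ((a : Matrix (Fin t → Fin m) (Fin t → Fin m) F) *ᵥ y) = μ * tp σ f t x y := by
  have D := data U t
  obtain ⟨w, -, hw, -⟩ := U.exists_iso (W := ⊤) (by
    rw [finrank_top, Module.finrank_fintype_fun_eq_card, Fintype.card_fin]; omega)
  obtain ⟨v, hv⟩ := U.exists_pair_one hw
  obtain ⟨ν, hν⟩ : ∃ ν, ν = f ((b : Matrix (Fin m) (Fin m) F) *ᵥ v) ((b : Matrix (Fin m) (Fin m) F) *ᵥ w) := ⟨_, rfl⟩
  have hsim : ∀ x y, tp σ f t ((a : Matrix (Fin t → Fin m) (Fin t → Fin m) F) *ᵥ x)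
      ((a : Matrix (Fin t → Fin m) (Fin t → Fin m) F) *ᵥ y) * ν = tp σ f t x y := fun x y => by
    have e := ((mem_us_iff i).1 h).2 (tm x v) (tm y w)
    rwa [kr_tm, kr_tm, tf_tm D, tf_tm D, hv, mul_one, ← hν] at e
  have hν0 : ν ≠ 0 := fun e0 => by
    obtain ⟨x, hx⟩ : ∃ x : (Fin t → Fin m) → F, x ≠ 0 := ⟨Pi.single (fun _ => ⟨0, by omega⟩) 1, by simp⟩
    obtain ⟨y, hy⟩ := ((tp_uform U t).refl.nondeg x hx).2
    exact hy (by rw [← hsim x y, e0, mul_zero])
  exact ⟨ν⁻¹, fun x y => by rw [← hsim x y, mul_comm _ ν, inv_mul_cancel_left₀ hν0]⟩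

/-- A linear map all of whose scalar shifts are similitudes is scalar. -/
theorem scalar_of_shifts {κ : Type} [Fintype κ] [DecidableEq κ] {G : (κ → F) → (κ → F) → F} (U : UForm q σ G)
    (M : Matrix κ κ F) (h : ∀ s : F, ∃ μ, ∀ x y, G (M *ᵥ x - s • x) (M *ᵥ y - s • y) = μ * G x y) :
    ∃ τ : F, ∀ x, M *ᵥ x = τ • x := by
  obtain ⟨e, he⟩ : ∃ e : F, σ e ≠ e := by
    by_contra hcon
    push Not at hcon
    exact U.sig.ne_refl (RingEquiv.ext hcon)
  obtain ⟨μ₀, hμ₀⟩ := h 0
  obtain ⟨μ₁, hμ₁⟩ := h 1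
  obtain ⟨μe, hμe⟩ := h e
  have hs := U.refl.semi
  have hexp : ∀ (s : F) x y, G (M *ᵥ x - s • x) (M *ᵥ y - s • y) =
      G (M *ᵥ x) (M *ᵥ y) - σ s * G (M *ᵥ x) y - s * G x (M *ᵥ y) + s * σ s * G x y := fun s x y => by
    rw [sub_eq_add_neg, sub_eq_add_neg, ← neg_smul, ← neg_smul, hs.add_left, hs.add_right, hs.add_right,
      hs.smul_left, hs.smul_left, hs.smul_right, hs.smul_right, map_neg]
    ring
  obtain ⟨τ, hτ⟩ : ∃ τ, τ = ((μe - μ₀ - e * σ e) - e * (μ₁ - μ₀ - 1)) / (e - σ e) := ⟨_, rfl⟩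
  have hd : e - σ e ≠ 0 := sub_ne_zero.2 (Ne.symm he)
  have key : ∀ x y, G (M *ᵥ x) y = τ * G x y := fun x y => by
    have a1 := hμ₁ x y
    have a2 := hμe x y
    have a0 := hμ₀ x y
    rw [hexp] at a0 a1 a2
    simp only [map_zero, map_one, zero_mul, mul_zero, sub_zero, add_zero, one_mul, mul_one] at a0 a1
    rw [hτ, div_mul_eq_mul_div, eq_div_iff hd]
    linear_combination a2 - e * a1 - (1 - e) * a0
  refine ⟨τ, fun x => ?_⟩
  by_contra hne
  obtain ⟨y, hy⟩ := (U.refl.nondeg _ (sub_ne_zero.2 hne)).2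
  exact hy (by rw [sub_eq_add_neg, ← neg_smul, hs.add_left, hs.smul_left, key]; ring)

end Cfsg.Agent.Classical.TensorPowerMax.Unitary
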