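/-
A largest subspace fixed by a root element and by an element outside the stabiliser: at least four dimensions.
-/
import Cfsg.Agent.Lib.Classical.UTPow.Fibres

set_option autoImplicit false
set_option linter.unusedSectionVars false

namespace Cfsg.Agent.Classical.TensorPowerMax.Unitary

open Matrix Cfsg.Geo
open Cfsg.Agent.Classical
open Cfsg.Agent.Classical.TensorPowerMax
open Cfsg.Agent.Classical.TensorMax (kr kr_val kr_mul kr_one kr_inv)
open Cfsg.Agent.Classical.TensorMax.Form (UForm tm tf Data Rt)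
open scoped Kronecker

variable {F : Type*} [Field F] [Fintype F] {m t q : ℕ} {σ : F ≃+* F} {f : (Fin m → F) → (Fin m → F) → F}
  {X : Subgroup (GL (Fin (t + 1) → Fin m) F)}

local notation:max g:max " ⬝ₘ " x:max =>
  ((g : GL (Fin (t + 1) → Fin m) F) : Matrix (Fin (t + 1) → Fin m) (Fin (t + 1) → Fin m) F) *ᵥ x

/-- The root elements control the orbits of the overgroup. -/
theorem Over.roots (H : Over q σ f X) (p : ℕ) [Fact p.Prime] [CharP F p] :
    TensorMax.Roots p (Ns σ f (t + 1)) X {z | URoot σ f z} where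
  le := H.le
  mem z hz := hz.mem_ns H.uf
  pgroup z hz := by
    rintro ⟨g, ⟨k, rfl⟩⟩
    refine ⟨1, Subtype.ext ?_⟩
    show (z ^ k) ^ p ^ 1 = 1
    rw [pow_one, ← zpow_natCast, ← _root_.zpow_mul, mul_comm, _root_.zpow_mul, zpow_natCast,
      root_pow p (by have := H.hm; omega) (hz.isRoot H.uf), _root_.one_zpow]
  moves _ hg _ hz h := H.moves hg hz h

/-- A subspace fixed pointwise by a root element and by an element outside the stabiliser. -/
def Good (σ : F ≃+* F) (f : (Fin m → F) → (Fin m → F) → F) (X : Subgroup (GL (Fin (t + 1) → Fin m) F))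
    (W : Submodule F ((Fin (t + 1) → Fin m) → F)) : Prop :=
  (∃ z, URoot σ f z ∧ z ∈ fixG W) ∧ ∃ g ∈ X, g ∉ Ns σ f (t + 1) ∧ g ∈ fixG W

theorem finrank_inter (U : UForm q σ f) (i : Fin (t + 1)) {o : Fin m → F} (ho : o ≠ 0)
    (g : GL (Fin (t + 1) → Fin m) F) :
    (m - 2) * m ^ t ≤ Module.finrank F ↥(per f i o ⊓ img g (per f i o)) := by
  have h1 := finrank_per U i ho
  have h2 := Submodule.finrank_sup_add_finrank_inf_eq (per f i o) (img g (per f i o))
  have h3 := finrank_img g (per f i o)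
  have h4 := Submodule.finrank_le (per f i o ⊔ img g (per f i o))
  rw [Module.finrank_fintype_fun_eq_card, Fintype.card_fun, Fintype.card_fin, Fintype.card_fin] at h4
  rw [pow_succ] at h1 h4
  rw [Nat.sub_mul, mul_comm m]
  omega

theorem Over.good_inter (H : Over q σ f X) {i : Fin (t + 1)} {o : Fin m → F} (ho : o ≠ 0) (hoo : f o o = 0)
    {g : GL (Fin (t + 1) → Fin m) F} (hg : g ∈ X) (hgN : g ∉ Ns σ f (t + 1)) :
    Good σ f X (img g (per f i o ⊓ img g⁻¹ (per f i o))) := by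
  classical
  obtain ⟨p, hp⟩ := CharP.exists F
  haveI : Fact p.Prime := ⟨CharP.char_is_prime F p⟩
  have U := H.uf
  obtain ⟨c, hc0, hc⟩ := U.sig.exists_skew
  obtain ⟨z, -, hR, hz⟩ := exists_rootU (t := t) U i ho hoo hc0 hc
  have hzr : URoot σ f z := ⟨i, hz⟩
  have h1 : z ∈ fixG (per f i o ⊓ img g⁻¹ (per f i o)) := mem_fixG_per U ho hoo hc0 hc hR inf_le_left
  have h2 : z ∈ fixG (img g (per f i o ⊓ img g⁻¹ (per f i o))) := mem_fixG_per U ho hoo hc0 hc hR fun v hv => by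
    have h := (Submodule.mem_inf.1 (mem_img.1 hv)).2
    rwa [mem_img, inv_inv, gl_mulVec_inv_cancel] at h
  obtain ⟨h, hh, hhW, n, hn, rfl⟩ := (H.roots p).factor hg
    (St := fixG (per f i o ⊓ img g⁻¹ (per f i o))) (St' := fixG (img g (per f i o ⊓ img g⁻¹ (per f i o))))
    (fun s hs => mem_fixG_img hs) hzr h1 hzr h2
  exact ⟨⟨z, hzr, h2⟩, h, hh, fun hN => hgN (mul_mem hN hn), hhW⟩

/-- The extremal configuration. -/
structure Ext (q : ℕ) (σ : F ≃+* F) (f : (Fin m → F) → (Fin m → F) → F)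
    (X : Subgroup (GL (Fin (t + 1) → Fin m) F)) (W : Submodule F ((Fin (t + 1) → Fin m) → F)) (i : Fin (t + 1))
    (o : Fin m → F) (c : F) (z g : GL (Fin (t + 1) → Fin m) F) : Prop where
  ov : Over q σ f X
  ho : o ≠ 0
  hoo : f o o = 0
  hc0 : c ≠ 0
  hc : c + σ c = 0
  rt : Rt f o c ((J i).symm z)
  mem : g ∈ X
  notMem : g ∉ Ns σ f (t + 1)
  gfix : g ∈ fixG W
  eq : W = per f i o ⊓ img g⁻¹ (per f i o)
  best : ∀ W', Good σ f X W' → Module.finrank F W' ≤ Module.finrank F W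

theorem Over.exists_ext (H : Over q σ f X) {g : GL (Fin (t + 1) → Fin m) F} (hg : g ∈ X)
    (hgN : g ∉ Ns σ f (t + 1)) : ∃ W i o c z g', Ext q σ f X W i o c z g' := by
  classical
  have hm := H.hm
  have U := H.uf
  obtain ⟨o₀, -, ho₀, hoo₀⟩ := U.exists_iso (W := ⊤) (by
    rw [finrank_top, Module.finrank_fintype_fun_eq_card, Fintype.card_fin]; omega)
  obtain ⟨W, hWgood, hWmax⟩ := Set.exists_max_image {W | Good σ f X W} (fun W => Module.finrank F W) (Set.toFinite _)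
    ⟨_, H.good_inter (i := 0) ho₀ hoo₀ hg hgN⟩
  obtain ⟨⟨z, ⟨i, o, c, ho, hoo, hc0, hc, hR⟩, hzW⟩, g', hg', hg'N, hg'W⟩ := hWgood
  have hWS : W ≤ per f i o := fixS_rootC U ho hoo hc0 hc hR ▸ mem_fixG_iff_le.1 hzW
  have hle : W ≤ per f i o ⊓ img g'⁻¹ (per f i o) := fun v hv =>
    ⟨hWS hv, mem_img.2 (by rw [inv_inv, hg'W v hv]; exact hWS hv)⟩
  have heq : W = per f i o ⊓ img g'⁻¹ (per f i o) := by
    refine Submodule.eq_of_le_of_finrank_le hle ?_
    rw [← finrank_img g']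
    exact hWmax _ (H.good_inter ho hoo hg' hg'N)
  exact ⟨W, i, o, c, z, g', H, ho, hoo, hc0, hc, hR, hg', hg'N, hg'W, heq, hWmax⟩

variable {W : Submodule F ((Fin (t + 1) → Fin m) → F)} {i : Fin (t + 1)} {o : Fin m → F} {c : F}
  {z g : GL (Fin (t + 1) → Fin m) F}

theorem Ext.le_per (E : Ext q σ f X W i o c z g) : W ≤ per f i o := E.eq.le.trans inf_le_left

theorem Ext.mem_img_per (E : Ext q σ f X W i o c z g) {v : (Fin (t + 1) → Fin m) → F} (hv : v ∈ W) :
    v ∈ img g (per f i o) := ⟨v, E.le_per hv, E.gfix v hv⟩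

theorem Ext.dim (E : Ext q σ f X W i o c z g) : (m - 2) * m ^ t ≤ Module.finrank F W :=
  E.eq ▸ finrank_inter E.ov.uf i E.ho g⁻¹

theorem Ext.zroot (E : Ext q σ f X W i o c z g) : URoot σ f z := ⟨i, o, c, E.ho, E.hoo, E.hc0, E.hc, E.rt⟩

theorem Ext.zfix (E : Ext q σ f X W i o c z g) : z ∈ fixG W :=
  mem_fixG_per E.ov.uf E.ho E.hoo E.hc0 E.hc E.rt E.le_per

/-- The fibre complements the subspace in its perpendicular. -/
theorem Ext.sup_fib (E : Ext q σ f X W i o c z g) : W ⊔ fib i o = per f i o := by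
  have U := E.ov.uf
  have r := (tp_uform U (t + 1)).refl
  have hgU : g⁻¹ ∈ Us σ f (t + 1) := inv_mem (E.ov.sl E.mem)
  have hW : r.perp W = fib i o ⊔ img g⁻¹ (fib i o) := by
    conv_lhs => rw [E.eq, ← perp_fib U, ← perp_img U hgU, ← perp_sup' U, IsReflexForm.perp_perp]
  have h : r.perp (W ⊔ fib i o) = fib i o := by
    rw [perp_sup' U, hW, perp_fib U]
    refine le_antisymm ?_ (le_inf le_sup_left (fib_le_per U E.hoo))
    rintro v ⟨hv, hvS⟩
    obtain ⟨a, ha, b, hb, rfl⟩ := Submodule.mem_sup.1 hv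
    have hbS : b ∈ per f i o := by
      have := Submodule.sub_mem _ hvS (fib_le_per U E.hoo ha)
      rwa [add_sub_cancel_left] at this
    have hgb : g ⬝ₘ b ∈ fib i o := by
      have := mem_img.1 hb
      rwa [inv_inv] at this
    have hbW : b ∈ W := E.eq ▸ ⟨hbS, mem_img.2 (by rw [inv_inv]; exact fib_le_per U E.hoo hgb)⟩
    refine add_mem ha ?_
    rw [← E.gfix b hbW]
    exact hgb
  rw [← IsReflexForm.perp_perp r (W ⊔ fib i o), h, perp_fib U]

/-- A tensor of the perpendicular, corrected inside the fibre. -/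
theorem Ext.exists_corr (E : Ext q σ f X W i o c z g) {w : Fin m → F} (hw : f w o = 0)
    (v : (Fin t → Fin m) → F) : ∃ u, tens i v w + tens i u o ∈ W := by
  have h : tens i v w ∈ W ⊔ fib i o := E.sup_fib.symm ▸ tens_mem_per E.ov.uf hw v
  obtain ⟨l, hl, a, ha, e⟩ := Submodule.mem_sup.1 h
  obtain ⟨u, rfl⟩ := mem_fib.1 ha
  refine ⟨-u, ?_⟩
  rw [← e, show tens i (-u) o = -tens i u o from funext fun x => by simp [tens], add_neg_cancel_right]
  exact hl

theorem finrank_perp_pair (U : UForm q σ f) {w o₁ : Fin m → F} (hw : w ≠ 0) (h : o₁ ∉ Submodule.span F {w}) :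
    Module.finrank F ↥(U.refl.perp (Submodule.span F {w} ⊔ Submodule.span F {o₁})) + 2 = m := by
  have ho₁ : o₁ ≠ 0 := fun e => h (e ▸ Submodule.zero_mem _)
  have h0 : Submodule.span F {w} ⊓ Submodule.span F {o₁} = ⊥ := by
    rw [Submodule.eq_bot_iff]
    rintro v ⟨hv, hv'⟩
    obtain ⟨a, rfl⟩ := Submodule.mem_span_singleton.1 hv'
    by_contra hne
    have ha : a ≠ 0 := fun e => hne (by rw [e, zero_smul])
    refine h ?_
    have := Submodule.smul_mem _ a⁻¹ hv
    rwa [smul_smul, inv_mul_cancel₀ ha, one_smul] at this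
  have h1 := Submodule.finrank_sup_add_finrank_inf_eq (Submodule.span F {w}) (Submodule.span F {o₁})
  rw [h0, finrank_bot, finrank_span_singleton hw, finrank_span_singleton ho₁] at h1
  have h2 := U.refl.finrank_perp (Submodule.span F {w} ⊔ Submodule.span F {o₁})
  rw [Fintype.card_fin] at h2
  omega

/-- A large subspace in two perpendiculars consists of whole fibres. -/
theorem rows_of_two (U : UForm q σ f) {w o₁ : Fin m → F} (hw : w ≠ 0) (h : o₁ ∉ Submodule.span F {w})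
    {W₂ : Submodule F ((Fin (t + 1) → Fin m) → F)} (h₁ : W₂ ≤ per f i w) (h₂ : W₂ ≤ per f i o₁)
    (hdim : (m - 2) * m ^ t ≤ Module.finrank F W₂) :
    W₂ = rows i (U.refl.perp (Submodule.span F {w} ⊔ Submodule.span F {o₁})) := by
  refine Submodule.eq_of_le_of_finrank_le (fun v hv x => ?_) ?_
  · rw [IsReflexForm.mem_perp]
    intro y hy
    obtain ⟨a, ha, b, hb, rfl⟩ := Submodule.mem_sup.1 hy
    obtain ⟨r, rfl⟩ := Submodule.mem_span_singleton.1 ha
    obtain ⟨r', rfl⟩ := Submodule.mem_span_singleton.1 hb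
    have e₁ : fl f w ⬝ᵥ slice i v x = 0 := h₁ hv x
    have e₂ : fl f o₁ ⬝ᵥ slice i v x = 0 := h₂ hv x
    rw [fl_dot U] at e₁ e₂
    rw [U.refl.semi.add_right, U.refl.semi.smul_right, U.refl.semi.smul_right, e₁, e₂, mul_zero, mul_zero, add_zero]
  · rw [finrank_rows]
    have := finrank_perp_pair U hw h
    refine le_trans (le_of_eq ?_) hdim
    rw [show m - 2 = Module.finrank F ↥(U.refl.perp (Submodule.span F {w} ⊔ Submodule.span F {o₁})) by omega,
      mul_comm]

/-- Over an isotropic vector perpendicular to the centre, the subspace is the graph of a similitude. -/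
theorem Ext.step (E : Ext q σ f X W i o c z g) (h4 : 4 ≤ m) {w : Fin m → F} (hww : f w w = 0) (hwo : f w o = 0)
    (hw : w ∉ Submodule.span F {o}) :
    (∀ u, tens i u o ∈ W → u = 0) ∧ ∃ (M : Matrix (Fin t → Fin m) (Fin t → Fin m) F) (μ : F),
      (∀ x y, tp σ f t (M *ᵥ x) (M *ᵥ y) = μ * tp σ f t x y) ∧ ∀ v, tens i v w + tens i (M *ᵥ v) o ∈ W := by
  classical
  obtain ⟨p, hp⟩ := CharP.exists F
  haveI : Fact p.Prime := ⟨CharP.char_is_prime F p⟩
  have U := E.ov.uf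
  have hw0 : w ≠ 0 := fun e => hw (e ▸ Submodule.zero_mem _)
  have how : f o w = 0 := U.refl.eq_zero_swap hwo
  obtain ⟨W₂, hW₂⟩ : ∃ W₂, W₂ = per f i w ⊓ img g (per f i o) := ⟨_, rfl⟩
  have hdim : (m - 2) * m ^ t ≤ Module.finrank F W₂ := by
    have h1 := finrank_per (t := t) U i hw0
    have h2 := Submodule.finrank_sup_add_finrank_inf_eq (per f i w) (img g (per f i o))
    have h3 := finrank_img g (per f i o)
    have h3' := finrank_per (t := t) U i E.ho
    have h4' := Submodule.finrank_le (per f i w ⊔ img g (per f i o))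
    rw [Module.finrank_fintype_fun_eq_card, Fintype.card_fun, Fintype.card_fin, Fintype.card_fin] at h4'
    rw [pow_succ] at h1 h3' h4'
    rw [hW₂, Nat.sub_mul, mul_comm m]
    omega
  obtain ⟨zw, -, hwR, hzw⟩ := exists_rootU (t := t) U i hw0 hww E.hc0 E.hc
  obtain ⟨h, hh, hhW, n, hn, e⟩ := (E.ov.roots p).factor E.mem (St := fixG (per f i o)) (St' := fixG W₂)
    (fun s hs v hv => mem_fixG_img hs v ((hW₂ ▸ hv : v ∈ per f i w ⊓ img g (per f i o))).2)
    E.zroot (mem_fixG_per U E.ho E.hoo E.hc0 E.hc E.rt le_rfl) (z' := zw) ⟨i, hzw⟩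
    (mem_fixG_per U hw0 hww E.hc0 E.hc hwR (hW₂ ▸ inf_le_left))
  have hhN : h ∉ Ns σ f (t + 1) := fun hN => E.notMem (e ▸ mul_mem hN hn)
  obtain ⟨z₁, hz₁⟩ : ∃ z₁, z₁ = n * z * n⁻¹ := ⟨_, rfl⟩
  have hz₁W : z₁ ∈ fixG W₂ := by
    have h1 : g * z * g⁻¹ ∈ fixG W₂ := fun v hv =>
      mem_fixG_img (mem_fixG_per U E.ho E.hoo E.hc0 E.hc E.rt le_rfl) v ((hW₂ ▸ hv : v ∈ per f i w ⊓ img g (per f i o))).2
    have h2 := mul_mem (mul_mem (inv_mem hhW) h1) hhW
    rwa [e, show h⁻¹ * (h * n * z * (h * n)⁻¹) * h = z₁ by rw [hz₁]; group] at h2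
  have hWW₂ : ∀ v ∈ W, v ∈ per f i w → v ∈ W₂ := fun v hv hv' => hW₂ ▸ ⟨hv', E.mem_img_per hv⟩
  have hcorr : ∀ v, ∃ u, tens i v w + tens i u o ∈ W ∧ tens i v w + tens i u o ∈ per f i w := fun v => by
    obtain ⟨u, hu⟩ := E.exists_corr hwo v
    exact ⟨u, hu, add_mem (tens_mem_per U hww v) (tens_mem_per U how u)⟩
  obtain ⟨j, hj⟩ : URoot σ f z₁ := hz₁ ▸ E.zroot.conj U (by omega) hn
  obtain rfl : j = i := by
    by_contra hne
    exact other_slot_false (by omega) hne (hj.rootAt U) E.ho hw fun v => by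
      obtain ⟨u, hu, hu'⟩ := hcorr v
      exact ⟨u, hz₁W _ (hWW₂ _ hu hu')⟩
  obtain ⟨o₁, c₁, ho₁, hoo₁, hc₁, hcs₁, hR₁⟩ := hj
  have ho₁w : o₁ ∈ Submodule.span F {w} := by
    by_contra hne
    have hrows := rows_of_two U hw0 hne (hW₂ ▸ inf_le_left)
      (fixS_rootC U ho₁ hoo₁ hc₁ hcs₁ hR₁ ▸ mem_fixG_iff_le.1 hz₁W) hdim
    have hK := finrank_perp_pair U hw0 hne
    obtain ⟨w', hw'K, hw'0, hw'w'⟩ := U.exists_iso
      (W := U.refl.perp (Submodule.span F {w} ⊔ Submodule.span F {o₁})) (by omega)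
    exact hhN (E.ov.fibre_fix _ hw'0 hw'w' hh fun a => hhW _ (hrows ▸ tens_mem_rows _ a hw'K))
  obtain ⟨ρ, rfl⟩ := Submodule.mem_span_singleton.1 ho₁w
  obtain ⟨a, b, r, hab, hr, hbo⟩ := carry U (by omega) hn E.ho E.hoo E.hc0 E.hc E.rt ho₁ hoo₁ hc₁ hcs₁ hR₁
    (by rw [hz₁, inv_mul_cancel_right])
  rw [smul_smul] at hbo
  obtain ⟨k, hk⟩ : ∃ k, k = r * ρ := ⟨_, rfl⟩
  rw [← hk] at hbo
  have hk0 : k ≠ 0 := hk ▸ mul_ne_zero hr (left_ne_zero_of_smul ho₁)
  have hfix : ∀ v ∈ W, v ∈ per f j w → n ⬝ₘ v = v := fun v hv hv' => by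
    rw [show n = h⁻¹ * g by rw [e, inv_mul_cancel_left], gl_mul_mulVec, E.gfix v hv]
    exact (inv_mem hhW) v (hWW₂ v hv hv')
  have huniq : ∀ u, tens j u o ∈ W → u = 0 := fun u hu => by
    have h1 := hfix _ hu (tens_mem_per U how u)
    rw [hab, kr_tens, hbo, tens_smul_right, ← tens_smul_left] at h1
    exact (tens_ext (i := j) E.ho hw (u := 0) (v := k • (a : Matrix (Fin t → Fin m) (Fin t → Fin m) F) *ᵥ u) (u' := u) (v' := 0)
      (by rw [tens_zero_left, tens_zero_left, zero_add, add_zero]; exact h1)).1.symm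
  refine ⟨huniq, ?_⟩
  have heq : ∀ v u, tens j v w + tens j u o ∈ W → tens j ((a : Matrix (Fin t → Fin m) (Fin t → Fin m) F) *ᵥ v)
      ((b : Matrix (Fin m) (Fin m) F) *ᵥ w) =
      tens j u o + tens j (v - k • ((a : Matrix (Fin t → Fin m) (Fin t → Fin m) F) *ᵥ u)) w := fun v u hu => by
    have h1 := hfix _ hu (add_mem (tens_mem_per U hww v) (tens_mem_per U how u))
    rw [hab, Matrix.mulVec_add, kr_tens, kr_tens, hbo, tens_smul_right] at h1
    rw [sub_eq_add_neg, tens_add_left, ← neg_smul, tens_smul_left]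
    linear_combination (norm := module) h1
  obtain ⟨v₀, hv₀⟩ : ∃ v : (Fin t → Fin m) → F, v ≠ 0 := ⟨Pi.single (fun _ => ⟨0, by omega⟩) 1, by simp⟩
  obtain ⟨u₀, hu₀, -⟩ := hcorr v₀
  obtain ⟨γ, δ, hbw⟩ := tens_coeff (fun h0 => hv₀ (gl_mulVec_injective a (h0.trans (Matrix.mulVec_zero _).symm)))
    (heq v₀ u₀ hu₀)
  obtain ⟨μ, hμ⟩ := sim_of_ns U (by omega) (hab ▸ hn.2)
  refine ⟨γ • (a : Matrix (Fin t → Fin m) (Fin t → Fin m) F), γ * σ γ * μ, fun x y => ?_, fun v => ?_⟩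
  · rw [Matrix.smul_mulVec, Matrix.smul_mulVec, (tp_uform U t).refl.semi.smul_left,
      (tp_uform U t).refl.semi.smul_right, hμ]
    ring
  · obtain ⟨u, hu, -⟩ := hcorr v
    have h1 := heq v u hu
    rw [hbw, tens_add_right, tens_smul_right, tens_smul_right, ← tens_smul_left, ← tens_smul_left] at h1
    rw [Matrix.smul_mulVec, (tens_ext (i := j) E.ho hw h1).1]
    exact hu

/-- No extremal configuration in dimension at least four. -/
theorem Ext.false_of_four (E : Ext q σ f X W i o c z g) (h4 : 4 ≤ m) : False := by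
  classical
  have U := E.ov.uf
  obtain ⟨w, -, hww, hwo, hw⟩ := U.exists_iso_avoid (fun _ : Fin 1 => o) o (by rw [Fintype.card_fin]; omega)
  replace hwo : f w o = 0 := hwo 0
  obtain ⟨huniq, M, μ, hM, hMW⟩ := E.step h4 hww hwo hw
  have hshift : ∀ s : F, ∃ μ', ∀ x y, tp σ f t (M *ᵥ x - s • x) (M *ᵥ y - s • y) = μ' * tp σ f t x y := fun s => by
    obtain ⟨-, N, ν, hN, hNW⟩ := E.step h4 (w := w + s • o)
      (by rw [U.expand, hww, E.hoo, U.refl.eq_zero_swap hwo]; simp)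
      (by rw [U.refl.semi.add_left, U.refl.semi.smul_left, hwo, E.hoo, mul_zero, add_zero])
      (fun h' => hw (by
        have := Submodule.sub_mem _ h' (Submodule.smul_mem _ s (Submodule.mem_span_singleton_self o))
        rwa [add_sub_cancel_right] at this))
    have e : ∀ v, M *ᵥ v - s • v = N *ᵥ v := fun v => by
      refine sub_eq_zero.1 (huniq _ ?_)
      have := Submodule.sub_mem _ (hMW v) (hNW v)
      convert this using 1
      rw [sub_eq_add_neg, sub_eq_add_neg (M *ᵥ v), tens_add_left, tens_add_left, tens_add_right, tens_smul_right,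
        ← neg_smul, ← neg_one_smul F (N *ᵥ v), tens_smul_left, tens_smul_left]
      module
    exact ⟨ν, fun x y => by rw [e, e, hN]⟩
  obtain ⟨τ, hτ⟩ := scalar_of_shifts (tp_uform U t) M hshift
  refine E.notMem (E.ov.fibre_fix i (o := w + τ • o) (fun h0 => hw ?_)
    (by rw [U.expand, hww, E.hoo, U.refl.eq_zero_swap hwo]; simp) E.mem fun v => E.gfix _ ?_)
  · exact Submodule.mem_span_singleton.2 ⟨-τ, by rw [neg_smul]; exact (eq_neg_of_add_eq_zero_left h0).symm⟩
  · have := hMW v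
    rwa [hτ, tens_smul_left, ← tens_smul_right, ← tens_add_right] at this

end Cfsg.Agent.Classical.TensorPowerMax.Unitary
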