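/-
No extremal configuration in dimension three, and the conclusion that the stabiliser is maximal.
-/
import Cfsg.Agent.Lib.Classical.UTPow.Ext
import Cfsg.Agent.Lib.Classical.TensorPowerMax.Partner

set_option autoImplicit false
set_option linter.unusedSectionVars false

namespace Cfsg.Agent.Classical.TensorPowerMax.Unitary

open Matrix Cfsg.Geo
open Cfsg.Agent.Classical
open Cfsg.Agent.Classical.TensorPowerMax
open Cfsg.Agent.Classical.TensorMax (kr kr_val kr_mul kr_one kr_inv)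
open Cfsg.Agent.Classical.TensorMax.Form (UForm tm tf Data Rt exists_fixed ctr_smul_vec tm_smul_left tm_smul_right)
open scoped Kronecker

variable {F : Type*} [Field F] [Fintype F] {m t q : ℕ} {σ : F ≃+* F} {f : (Fin m → F) → (Fin m → F) → F}
  {X : Subgroup (GL (Fin (t + 1) → Fin m) F)} {W : Submodule F ((Fin (t + 1) → Fin m) → F)} {i : Fin (t + 1)}
  {o : Fin m → F} {c : F} {z g : GL (Fin (t + 1) → Fin m) F}

local notation:max g:max " ⬝ₘ " x:max =>
  ((g : GL (Fin (t + 1) → Fin m) F) : Matrix (Fin (t + 1) → Fin m) (Fin (t + 1) → Fin m) F) *ᵥ x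

theorem pv_eq_tens (i : Fin (t + 1)) (C : Fin (t + 1) → Fin m → F) :
    pv C = tens i (pv fun r => C (i.succAbove r)) (C i) := funext fun x => by
  simp only [pv, tens]
  rw [Fin.prod_univ_succAbove _ i, mul_comm]

theorem pv_ne_zero {n : ℕ} {C : Fin n → Fin m → F} (hC : ∀ k, C k ≠ 0) : pv C ≠ 0 := by
  choose x hx using fun k => Function.ne_iff.1 (hC k)
  exact fun e => Finset.prod_ne_zero_iff.2 (fun k _ => hx k) (congrFun e x)

/-- The extremal subspace is not a single fibre. -/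
theorem Ext.line_false (E : Ext q σ f X W i o c z g) (h3 : m = 3) (hle : Module.finrank F W ≤ m ^ t) {h : Fin m → F}
    (hh : h ≠ 0) (hW : ∀ a, tens i a h ∈ W) : False := by
  classical
  have U := E.ov.uf
  obtain ⟨p, hp0, hpp⟩ : ∃ p : Fin m → F, p ≠ 0 ∧ f p p = 0 := ⟨o, E.ho, E.hoo⟩
  obtain ⟨j, hji⟩ : ∃ j, j ≠ i := by
    haveI : Nontrivial (Fin (t + 1)) := Fin.nontrivial_iff_two_le.2 (by have := E.ov.ht; omega)
    exact exists_ne i
  obtain ⟨C, hC⟩ : ∃ C : Fin (t + 1) → Fin m → F, C = Function.update (fun _ => p) i h := ⟨_, rfl⟩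
  have hCi : C i = h := by rw [hC, Function.update_self]
  have hCj : C j = p := by rw [hC, Function.update_of_ne hji]
  have hC0 : pv C ≠ 0 := pv_ne_zero fun k => by
    by_cases hk : k = i
    · rw [hk, hCi]; exact hh
    · rw [hC, Function.update_of_ne hk]; exact hp0
  have hvW : pv C ∈ W := by rw [pv_eq_tens i, hCi]; exact hW _
  have hgv : g ⬝ₘ (pv C) = pv C := E.gfix _ hvW
  have hvj : ∀ x ∈ per f j p, tp σ f (t + 1) x (pv C) = 0 := fun x hx => by
    rw [pv_eq_tens j, hCj]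
    exact (mem_per_iff U).1 hx _
  have hsup : per f j p ⊔ img g⁻¹ (per f j p) ≤
      (tp_uform U (t + 1)).refl.perp (Submodule.span F {pv C}) := by
    refine sup_le (fun x hx => ?_) (fun x hx => ?_) <;> rw [IsReflexForm.mem_perp] <;> intro y hy <;>
      obtain ⟨r, rfl⟩ := Submodule.mem_span_singleton.1 hy <;> rw [(tp_uform U (t + 1)).refl.semi.smul_right]
    · rw [hvj x hx, mul_zero]
    · rw [← (E.ov.sl E.mem).2, hgv]
      have := mem_img.1 hx
      rw [inv_inv] at this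
      rw [hvj _ this, mul_zero]
  have h1 := Submodule.finrank_mono hsup
  have h2 := (tp_uform U (t + 1)).refl.finrank_perp (Submodule.span F {pv C})
  rw [finrank_span_singleton hC0, Fintype.card_fun, Fintype.card_fin, Fintype.card_fin] at h2
  have h4 := Submodule.finrank_sup_add_finrank_inf_eq (per f j p) (img g⁻¹ (per f j p))
  have h5 := finrank_img g⁻¹ (per f j p)
  have h6 := finrank_per (t := t) U j hp0
  have h7 := E.best _ (E.ov.good_inter (i := j) hp0 hpp E.mem E.notMem)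
  rw [finrank_img] at h7
  rw [pow_succ] at h2 h6
  subst h3
  omega

/-- A root element fixing the subspace has the given factor and centre. -/
theorem Ext.root_centre (E : Ext q σ f X W i o c z g) (h3 : m = 3) {z₁ : GL (Fin (t + 1) → Fin m) F}
    (hz : URoot σ f z₁) (hzW : z₁ ∈ fixG W) :
    ∃ c', c' ≠ 0 ∧ c' + σ c' = 0 ∧ Rt f o c' ((J i).symm z₁) := by
  classical
  have U := E.ov.uf
  obtain ⟨j, hj⟩ := hz
  obtain rfl : j = i := by
    by_contra hne
    obtain ⟨h, hho, hh⟩ : ∃ h, f h o = 0 ∧ h ∉ Submodule.span F {o} := by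
      by_contra hcon
      push Not at hcon
      have h1 := U.refl.finrank_perp (Submodule.span F {o})
      have h2 := Submodule.finrank_mono (show U.refl.perp (Submodule.span F {o}) ≤ Submodule.span F {o} from
        fun v hv => hcon v (hv o (Submodule.mem_span_singleton_self o)))
      rw [finrank_span_singleton E.ho, Fintype.card_fin] at h1
      rw [finrank_span_singleton E.ho] at h2
      omega
    exact other_slot_false (by omega) hne (hj.rootAt U) E.ho hh fun v => by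
      obtain ⟨u, hu⟩ := E.exists_corr hho v
      exact ⟨u, hzW _ hu⟩
  obtain ⟨o₁, c₁, ho₁, hoo₁, hc₁, hcs₁, hR₁⟩ := hj
  have ho₁o : o₁ ∈ Submodule.span F {o} := by
    by_contra hne
    have hrows := rows_of_two U E.ho hne E.le_per (fixS_rootC U ho₁ hoo₁ hc₁ hcs₁ hR₁ ▸ mem_fixG_iff_le.1 hzW) E.dim
    have hK := finrank_perp_pair U E.ho hne
    obtain ⟨k, hkK, hk⟩ := (U.refl.perp (Submodule.span F {o} ⊔ Submodule.span F {o₁})).exists_mem_ne_zero_of_ne_bot
      fun e => by rw [e, finrank_bot] at hK; omega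
    refine E.line_false h3 ?_ hk fun a => hrows ▸ tens_mem_rows _ a hkK
    rw [hrows, finrank_rows]
    subst h3
    rw [show Module.finrank F ↥(U.refl.perp (Submodule.span F {o} ⊔ Submodule.span F {o₁})) = 1 by omega, mul_one]
  obtain ⟨ρ, rfl⟩ := Submodule.mem_span_singleton.1 ho₁o
  have hρ : ρ ≠ 0 := left_ne_zero_of_smul ho₁
  refine ⟨c₁ * σ ρ * ρ, mul_ne_zero (mul_ne_zero hc₁ ((map_ne_zero σ).2 hρ)) hρ, ?_, fun x => ?_⟩
  · rw [map_mul, map_mul, U.sig.involutive]
    linear_combination (σ ρ * ρ) * hcs₁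
  · rw [hR₁ x, ctr_smul_vec (data U t), smul_smul, tm_smul_right, tm_smul_left, smul_smul, tm_smul_left,
      show ρ * (c₁ * σ ρ) = c₁ * σ ρ * ρ by ring]

/-- An element of the stabiliser of the subspace and the fibre fixes the perpendicular. -/
theorem Ext.fixes_per (E : Ext q σ f X W i o c z g) (h3 : m = 3) {n : GL (Fin (t + 1) → Fin m) F} (hnW : n ∈ fixG W)
    {a : GL (Fin t → Fin m) F} {b : GL (Fin m) F} {l : F} (hn : n = J i (kr a b)) (hl : l ≠ 0)
    (hbo : (b : Matrix (Fin m) (Fin m) F) *ᵥ o = l • o) : n ∈ fixG (per f i o) := by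
  classical
  have U := E.ov.uf
  obtain ⟨h, hho, hh⟩ : ∃ h, f h o = 0 ∧ h ∉ Submodule.span F {o} := by
    by_contra hcon
    push Not at hcon
    have h1 := U.refl.finrank_perp (Submodule.span F {o})
    have h2 := Submodule.finrank_mono (show U.refl.perp (Submodule.span F {o}) ≤ Submodule.span F {o} from
      fun v hv => hcon v (hv o (Submodule.mem_span_singleton_self o)))
    rw [finrank_span_singleton E.ho, Fintype.card_fin] at h1
    rw [finrank_span_singleton E.ho] at h2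
    omega
  have heq : ∀ v u, tens i v h + tens i u o ∈ W → tens i ((a : Matrix (Fin t → Fin m) (Fin t → Fin m) F) *ᵥ v)
      ((b : Matrix (Fin m) (Fin m) F) *ᵥ h) =
      tens i (u - l • ((a : Matrix (Fin t → Fin m) (Fin t → Fin m) F) *ᵥ u)) o + tens i v h := fun v u hu => by
    have h1 := hnW _ hu
    rw [hn, Matrix.mulVec_add, kr_tens, kr_tens, hbo, tens_smul_right] at h1
    rw [sub_eq_add_neg, tens_add_left, ← neg_smul, tens_smul_left]
    linear_combination (norm := module) h1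
  obtain ⟨v₀, hv₀⟩ : ∃ v : (Fin t → Fin m) → F, v ≠ 0 := ⟨Pi.single (fun _ => ⟨0, by omega⟩) 1, by simp⟩
  obtain ⟨u₀, hu₀⟩ := E.exists_corr hho v₀
  obtain ⟨γ, δ, hbh⟩ := tens_coeff (fun h0 => hv₀ (gl_mulVec_injective a (h0.trans (Matrix.mulVec_zero _).symm)))
    (heq v₀ u₀ hu₀)
  have hco : ∀ v u, tens i v h + tens i u o ∈ W →
      γ • ((a : Matrix (Fin t → Fin m) (Fin t → Fin m) F) *ᵥ v) =
        u - l • ((a : Matrix (Fin t → Fin m) (Fin t → Fin m) F) *ᵥ u) ∧
      δ • ((a : Matrix (Fin t → Fin m) (Fin t → Fin m) F) *ᵥ v) = v := fun v u hu => by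
    have h1 := heq v u hu
    rw [hbh, tens_add_right, tens_smul_right, tens_smul_right, ← tens_smul_left, ← tens_smul_left] at h1
    exact tens_ext (i := i) E.ho hh h1
  have hδ : δ ≠ 0 := fun e => hv₀ (by
    have := (hco v₀ u₀ hu₀).2
    rw [e, zero_smul] at this
    exact this.symm)
  have ha : ∀ v, (a : Matrix (Fin t → Fin m) (Fin t → Fin m) F) *ᵥ v = δ⁻¹ • v := fun v => by
    obtain ⟨u, hu⟩ := E.exists_corr hho v
    conv_rhs => rw [← (hco v u hu).2, smul_smul, inv_mul_cancel₀ hδ, one_smul]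
  by_cases hlδ : l = δ
  · subst hlδ
    have hfib : ∀ u, n ⬝ₘ (tens i u o) = tens i u o := fun u => by
      rw [hn, kr_tens, ha, hbo, tens_smul_right, tens_smul_left, smul_smul, mul_inv_cancel₀ hl, one_smul]
    intro v hv
    rw [← E.sup_fib] at hv
    obtain ⟨w, hw, u, hu, rfl⟩ := Submodule.mem_sup.1 hv
    obtain ⟨u, rfl⟩ := mem_fib.1 hu
    rw [Matrix.mulVec_add, hnW w hw, hfib]
  · exfalso
    obtain ⟨τ, hτ⟩ : ∃ τ, τ = γ / (δ - l) := ⟨_, rfl⟩
    have hd : δ - l ≠ 0 := sub_ne_zero.2 (Ne.symm hlδ)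
    have hu : ∀ v u, tens i v h + tens i u o ∈ W → u = τ • v := fun v u hu => by
      have h1 := (hco v u hu).1
      rw [ha, ha, smul_smul, smul_smul] at h1
      have h2 : δ • ((γ * δ⁻¹) • v) = δ • (u - (l * δ⁻¹) • u) := by rw [h1]
      rw [smul_smul, smul_sub, smul_smul, show δ * (γ * δ⁻¹) = γ by field_simp,
        show δ * (l * δ⁻¹) = l by field_simp] at h2
      rw [hτ, div_eq_inv_mul, ← smul_smul, h2, ← sub_smul, smul_smul, inv_mul_cancel₀ hd, one_smul]
    have hline : ∀ v, tens i v (h + τ • o) ∈ W := fun v => by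
      obtain ⟨u, hu'⟩ := E.exists_corr hho v
      rw [tens_add_right, tens_smul_right, ← tens_smul_left, ← hu v u hu']
      exact hu'
    refine E.line_false h3 ?_ (fun e => hh (Submodule.mem_span_singleton.2 ⟨-τ, by
      rw [neg_smul]; exact (eq_neg_of_add_eq_zero_left e).symm⟩)) hline
    have hinf : W ⊓ fib i o = ⊥ := by
      rw [Submodule.eq_bot_iff]
      rintro v ⟨hv, hv'⟩
      obtain ⟨u, rfl⟩ := mem_fib.1 hv'
      have := hu 0 u (by rwa [tens_zero_left, zero_add])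
      rw [this, smul_zero, tens_zero_left]
    have h1 := Submodule.finrank_sup_add_finrank_inf_eq W (fib i o)
    rw [E.sup_fib, hinf, finrank_bot, finrank_fib i E.ho] at h1
    have h2 := finrank_per (t := t) U i E.ho
    rw [pow_succ] at h2
    subst h3
    omega

theorem sub_mem_fib (U : UForm q σ f) {n : GL (Fin (t + 1) → Fin m) F} (hn : n ∈ Us σ f (t + 1))
    (hfix : n ∈ fixG (per f i o)) (v : (Fin (t + 1) → Fin m) → F) : n ⬝ₘ v - v ∈ fib i o := by
  rw [← perp_per U, IsReflexForm.mem_perp]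
  intro s hs
  have r := (tp_uform U (t + 1)).refl
  have e := hn.2 v s
  rw [hfix s hs] at e
  rw [sub_eq_add_neg, r.semi.add_left, r.neg_left, e, add_neg_cancel]

/-- No extremal configuration in dimension three. -/
theorem Ext.false_of_three (E : Ext q σ f X W i o c z g) (h3 : m = 3) : False := by
  classical
  obtain ⟨p, hp⟩ := CharP.exists F
  haveI : Fact p.Prime := ⟨CharP.char_is_prime F p⟩
  have U := E.ov.uf
  have hRS := E.ov.roots p
  obtain ⟨x, hx⟩ : ∃ x, x = g * z * g⁻¹ := ⟨_, rfl⟩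
  have hzX : z ∈ X := E.ov.le (E.zroot.mem_ns U)
  have hxX : x ∈ X := hx ▸ mul_mem (mul_mem E.mem hzX) (inv_mem E.mem)
  have hxW : x ∈ fixG W := hx ▸ mul_mem (mul_mem E.gfix E.zfix) (inv_mem E.gfix)
  have hxN : x ∉ Ns σ f (t + 1) := fun h => E.notMem (E.ov.moves E.mem E.zroot (hx ▸ h))
  haveI : Nonempty (Fin (t + 1) → Fin m) := ⟨fun _ => ⟨0, by omega⟩⟩
  have hzsq := ((E.zroot.isRoot U).choose_spec).sq
  have hxsq := hx ▸ conj_sq g z hzsq
  have hzper : z ∈ fixG (per f i o) := mem_fixG_per U E.ho E.hoo E.hc0 E.hc E.rt le_rfl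
  have hcomm : ∀ n : GL (Fin (t + 1) → Fin m) F, n ∈ Us σ f (t + 1) → n ∈ fixG (per f i o) → n * z = z * n :=
    fun n hn hnf => gl_ext_mulVec fun v => by
      have h1 : n ⬝ₘ (z ⬝ₘ v - v) = z ⬝ₘ v - v :=
        hnf _ (fib_le_per U E.hoo (sub_mem_fib U (E.zroot.mem_ns U).2 hzper v))
      have h2 : z ⬝ₘ (n ⬝ₘ v - v) = n ⬝ₘ v - v := hzper _ (fib_le_per U E.hoo (sub_mem_fib U hn hnf v))
      rw [Matrix.mulVec_sub] at h1 h2
      rw [gl_mul_mulVec, gl_mul_mulVec]
      linear_combination (norm := module) h1 - h2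
  rcases eq_or_ne p 2 with rfl | hp2
  · have hq : q ≠ 2 := fun e => E.ov.hex ⟨e, h3⟩
    obtain ⟨θ, hθ, hθ0, hθ1⟩ := exists_fixed U.sig hq
    have hc' : θ * c + σ (θ * c) = 0 := by rw [map_mul, hθ, ← mul_add, E.hc, mul_zero]
    obtain ⟨z', -, hz'R, hz'⟩ := exists_rootU (t := t) U i E.ho E.hoo (mul_ne_zero hθ0 E.hc0) hc'
    have hz'r : URoot σ f z' := ⟨i, hz'⟩
    have hz'W : z' ∈ fixG W := mem_fixG_per U E.ho E.hoo (mul_ne_zero hθ0 E.hc0) hc' hz'R E.le_per
    have hz'X : z' ∈ X := E.ov.le (hz'r.mem_ns U)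
    have hinv : ∀ y : GL (Fin (t + 1) → Fin m) F, URoot σ f y → y * y = 1 := fun y hy => by
      rw [← pow_two]; exact root_pow 2 (by omega) (hy.isRoot U)
    have hxx : x * x = 1 := by
      rw [hx, show g * z * g⁻¹ * (g * z * g⁻¹) = g * (z * z) * g⁻¹ by group, hinv z E.zroot]
      group
    obtain ⟨d, hd, _, _, hpg, hdih⟩ := dihedral_split (hinv z' hz'r) hxx
    have hle : Subgroup.closure ({z', x} : Set (GL (Fin (t + 1) → Fin m) F)) ≤ X ⊓ fixG W := by
      rw [Subgroup.closure_le, Set.insert_subset_iff, Set.singleton_subset_iff]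
      exact ⟨⟨hz'X, hz'W⟩, ⟨hxX, hxW⟩⟩
    obtain ⟨hdX, hdW⟩ := hle hd
    obtain ⟨y, hy⟩ : ∃ y, y = d * x * d⁻¹ := ⟨_, rfl⟩
    rw [← hy] at hpg hdih
    obtain ⟨e, he, heN⟩ := hRS.conj_into (z₀ := z') hz'r (S := Subgroup.closure {z', y}) (by
      rw [Subgroup.closure_le, Set.insert_subset_iff, Set.singleton_subset_iff]
      exact ⟨hz'X, hy ▸ mul_mem (mul_mem hdX hxX) (inv_mem hdX)⟩) hpg
    have he' : e ∈ Ns σ f (t + 1) := E.ov.moves he hz'r (heN z' (Subgroup.subset_closure (Or.inl rfl)))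
    have hyN : y ∈ Ns σ f (t + 1) := by
      have h := mul_mem (mul_mem (inv_mem he') (heN y (Subgroup.subset_closure (Or.inr rfl)))) he'
      rwa [show e⁻¹ * (e * y * e⁻¹) * e = y by group] at h
    obtain ⟨n, hn⟩ : ∃ n, n = d * g := ⟨_, rfl⟩
    have hny : n * z * n⁻¹ = y := by rw [hn, hy, hx]; group
    have hnN : n ∈ Ns σ f (t + 1) := E.ov.moves (hn ▸ mul_mem hdX E.mem) E.zroot (hny.symm ▸ hyN)
    have hnW : n ∈ fixG W := hn ▸ mul_mem hdW E.gfix
    obtain ⟨c₁, hc₁, hcs₁, hR₁⟩ := E.root_centre h3 (hny ▸ E.zroot.conj U (by omega) hnN)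
      (hny ▸ mul_mem (mul_mem hnW E.zfix) (inv_mem hnW))
    obtain ⟨a, b, r, hab, hr, hbo⟩ := carry U (by omega) hnN E.ho E.hoo E.hc0 E.hc E.rt E.ho E.hoo hc₁ hcs₁ hR₁
      (by rw [← hny, inv_mul_cancel_right])
    have hyz : y = z := by
      rw [← hny, hcomm n hnN.2 (E.fixes_per h3 hnW hab hr hbo), mul_inv_cancel_right]
    rw [hyz] at hdih
    obtain ⟨b₁, -, -, -, hb₁⟩ := exists_tv U E.hoo E.hc
    obtain ⟨b₂, -, -, -, hb₂⟩ := exists_tv U E.hoo hc'
    have hsum : (θ + 1) * c ≠ 0 := mul_ne_zero (fun e0 => hθ1 (by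
      rw [eq_neg_of_add_eq_zero_left e0, CharTwo.neg_eq])) E.hc0
    have hsum' : (θ + 1) * c + σ ((θ + 1) * c) = 0 := by
      rw [map_mul, map_add, hθ, map_one, ← mul_add, E.hc, mul_zero]
    obtain ⟨u, -, huR, hu⟩ := exists_rootU (t := t) U i E.ho E.hoo hsum hsum'
    have hue : z' * z = u := by
      rw [RootU.eq U hz'R hb₂, RootU.eq U E.rt hb₁, ← map_mul]
      refine (RootU.eq U huR fun v => ?_).symm
      rw [gl_mul_mulVec, hb₁, hb₂, U.refl.semi.add_left, U.refl.semi.smul_left, E.hoo, mul_zero, add_zero]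
      module
    have hur : URoot σ f u := ⟨i, hu⟩
    obtain ⟨hux, -⟩ := hdih (by rw [hue, hinv u hur])
    rw [hue] at hux
    exact hxN (E.ov.central hur hxX hux.symm)
  · have hK : ¬ IsPGroup p (Subgroup.closure ({z, x} : Set (GL (Fin (t + 1) → Fin m) F))) := fun hK => by
      obtain ⟨e, he, heN⟩ := hRS.conj_into (z₀ := z) E.zroot (S := Subgroup.closure {z, x}) (by
        rw [Subgroup.closure_le, Set.insert_subset_iff, Set.singleton_subset_iff]
        exact ⟨hzX, hxX⟩) hK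
      have he' : e ∈ Ns σ f (t + 1) := E.ov.moves he E.zroot (heN z (Subgroup.subset_closure (Or.inl rfl)))
      refine hxN ?_
      have h := mul_mem (mul_mem (inv_mem he') (heN x (Subgroup.subset_closure (Or.inr rfl)))) he'
      rwa [show e⁻¹ * (e * x * e⁻¹) * e = x by group] at h
    obtain ⟨j, hj, hjj, hj1⟩ := exists_involution p hp2 hzsq hxsq hK
    obtain ⟨hjX, hjW⟩ : j ∈ X ⊓ fixG W := by
      refine (?_ : Subgroup.closure ({z, x} : Set (GL (Fin (t + 1) → Fin m) F)) ≤ X ⊓ fixG W) hj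
      rw [Subgroup.closure_le, Set.insert_subset_iff, Set.singleton_subset_iff]
      exact ⟨⟨hzX, E.zfix⟩, ⟨hxX, hxW⟩⟩
    have h2 : (2 : F) ≠ 0 := fun e0 => hp2 ((Nat.prime_dvd_prime_iff_eq (Fact.out : p.Prime) Nat.prime_two).1
      ((CharP.cast_eq_zero_iff F p 2).1 (by exact_mod_cast e0)))
    have hjz : j * z = z * j := by
      have h := (symm_central hzsq hxsq hj).1
      rw [inv_eq_of_mul_eq_one_right hjj] at h
      refine Units.ext (smul_right_injective _ h2 ?_)
      have e := h.eq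
      simp only [Units.val_mul]
      rw [mul_sub, sub_mul, mul_one, one_mul, sub_left_inj, add_mul, mul_add] at e
      simpa [two_smul] using e
    have hjN : j ∈ Ns σ f (t + 1) := E.ov.central E.zroot hjX hjz
    obtain ⟨a, b, r, hab, hr, hbo⟩ := carry U (by omega) hjN E.ho E.hoo E.hc0 E.hc E.rt E.ho E.hoo E.hc0 E.hc E.rt hjz
    have hjf := E.fixes_per h3 hjW hab hr hbo
    refine hj1 (gl_ext_mulVec fun v => ?_)
    have h1 := hjf _ (fib_le_per U E.hoo (sub_mem_fib U hjN.2 hjf v))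
    rw [Matrix.mulVec_sub, ← gl_mul_mulVec, hjj, Units.val_one, Matrix.one_mulVec] at h1
    rw [Units.val_one, Matrix.one_mulVec]
    have e : (2 : F) • (j ⬝ₘ v - v) = 0 := by linear_combination (norm := module) -h1
    exact sub_eq_zero.1 ((smul_eq_zero.1 e).resolve_left h2)

/-- An overgroup without all isometries is the stabiliser. -/
theorem Over.le_ns (H : Over q σ f X) : X ≤ Ns σ f (t + 1) := fun g hg => by
  by_contra hgN
  obtain ⟨W, i, o, c, z, g', E⟩ := H.exists_ext hg hgN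
  rcases Nat.lt_or_ge m 4 with h | h
  · exact E.false_of_three (by have := H.hm; omega)
  · exact E.false_of_four h

end Cfsg.Agent.Classical.TensorPowerMax.Unitary
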