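/-
Maximality of the stabilisers of tensor powers of Hermitian forms in the special unitary group.
-/
import Cfsg.Agent.Lib.Classical.UTPow.Three
import Cfsg.Agent.Lib.Classical.TensorMax.Form.UFinal

set_option autoImplicit false
set_option linter.unusedSectionVars false

namespace Cfsg.Agent.Classical.TensorPowerMax.Unitary

open Matrix Cfsg.Geo
open Cfsg.Agent.Classical
open Cfsg.Agent.Classical.TensorPowerMax
open Cfsg.Agent.Classical.TensorMax (kr kr_val kr_mul kr_one kr_inv)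
open Cfsg.Agent.Classical.TensorMax.Form (UForm tm tf Data uform_of_pow)
open scoped Kronecker

variable {F : Type*} [Field F] [Fintype F] {m t q : ℕ} {σ : F ≃+* F} {f : (Fin m → F) → (Fin m → F) → F}

/-- With one factor the stabiliser is everything. -/
theorem maximal_one : Maximal σ f 1 := fun X hN hX => by
  refine Or.inl (le_antisymm (fun g hg => ⟨?_, hX hg⟩) hN)
  obtain ⟨G, rfl⟩ := (J (F := F) (m := m) (t := 0) 0).surjective g
  let e : (Fin 0 → Fin m) × Fin m ≃ Fin m :=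
    ⟨Prod.snd, fun x => (default, x), fun p => Prod.ext (Subsingleton.elim _ _) rfl, fun _ => rfl⟩
  rw [show G = kr (1 : GL (Fin 0 → Fin m) F) (glReindex e G) from Units.ext (by
    ext ⟨u, k⟩ ⟨v, l⟩
    rw [kr_val, kroneckerMap_apply, Subsingleton.elim u default, Subsingleton.elim v default, Units.val_one,
      Matrix.one_apply_eq, one_mul]
    rfl), J_kr_right]
  exact facGL_mem _ _

/-- The inductive step. -/
theorem maximal_succ (U : UForm q σ f) (hm : 3 ≤ m) (hex : ¬ (q = 2 ∧ m = 3)) (ht : 0 < t) (ih : Maximal σ f t) :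
    Maximal σ f (t + 1) := fun X hN hX => by
  by_cases hall : Us σ f (t + 1) ≤ X
  · exact Or.inr hall
  exact Or.inl (le_antisymm (Over.le_ns ⟨U, hm, hex, ht, hN, hX, hall, ih⟩) hN)

theorem maximal (U : UForm q σ f) (hm : 3 ≤ m) (hex : ¬ (q = 2 ∧ m = 3)) : ∀ t, Maximal σ f (t + 1)
  | 0 => maximal_one
  | t + 1 => maximal_succ U hm hex (Nat.succ_pos t) (maximal U hm hex t)

/-- The stabiliser is proper. -/
theorem ne_top (U : UForm q σ f) (hm : 3 ≤ m) (ht : 0 < t) : Ns σ f (t + 1) ≠ Us σ f (t + 1) := by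
  classical
  intro e
  obtain ⟨p, hp⟩ := CharP.exists F
  haveI : Fact p.Prime := ⟨CharP.char_is_prime F p⟩
  have UT := tp_uform U (t + 1)
  haveI : Nonempty (Fin (t + 1) → Fin m) := ⟨fun _ => ⟨0, by omega⟩⟩
  obtain ⟨o, -, ho, hoo⟩ := U.exists_iso (W := ⊤) (by
    rw [finrank_top, Module.finrank_fintype_fun_eq_card, Fintype.card_fin]; omega)
  obtain ⟨v, hv⟩ : ∃ v : (Fin (t + 1) → Fin m) → F, v = tens 0 (Pi.single (fun _ => ⟨0, by omega⟩) 1) o := ⟨_, rfl⟩
  have hv0 : v ≠ 0 := fun e0 => ho (tens_eq 0 (w := Pi.single (fun _ => ⟨0, by omega⟩) (1 : F)) (by simp)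
    ((hv.symm.trans e0).trans (funext fun x => by simp [tens])))
  have hvv : tp σ f (t + 1) v v = 0 := by
    rw [hv]
    exact (mem_per_iff U).1 (tens_mem_per U hoo _) _
  obtain ⟨c, hc, hskew⟩ := U.sig.exists_skew
  obtain ⟨g, hgd, hgU, hgx⟩ := Radical.exists_UF UT.refl (v := v) (y := 0) (c := c) hvv (UT.refl.zero_left _)
    (by rw [UT.refl.zero_left, one_mul, hskew, add_zero])
  have hg : ∀ x, (g : Matrix (Fin (t + 1) → Fin m) (Fin (t + 1) → Fin m) F) *ᵥ x = x + (c * tp σ f (t + 1) x v) • v :=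
    fun x => by rw [hgx, smul_zero, add_zero, UT.refl.zero_right, mul_zero, sub_zero]
  have hmem : g ∈ Ns σ f (t + 1) := e.symm ▸ ⟨mem_specialLinear_iff.1 hgd, Radical.UF_iso UT.refl hvv hgU⟩
  obtain ⟨D, hD⟩ : ∃ D, D = (g : Matrix (Fin (t + 1) → Fin m) (Fin (t + 1) → Fin m) F) - 1 := ⟨_, rfl⟩
  have hDv : ∀ x, D *ᵥ x = (c * tp σ f (t + 1) x v) • v := fun x => by
    rw [hD, Matrix.sub_mulVec, Matrix.one_mulVec, hg, add_sub_cancel_left]
  have hr : D.rank ≤ 1 := by
    refine (Submodule.finrank_mono (t := Submodule.span F {v}) ?_).trans ?_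
    · rintro _ ⟨x, rfl⟩
      rw [Matrix.mulVecLin_apply, hDv]
      exact Submodule.smul_mem _ _ (Submodule.mem_span_singleton_self v)
    · rw [finrank_span_singleton hv0]
  have hsq : D * D = 0 := Matrix.toLin'.injective (LinearMap.ext fun x => by
    rw [Matrix.toLin'_apply, map_zero, LinearMap.zero_apply, ← Matrix.mulVec_mulVec, hDv x, Matrix.mulVec_smul, hDv,
      hvv, mul_zero, zero_smul, smul_zero])
  have hne : g ≠ 1 := fun h1 => by
    obtain ⟨x, hx⟩ := (UT.refl.nondeg v hv0).1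
    have := hg x
    rw [h1, Units.val_one, Matrix.one_mulVec, left_eq_add, smul_eq_zero, or_iff_left hv0] at this
    exact mul_ne_zero hc hx this
  rw [hD] at hr hsq
  have hpow : 1 < m ^ t := Nat.one_lt_pow (by omega) (by omega)
  rcases classify p hm hmem.1 hsq hne (hr.trans hpow.le) with h | ⟨-, A, π, hπ, he⟩
  · have := h.rank (by omega)
    omega
  · obtain ⟨x, y, hxy', rfl⟩ := hπ
    have := (rank_perm_pair hm A (σ := Equiv.swap x y) (j := x) (by
      rw [Equiv.swap_apply_left]; exact hxy'.symm)).1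
    rw [← he] at this
    omega

/-- The stabiliser of a tensor power is maximal in the special unitary group. -/
theorem isMaximalIn {n k : ℕ} {f₁ : (Fin k → F) → (Fin k → F) → F} (hF : Fintype.card F = q ^ 2) (hk : 3 ≤ k)
    (ht : 2 ≤ t) (hex : ¬ (q = 2 ∧ k = 3)) (e : Fin n ≃ (Fin t → Fin k)) (P : GL (Fin n) F)
    (hf₁ : IsUnitaryFormPow q f₁)
    (hT : IsTensorPowerFormStructure (fun x : F => x ^ q) (Cfsg.hermForm n F q) f₁ e P) :
    IsMaximalIn (GU n F q ⊓ specialLinear (Fin n) F)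
      (tensorWreathSubgroup k t e P ⊓ (GU n F q ⊓ specialLinear (Fin n) F)) := by
  classical
  obtain ⟨-, -, σ, -, -, -, -, hσ⟩ := exists_usigma hF
  have U := uform_of_pow hσ hf₁
  obtain ⟨t, rfl⟩ : ∃ s, t = s + 1 := ⟨t - 1, by omega⟩
  obtain ⟨c₀, hc₀, hT⟩ := hT
  obtain ⟨T, hTdef⟩ : ∃ T : ((Fin (t + 1) → Fin k) → F) → (Fin n → F),
      T = fun x => (P : Matrix (Fin n) (Fin n) F) *ᵥ (x ∘ e) := ⟨_, rfl⟩
  have hTh : ∀ x y, hermForm n F q (T x) (T y) = c₀ * tp σ f₁ (t + 1) x y := fun x y => by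
    rw [hTdef, tp, show (σ : F → F) = fun x => x ^ q from funext hσ.apply_eq]
    exact (hT x y).trans (by simp [formOfGram, pureM])
  have hTsurj : ∀ v, ∃ x, T x = v := fun v =>
    ⟨(((P⁻¹ : GL (Fin n) F) : Matrix (Fin n) (Fin n) F) *ᵥ v) ∘ e.symm, by
      rw [hTdef]
      simp only [Function.comp_assoc, Equiv.symm_comp_self, Function.comp_id, gl_mulVec_inv_cancel]⟩
  let φ : GL (Fin (t + 1) → Fin k) F ≃* GL (Fin n) F := (glReindex (F := F) e.symm).trans (MulAut.conj P)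
  have hφ : ∀ g x, ((φ g : GL (Fin n) F) : Matrix (Fin n) (Fin n) F) *ᵥ T x =
      T ((g : Matrix (Fin (t + 1) → Fin k) (Fin (t + 1) → Fin k) F) *ᵥ x) := fun g x => by
    have hre : ((glReindex (F := F) e.symm g : GL (Fin n) F) : Matrix (Fin n) (Fin n) F) =
        (g : Matrix (Fin (t + 1) → Fin k) (Fin (t + 1) → Fin k) F).submatrix e e := rfl
    rw [hTdef]
    simp only [φ, MulEquiv.trans_apply, MulAut.conj_apply, gl_mul_mulVec, gl_inv_mulVec_cancel]
    rw [hre, Matrix.submatrix_mulVec_equiv, Function.comp_assoc, Equiv.self_comp_symm, Function.comp_id]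
  have hdet : ∀ g, φ g ∈ specialLinear (Fin n) F ↔
      (g : Matrix (Fin (t + 1) → Fin k) (Fin (t + 1) → Fin k) F).det = 1 := fun g => by
    rw [mem_specialLinear_iff]
    have : ((φ g : GL (Fin n) F) : Matrix (Fin n) (Fin n) F).det =
        (g : Matrix (Fin (t + 1) → Fin k) (Fin (t + 1) → Fin k) F).det := by
      simp only [φ, MulEquiv.trans_apply, MulAut.conj_apply, Units.val_mul, Matrix.det_units_conj]
      exact Matrix.det_reindexAlgEquiv F F e.symm _
    rw [this]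
  have hGU : ∀ g, φ g ∈ GU n F q ↔ ∀ x y, tp σ f₁ (t + 1)
      ((g : Matrix (Fin (t + 1) → Fin k) (Fin (t + 1) → Fin k) F) *ᵥ x)
      ((g : Matrix (Fin (t + 1) → Fin k) (Fin (t + 1) → Fin k) F) *ᵥ y) = tp σ f₁ (t + 1) x y := fun g => by
    rw [mem_GU_iff]
    refine ⟨fun h x y => ?_, fun h u v => ?_⟩
    · have := h (T x) (T y)
      rw [hφ, hφ, hTh, hTh] at this
      exact mul_left_cancel₀ hc₀ this
    · obtain ⟨x, rfl⟩ := hTsurj u
      obtain ⟨y, rfl⟩ := hTsurj v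
      rw [hφ, hφ, hTh, hTh, h]
  have hUs : ∀ g, φ g ∈ GU n F q ⊓ specialLinear (Fin n) F ↔ g ∈ Us σ f₁ (t + 1) := fun g =>
    ⟨fun h => ⟨(hdet g).1 h.2, (hGU g).1 h.1⟩, fun h => ⟨(hGU g).2 h.2, (hdet g).2 h.1⟩⟩
  have hkr : ∀ g, φ g ∈ tensorWreathSubgroup k (t + 1) e P ↔ g ∈ tensorWreathStandard k (t + 1) F := fun g => by
    constructor
    · rintro ⟨y, ⟨x, hx, rfl⟩, hy⟩
      have : φ x = φ g := hy
      rw [← φ.injective this]
      exact hx
    · intro hg
      exact ⟨_, ⟨_, hg, rfl⟩, rfl⟩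
  refine ⟨lt_of_le_of_ne inf_le_right fun hEq => ne_top U hk (show 0 < t by omega)
    (le_antisymm inf_le_right fun g hg => ?_), fun M hM hMS => ?_⟩
  · have : φ g ∈ tensorWreathSubgroup k (t + 1) e P ⊓ (GU n F q ⊓ specialLinear (Fin n) F) :=
      hEq.symm ▸ (hUs g).2 hg
    exact ⟨(hkr g).1 this.1, hg⟩
  rcases maximal U hk hex t (M.comap φ.toMonoidHom) (fun g hg => hM ⟨(hkr g).2 hg.1, (hUs g).2 hg.2⟩)
      (fun g hg => (hUs g).1 (hMS hg)) with h | h
  · refine Or.inl (le_antisymm (fun g hg => ?_) hM)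
    obtain ⟨x, rfl⟩ := φ.surjective g
    have hx : x ∈ Ns σ f₁ (t + 1) := h ▸ (show x ∈ M.comap φ.toMonoidHom from hg)
    exact ⟨(hkr x).2 hx.1, (hUs x).2 hx.2⟩
  · refine Or.inr (le_antisymm hMS fun g hg => ?_)
    obtain ⟨x, rfl⟩ := φ.surjective g
    exact h ((hUs x).1 hg)

end Cfsg.Agent.Classical.TensorPowerMax.Unitary
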